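import Mathlib.GroupTheory.FreeGroup.GeneratorEquiv
import Mathlib.GroupTheory.Schreier
import Mathlib.GroupTheory.Commutator.Finite
import Mathlib.GroupTheory.IsPerfect
import Mathlib.RingTheory.PrincipalIdealDomain
import Mathlib.Algebra.EuclideanDomain.Int
import Mathlib.GroupTheory.QuotientGroup.Finite
import Mathlib.LinearAlgebra.FreeModule.PID
import Mathlib.LinearAlgebra.Dimension.Free
import Mathlib.GroupTheory.Coset.Card
import Cfsg.Prelude.Def_KGroupFacts

/-!
# The Schur multiplier of a finite group via a free presentation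

For a homomorphism `φ : F →* Q` the group `Cov φ = F ⧸ [ker φ, F]` carries the central map
`proj φ : Cov φ →* Q`; its multiplier is `mult φ = ker (proj φ) ⊓ commutator (Cov φ)`.
-/

set_option autoImplicit false

universe u v w x

namespace CfsgLib.Schur

open Subgroup
open scoped commutatorElement

section Central

variable {E : Type u} {E' : Type v} [Group E] [Group E']

/-- A commutator only depends on the classes modulo the centre. -/
theorem commutatorElement_mul_center {a b z w : E} (hz : z ∈ center E) (hw : w ∈ center E) :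
    ⁅a * z, b * w⁆ = ⁅a, b⁆ := by
  have hz' : ∀ g, g * z = z * g := mem_center_iff.mp hz
  have hw' : ∀ g, g * w = w * g := mem_center_iff.mp hw
  simp only [commutatorElement_def, mul_inv_rev]
  calc a * z * (b * w) * (z⁻¹ * a⁻¹) * (w⁻¹ * b⁻¹)
      = a * (z * b) * (w * (z⁻¹ * a⁻¹)) * (w⁻¹ * b⁻¹) := by simp only [mul_assoc]
    _ = a * (b * z) * ((z⁻¹ * a⁻¹) * w) * (w⁻¹ * b⁻¹) := by rw [hz' b, hw' (z⁻¹ * a⁻¹)]
    _ = a * b * a⁻¹ * b⁻¹ := by simp only [mul_assoc, mul_inv_cancel_left]

/-- If the image of `h` supplements the centre, it has the same derived subgroup as the target. -/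
theorem map_commutator_eq_of_center (h : E' →* E) (hh : h.range ⊔ center E = ⊤) :
    (commutator E').map h = commutator E := by
  refine le_antisymm ?_ ?_
  · rw [commutator_def, commutator_def, map_commutator]
    exact commutator_mono le_top le_top
  · rw [commutator_def, commutator_le]
    intro a _ b _
    have ha : a ∈ h.range ⊔ center E := hh ▸ mem_top a
    have hb : b ∈ h.range ⊔ center E := hh ▸ mem_top b
    obtain ⟨_, ⟨a', rfl⟩, z, hz, rfl⟩ := mem_sup_of_normal_right.mp ha
    obtain ⟨_, ⟨b', rfl⟩, z', hz', rfl⟩ := mem_sup_of_normal_right.mp hb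
    rw [commutatorElement_mul_center hz hz', ← map_commutatorElement]
    exact mem_map_of_mem _ (commutator_mem_commutator (mem_top _) (mem_top _))

/-- The derived subgroup of a group which is finite modulo its centre is finite (Schur). -/
theorem finite_commutator_of_finite_quotient_center [Finite (E ⧸ center E)] :
    Finite (commutator E) := by
  have : Finite (commutatorSet E) := by
    refine Set.Finite.to_subtype ((Set.finite_range fun p : (E ⧸ center E) × (E ⧸ center E) =>
      ⁅p.1.out, p.2.out⁆).subset ?_)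
    rintro _ ⟨a, b, rfl⟩
    refine ⟨(QuotientGroup.mk a, QuotientGroup.mk b), ?_⟩
    obtain ⟨z, hz⟩ := QuotientGroup.mk_out_eq_mul (center E) a
    obtain ⟨w, hw⟩ := QuotientGroup.mk_out_eq_mul (center E) b
    simp only [hz, hw]
    exact commutatorElement_mul_center z.2 w.2
  infer_instance

/-- Two homomorphisms that differ by central elements agree on the derived subgroup. -/
theorem eqOn_commutator_of_div_mem_center {f g : E' →* E}
    (h : ∀ x, f x * (g x)⁻¹ ∈ center E) : ∀ x ∈ commutator E', f x = g x := by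
  have hle : commutator E' ≤ f.eqLocus g := by
    rw [commutator_def, commutator_le]
    intro a _ b _
    show f ⁅a, b⁆ = g ⁅a, b⁆
    have ha : f a = g a * ((g a)⁻¹ * (f a * (g a)⁻¹) * g a) := by group
    have hb : f b = g b * ((g b)⁻¹ * (f b * (g b)⁻¹) * g b) := by group
    rw [map_commutatorElement, map_commutatorElement, ha, hb, commutatorElement_mul_center]
    · simpa using (inferInstance : (center E).Normal).conj_mem _ (h a) (g a)⁻¹
    · simpa using (inferInstance : (center E).Normal).conj_mem _ (h b) (g b)⁻¹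
  exact fun x hx => hle hx

end Central

section Construction

variable {F : Type u} [Group F] {Q : Type v} [Group Q] (φ : F →* Q)

/-- The subgroup `[R, F]` for `R = ker φ`. -/
def relComm : Subgroup F := ⁅φ.ker, (⊤ : Subgroup F)⁆

instance relComm_normal : (relComm φ).Normal :=
  commutator_normal φ.ker ⊤

theorem relComm_le_ker : relComm φ ≤ φ.ker := by
  rw [relComm, commutator_le]
  intro a ha b _
  rw [MonoidHom.mem_ker] at ha ⊢
  simp [map_commutatorElement, ha]

/-- `F ⧸ [R, F]`. -/
abbrev Cov : Type u := F ⧸ relComm φ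

/-- The quotient map onto `F ⧸ [R, F]`. -/
abbrev covMk : F →* Cov φ := QuotientGroup.mk' (relComm φ)

/-- The central map `F ⧸ [R, F] →* Q`. -/
def proj : Cov φ →* Q :=
  QuotientGroup.lift (relComm φ) φ (relComm_le_ker φ)

@[simp] theorem proj_covMk (f : F) : proj φ (covMk φ f) = φ f := rfl

theorem proj_surjective (hφ : Function.Surjective φ) : Function.Surjective (proj φ) := fun q =>
  let ⟨f, hf⟩ := hφ q
  ⟨covMk φ f, hf⟩

theorem ker_proj_le_center : (proj φ).ker ≤ center (Cov φ) := by
  intro x hx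
  rw [mem_center_iff]
  obtain ⟨r, rfl⟩ := QuotientGroup.mk'_surjective (relComm φ) x
  intro y
  obtain ⟨f, rfl⟩ := QuotientGroup.mk'_surjective (relComm φ) y
  have h1 : ⁅r, f⁆ ∈ relComm φ :=
    commutator_mem_commutator (MonoidHom.mem_ker.mpr (MonoidHom.mem_ker.mp hx : φ r = 1))
      (mem_top f)
  have h2 : covMk φ ⁅r, f⁆ = 1 := (QuotientGroup.eq_one_iff _).mpr h1
  rw [map_commutatorElement, commutatorElement_eq_one_iff_mul_comm] at h2
  exact h2.symm

/-- The multiplier attached to the presentation `φ`. -/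
def mult : Subgroup (Cov φ) := (proj φ).ker ⊓ commutator (Cov φ)

theorem mult_le_center : mult φ ≤ center (Cov φ) := inf_le_left.trans (ker_proj_le_center φ)

instance mult_normal : (mult φ).Normal := Subgroup.normal_inf_normal _ _

/-- The multiplier is abelian. -/
instance multCommGroup : CommGroup (mult φ) :=
  { (inferInstance : Group (mult φ)) with
    mul_comm := fun a b => Subtype.ext (mem_center_iff.mp (mult_le_center φ b.2) a) }

theorem mult_finite [Finite Q] : Finite (mult φ) := by
  have : Finite (Cov φ ⧸ (proj φ).ker) :=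
    Finite.of_equiv _ (QuotientGroup.quotientKerEquivRange (proj φ)).toEquiv.symm
  have : Finite (Cov φ ⧸ center (Cov φ)) :=
    Finite.of_surjective _ (QuotientGroup.map_surjective_of_surjective (proj φ).ker
      (center (Cov φ)) (MonoidHom.id _) (QuotientGroup.mk'_surjective _)
      (by simpa using ker_proj_le_center φ))
  have := finite_commutator_of_finite_quotient_center (E := Cov φ)
  exact Finite.of_injective _ (Subgroup.inclusion_injective
    (inf_le_right : mult φ ≤ commutator (Cov φ)))

section Universal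

variable {X : Type w} [Group X] {Q' : Type x} [Group Q']

/-- A map from the free group over `γ` factors through `F ⧸ [R, F]`. -/
theorem exists_lift_of_hom (ρ : X →* Q') (hρ : ρ.ker ≤ center X) (γ : Q →* Q') (l : F →* X)
    (hl : ρ.comp l = γ.comp φ) :
    ∃ h : Cov φ →* X, h.comp (covMk φ) = l ∧ ρ.comp h = γ.comp (proj φ) := by
  have hk : relComm φ ≤ l.ker := by
    rw [relComm, commutator_le]
    intro r hr f _
    rw [MonoidHom.mem_ker, map_commutatorElement]
    have : l r ∈ center X := hρ (by
      rw [MonoidHom.mem_ker, ← MonoidHom.comp_apply, hl, MonoidHom.comp_apply,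
        MonoidHom.mem_ker.mp hr, map_one])
    exact commutatorElement_eq_one_iff_mul_comm.mpr (mem_center_iff.mp this (l f)).symm
  refine ⟨QuotientGroup.lift _ l hk, rfl, ?_⟩
  refine QuotientGroup.monoidHom_ext _ ?_
  exact hl

/-- The universal property of `F ⧸ [R, F]` for free `F`. -/
theorem exists_lift [IsFreeGroup F] (ρ : X →* Q') (hρs : Function.Surjective ρ)
    (hρ : ρ.ker ≤ center X) (γ : Q →* Q') :
    ∃ h : Cov φ →* X, ρ.comp h = γ.comp (proj φ) := by
  choose s hs using hρs
  obtain ⟨h, -, hh⟩ := exists_lift_of_hom φ ρ hρ γ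
    (IsFreeGroup.lift fun i => s (γ (φ (IsFreeGroup.of i))))
    (IsFreeGroup.ext_hom fun i => by simp [hs])
  exact ⟨h, hh⟩

/-- A map over `Q` into a central extension sends the multiplier onto `ker ∩ commutator`. -/
theorem map_mult (hφ : Function.Surjective φ) (ρ : X →* Q) (hρ : ρ.ker ≤ center X)
    (h : Cov φ →* X) (hh : ρ.comp h = proj φ) :
    (mult φ).map h = ρ.ker ⊓ commutator X := by
  have hsup : h.range ⊔ center X = ⊤ := by
    refine eq_top_iff.mpr fun e _ => ?_
    obtain ⟨w, hw⟩ := proj_surjective φ hφ (ρ e)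
    have : (h w)⁻¹ * e ∈ center X := hρ (by
      rw [MonoidHom.mem_ker, map_mul, map_inv]
      rw [← MonoidHom.comp_apply ρ h, hh, hw, inv_mul_cancel])
    have hw' : h w ∈ h.range := ⟨w, rfl⟩
    have := mul_mem (mem_sup_left (T := center X) hw') (mem_sup_right (S := h.range) this)
    rwa [mul_inv_cancel_left] at this
  rw [← map_commutator_eq_of_center h hsup]
  ext e
  constructor
  · rintro ⟨m, hm, rfl⟩
    exact ⟨by simpa [← hh] using hm.1, mem_map_of_mem _ hm.2⟩
  · rintro ⟨he, m, hm, rfl⟩
    exact ⟨m, ⟨by simpa [← hh] using he, hm⟩, rfl⟩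

/-- Every central extension of `Q` has `ker ∩ commutator` an image of the multiplier. -/
theorem exists_hom_onto [IsFreeGroup F] (hφ : Function.Surjective φ) (ρ : X →* Q)
    (hρs : Function.Surjective ρ) (hρ : ρ.ker ≤ center X) :
    ∃ π : mult φ →* (ρ.ker ⊓ commutator X : Subgroup X), Function.Surjective π := by
  obtain ⟨h, hh⟩ := exists_lift φ ρ hρs hρ (MonoidHom.id Q)
  have hm := map_mult φ hφ ρ hρ h (by simpa using hh)
  refine ⟨((h.comp (mult φ).subtype)).codRestrict _ fun m => hm.le (mem_map_of_mem h m.2), ?_⟩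
  intro e
  have h2 : (e : X) ∈ (mult φ).map h := hm.ge e.2
  obtain ⟨m, hm', he⟩ := mem_map.mp h2
  exact ⟨⟨m, hm'⟩, Subtype.ext he⟩

theorem exists_hom_onto_stem [IsFreeGroup F] (hφ : Function.Surjective φ) (σ : X →* Q)
    (hσ : Cfsg.IsStemExtension σ) : ∃ π : mult φ →* σ.ker, Function.Surjective π := by
  obtain ⟨π, hπ⟩ := exists_hom_onto φ hφ σ hσ.1 hσ.2.1
  exact ⟨(Subgroup.inclusion inf_le_left).comp π, fun e =>
    (hπ ⟨e, e.2, hσ.2.2 e.2⟩).imp fun m hm => by ext; simp [hm]⟩

end Universal

end Construction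

section Finite

/-- The canonical free presentation of `Q`. -/
def pres (Q : Type u) [Group Q] : FreeGroup Q →* Q := FreeGroup.lift id

theorem pres_surjective (Q : Type u) [Group Q] : Function.Surjective (pres Q) :=
  fun q => ⟨FreeGroup.of q, FreeGroup.lift_apply_of⟩

/-- The Schur multiplier of `Q`. -/
abbrev M (Q : Type u) [Group Q] : Type u := mult (pres Q)

theorem M_finite (Q : Type u) [Group Q] [Finite Q] : Finite (M Q) := mult_finite _

instance (priority := 100) schurMFinite (Q : Type u) [Group Q] [Finite Q] : Finite (M Q) :=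
  M_finite Q

variable (Q : Type u) [Group Q]

/-- `Cov (pres Q)` made abelian: its kernel is the derived subgroup. -/
def covAb : Cov (pres Q) →* Abelianization (FreeGroup Q) :=
  QuotientGroup.lift _ Abelianization.of (by
    rw [relComm, Abelianization.ker_of]
    exact commutator_mono le_top le_top)

theorem covAb_ker : (covAb Q).ker = commutator (Cov (pres Q)) := by
  ext x
  obtain ⟨f, rfl⟩ := QuotientGroup.mk'_surjective _ x
  rw [MonoidHom.mem_ker, show covAb Q (covMk (pres Q) f) = Abelianization.of f from rfl,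
    ← MonoidHom.mem_ker, Abelianization.ker_of,
    ← map_commutator_eq_of_center (covMk (pres Q))
      (by rw [MonoidHom.range_eq_top.mpr (QuotientGroup.mk'_surjective _), top_sup_eq]),
    ← mem_comap, comap_map_eq, QuotientGroup.ker_mk']
  rw [sup_of_le_left]
  exact commutator_mono le_top le_top

/-- A complement of the multiplier in `ker (proj)` inside a given supplement `S`. -/
theorem exists_complement_le [Finite Q] (S : Subgroup (Cov (pres Q)))
    (hS : S ≤ (proj (pres Q)).ker) (hsupS : S ⊔ mult (pres Q) = (proj (pres Q)).ker) :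
    ∃ L : Subgroup (Cov (pres Q)), L ≤ S ∧
      L ⊔ mult (pres Q) = (proj (pres Q)).ker ∧ L ⊓ mult (pres Q) = ⊥ := by
  classical
  have := Fintype.ofFinite Q
  set K := S with hK
  let instK : CommGroup K :=
    { (inferInstance : Group K) with
      mul_comm := fun a b => Subtype.ext (mem_center_iff.mp (ker_proj_le_center _ (hS b.2)) a) }
  let f : Additive K →ₗ[ℤ] FreeAbelianGroup Q :=
    (MonoidHom.toAdditive ((covAb Q).comp K.subtype)).toIntLinearMap
  have : Module.Free ℤ (FreeAbelianGroup Q) := Module.Free.of_basis (FreeAbelianGroup.basis Q)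
  have : Module.Free ℤ (LinearMap.range f) :=
    Module.Free.of_basis (Submodule.basisOfPid (FreeAbelianGroup.basis Q) (LinearMap.range f)).2
  obtain ⟨s, hs⟩ := f.rangeRestrict.exists_rightInverse_of_surjective f.range_rangeRestrict
  have hs' : ∀ y, f (s y) = y := fun y => congrArg Subtype.val (LinearMap.congr_fun hs y)
  have hker : ∀ a : Additive K, f a = 0 ↔
      ((Additive.toMul a : K) : Cov (pres Q)) ∈ mult (pres Q) := by
    intro a
    have : f a = 0 ↔ covAb Q ((Additive.toMul a : K) : Cov (pres Q)) = 1 := Iff.rfl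
    rw [this, ← MonoidHom.mem_ker, covAb_ker]
    exact ⟨fun h => ⟨hS (Additive.toMul a : K).2, h⟩, fun h => h.2⟩
  let L : Subgroup (Cov (pres Q)) :=
    (AddMonoidHom.toMultiplicativeLeft s.toAddMonoidHom).range.map K.subtype
  have hLK : L ≤ K := map_subtype_le _
  refine ⟨L, hLK, le_antisymm (sup_le (hLK.trans hS) inf_le_left) ?_, ?_⟩
  · rw [← hsupS]
    refine sup_le (fun x hx => ?_) le_sup_right
    let a : Additive K := Additive.ofMul ⟨x, hx⟩
    let y := f.rangeRestrict a
    have h1 : ((Additive.toMul (s y) : K) : Cov (pres Q)) ∈ L :=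
      ⟨_, ⟨Multiplicative.ofAdd y, rfl⟩, rfl⟩
    have h0 : f (a - s y) = 0 := by
      rw [map_sub, hs']
      exact sub_self (f a)
    have h2 := (hker _).mp h0
    have h3 := mul_mem (mem_sup_right (S := L) h2) (mem_sup_left (T := mult (pres Q)) h1)
    simpa [a] using h3
  · rw [eq_bot_iff]
    rintro x ⟨⟨_, ⟨y, rfl⟩, rfl⟩, hm⟩
    have h0 : f (s (Multiplicative.toAdd y)) = 0 := (hker _).mpr hm
    rw [hs'] at h0
    have : Multiplicative.toAdd y = 0 := Subtype.ext h0
    simp [AddMonoidHom.toMultiplicativeLeft, this]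

/-- A complement of the multiplier in `ker (proj)`, inside the centre. -/
theorem exists_complement [Finite Q] :
    ∃ L : Subgroup (Cov (pres Q)), L ≤ (proj (pres Q)).ker ∧
      L ⊔ mult (pres Q) = (proj (pres Q)).ker ∧ L ⊓ mult (pres Q) = ⊥ :=
  exists_complement_le Q _ le_rfl (sup_eq_left.mpr inf_le_left)

/-- The quotient of `Cov` by a complement of the multiplier is a Schur cover. -/
theorem cover_of_complement [Finite Q] (L : Subgroup (Cov (pres Q))) [L.Normal]
    (hLK : L ≤ (proj (pres Q)).ker) (hsup : L ⊔ mult (pres Q) = (proj (pres Q)).ker)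
    (hinf : L ⊓ mult (pres Q) = ⊥) :
    Finite (Cov (pres Q) ⧸ L) ∧
      Cfsg.IsStemExtension (QuotientGroup.lift L (proj (pres Q)) hLK) ∧
      Nonempty ((QuotientGroup.lift L (proj (pres Q)) hLK).ker ≃* M Q) := by
  let σ : Cov (pres Q) ⧸ L →* Q := QuotientGroup.lift L (proj (pres Q)) hLK
  let m : M Q →* σ.ker := ((QuotientGroup.mk' L).comp (mult (pres Q)).subtype).codRestrict _
    fun x => MonoidHom.mem_ker.mpr (MonoidHom.mem_ker.mp x.2.1 : proj (pres Q) x.1 = 1)
  have hm : Function.Bijective m := by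
    refine ⟨(injective_iff_map_eq_one m).mpr fun x hx => ?_, fun y => ?_⟩
    · have : (x : Cov (pres Q)) ∈ L ⊓ mult (pres Q) :=
        ⟨(QuotientGroup.eq_one_iff _).mp (congrArg Subtype.val hx), x.2⟩
      rw [hinf, mem_bot] at this
      exact Subtype.ext this
    · obtain ⟨g, hg⟩ := QuotientGroup.mk'_surjective L y.1
      have : g ∈ L ⊔ mult (pres Q) := by
        rw [hsup]
        exact MonoidHom.mem_ker.mpr (by simpa [← hg, σ] using MonoidHom.mem_ker.mp y.2)
      have : g ∈ mult (pres Q) ⊔ L := by rwa [sup_comm]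
      obtain ⟨a, ha, l, hl, rfl⟩ := mem_sup_of_normal_left.mp this
      refine ⟨⟨a, ha⟩, Subtype.ext ?_⟩
      rw [← hg]
      exact QuotientGroup.eq.mpr (by simpa using hl)
  have : Finite σ.ker := Finite.of_surjective m hm.2
  have hσs : Function.Surjective σ := fun q => by
    obtain ⟨x, hx⟩ := proj_surjective _ (pres_surjective Q) q
    exact ⟨x, hx⟩
  have : Finite (Cov (pres Q) ⧸ L) := by
    have : Finite ((Cov (pres Q) ⧸ L) ⧸ σ.ker) :=
      Finite.of_equiv Q (QuotientGroup.quotientKerEquivOfSurjective σ hσs).toEquiv.symm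
    exact Finite.of_subgroup_quotient σ.ker
  refine ⟨this, ⟨hσs, ?_, ?_⟩, ⟨(MulEquiv.ofBijective m hm).symm⟩⟩
  · intro y hy
    obtain ⟨x, hx⟩ := hm.2 ⟨y, hy⟩
    have hxc := mult_le_center _ x.2
    rw [mem_center_iff]
    intro z
    obtain ⟨g, rfl⟩ := QuotientGroup.mk'_surjective L z
    rw [show y = QuotientGroup.mk' L x.1 from (congrArg Subtype.val hx).symm, ← map_mul, ← map_mul,
      mem_center_iff.mp hxc g]
  · intro y hy
    obtain ⟨x, hx⟩ := hm.2 ⟨y, hy⟩
    rw [show y = QuotientGroup.mk' L x.1 from (congrArg Subtype.val hx).symm,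
      ← map_commutator_eq_of_center (QuotientGroup.mk' L)
        (by rw [MonoidHom.range_eq_top.mpr (QuotientGroup.mk'_surjective _), top_sup_eq])]
    exact mem_map_of_mem _ x.2.2

/-- A Schur cover exists. -/
theorem exists_cover [Finite Q] : ∃ (Γ : Type u) (_ : Group Γ) (_ : Finite Γ) (σ : Γ →* Q),
    Cfsg.IsStemExtension σ ∧ Nonempty (σ.ker ≃* M Q) := by
  obtain ⟨L, hLK, hsup, hinf⟩ := exists_complement Q
  have hLn : L.Normal := ⟨fun n hn g => by
    rwa [mem_center_iff.mp (ker_proj_le_center _ (hLK hn)) g, mul_inv_cancel_right]⟩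
  obtain ⟨h1, h2, h3⟩ := cover_of_complement Q L hLK hsup hinf
  exact ⟨_, inferInstance, h1, _, h2, h3⟩

variable {Q}

theorem hasSchurMultiplier_M [Finite Q] : Cfsg.HasSchurMultiplier Q (M Q) :=
  ⟨exists_cover Q, fun Γ _ _ σ hσ => exists_hom_onto_stem _ (pres_surjective Q) σ hσ⟩

/-- Groups satisfying the multiplier predicate are exactly the copies of `M Q`. -/
theorem hasSchurMultiplier_iff [Finite Q] {A : Type v} [CommGroup A] :
    Cfsg.HasSchurMultiplier Q A ↔ Nonempty (A ≃* M Q) := by
  constructor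
  · rintro ⟨⟨Γ, _, _, σ, hσ, ⟨e⟩⟩, huniv⟩
    obtain ⟨a, ha⟩ := exists_hom_onto_stem _ (pres_surjective Q) σ hσ
    let a' : M Q →* A := e.toMonoidHom.comp a
    have ha' : Function.Surjective a' := e.surjective.comp ha
    obtain ⟨Γ', _, _, σ', hσ', ⟨e'⟩⟩ := exists_cover Q
    obtain ⟨b, hb⟩ := huniv Γ' σ' hσ'
    let b' : A →* M Q := e'.toMonoidHom.comp b
    have hb' : Function.Surjective b' := e'.surjective.comp hb
    have hA : Finite A := Finite.of_surjective a' ha'
    exact ⟨MulEquiv.ofBijective b' (hb'.bijective_of_nat_card_le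
      (Nat.card_le_card_of_surjective a' ha'))⟩
  · rintro ⟨e⟩
    obtain ⟨⟨Γ, i1, i2, σ, hσ, ⟨e'⟩⟩, huniv⟩ := hasSchurMultiplier_M (Q := Q)
    refine ⟨⟨Γ, i1, i2, σ, hσ, ⟨e'.trans e.symm⟩⟩, fun Δ _ _ τ hτ => ?_⟩
    obtain ⟨π, hπ⟩ := huniv Δ τ hτ
    exact ⟨π.comp e.toMonoidHom, hπ.comp e.surjective⟩

theorem finite_of_hasSchurMultiplier {A : Type v} [CommGroup A]
    (hA : Cfsg.HasSchurMultiplier Q A) [Finite Q] : Finite A :=
  let ⟨e⟩ := hasSchurMultiplier_iff.mp hA
  Finite.of_equiv _ e.symm.toEquiv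

/-- The multiplier is trivial iff `M Q` is. -/
theorem hasCyclic_one_iff [Finite Q] :
    Cfsg.HasCyclicSchurMultiplier Q 1 ↔ Subsingleton (M Q) := by
  show Cfsg.HasSchurMultiplier Q (Multiplicative (ZMod 1)) ↔ _
  rw [hasSchurMultiplier_iff]
  refine ⟨fun ⟨e⟩ => e.symm.toEquiv.subsingleton, fun h => ?_⟩
  have : Subsingleton (Multiplicative (ZMod 1)) :=
    Multiplicative.toAdd.subsingleton
  exact ⟨⟨⟨fun _ => 1, fun _ => 1, fun _ => Subsingleton.elim _ _, fun _ => Subsingleton.elim _ _⟩,
    fun _ _ => Subsingleton.elim _ _⟩⟩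

/-- With trivial multiplier, central extensions meet the derived subgroup trivially. -/
theorem ker_inf_commutator_eq_bot [Subsingleton (M Q)] {X : Type w} [Group X] (ρ : X →* Q)
    (hρs : Function.Surjective ρ) (hρ : ρ.ker ≤ center X) : ρ.ker ⊓ commutator X = ⊥ := by
  obtain ⟨π, hπ⟩ := exists_hom_onto _ (pres_surjective Q) ρ hρs hρ
  have := hπ.subsingleton
  exact Subgroup.eq_bot_of_subsingleton _

/-- Criterion for trivial multiplier: every finite stem extension has trivial kernel. -/
theorem hasCyclic_one_of_forall [Finite Q]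
    (h : ∀ (Γ : Type u) [Group Γ] [Finite Γ] (σ : Γ →* Q), Cfsg.IsStemExtension σ → σ.ker = ⊥) :
    Cfsg.HasCyclicSchurMultiplier Q 1 := by
  obtain ⟨Γ, _, _, σ, hσ, ⟨e⟩⟩ := exists_cover Q
  rw [hasCyclic_one_iff]
  have hb := h Γ σ hσ
  have h1 : ∀ y : σ.ker, (y : Γ) = 1 := fun y => mem_bot.mp (hb.le y.2)
  exact ⟨fun a b => e.symm.injective (Subtype.ext ((h1 _).trans (h1 _).symm))⟩

end Finite

end CfsgLib.Schur
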