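import Mathlib.GroupTheory.Transfer
import Mathlib.GroupTheory.Abelianization.Defs
import Mathlib.GroupTheory.SpecificGroups.Cyclic
import Mathlib.GroupTheory.Sylow
import Cfsg.Prelude.Def_KGroupFacts

/-!
Vanishing criteria for the kernel of a finite stem extension, prime by prime, from a Sylow subgroup.
-/

set_option autoImplicit false

namespace CfsgLib.SchurSylow

open Subgroup
open scoped commutatorElement

variable {Γ G : Type*} [Group Γ] [Group G]

/-- The transfer theorem: `Z(Γ) ∩ Γ' ∩ P ≤ P'` for a Sylow subgroup `P`. -/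
theorem center_inf_commutator_inf_sylow_le [Finite Γ] {p : ℕ} [hp : Fact p.Prime] (P : Sylow p Γ)
    {z : Γ} (hzc : z ∈ center Γ) (hzd : z ∈ _root_.commutator Γ) (hzP : z ∈ (P : Subgroup Γ)) :
    z ∈ (_root_.commutator (P : Subgroup Γ)).map (P : Subgroup Γ).subtype := by
  classical
  let φ : (P : Subgroup Γ) →* Abelianization (P : Subgroup Γ) := Abelianization.of
  have key : ∀ (k : ℕ) (g₀ : Γ), g₀⁻¹ * z ^ k * g₀ ∈ (P : Subgroup Γ) →
      g₀⁻¹ * z ^ k * g₀ = z ^ k := fun k g₀ _ => by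
    rw [mul_assoc, ← (mem_center_iff.1 ((center Γ).pow_mem hzc k) g₀), inv_mul_cancel_left]
  have h1 : φ ⟨z ^ (P : Subgroup Γ).index, MonoidHom.transfer_eq_pow_aux z key⟩ = 1 := by
    rw [← MonoidHom.transfer_eq_pow φ z key]
    exact Abelianization.commutator_subset_ker (MonoidHom.transfer φ) hzd
  have h2 : φ ⟨z, hzP⟩ ^ (P : Subgroup Γ).index = 1 := by
    rw [← map_pow]; exact h1
  obtain ⟨n, hn⟩ := P.2.exists_card_eq
  have h3 : φ ⟨z, hzP⟩ ^ p ^ n = 1 := by
    rw [← hn, ← map_pow, pow_card_eq_one', map_one]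
  have hcop : Nat.Coprime (p ^ n) (P : Subgroup Γ).index :=
    (hp.out.coprime_iff_not_dvd.2 (Sylow.not_dvd_index P)).pow_left n
  have h4 : φ ⟨z, hzP⟩ = 1 := by
    rw [← orderOf_eq_one_iff]
    exact Nat.eq_one_of_dvd_coprimes hcop (orderOf_dvd_of_pow_eq_one h3)
      (orderOf_dvd_of_pow_eq_one h2)
  refine mem_map.2 ⟨⟨z, hzP⟩, ?_, rfl⟩
  rw [← Abelianization.ker_of]; exact h4

/-- A Sylow subgroup contains every `p`-element of a central subgroup. -/
theorem center_pElement_mem_sylow [Finite Γ] {p : ℕ} [Fact p.Prime] (P : Sylow p Γ) {z : Γ}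
    (hz : z ∈ center Γ) {k : ℕ} (hk : z ^ p ^ k = 1) : z ∈ (P : Subgroup Γ) := by
  have hpg : IsPGroup p (zpowers z) := by
    obtain ⟨j, -, hj⟩ := (Nat.dvd_prime_pow Fact.out).1 (orderOf_dvd_of_pow_eq_one hk)
    exact IsPGroup.of_card (n := j) (by rw [Nat.card_zpowers, hj])
  obtain ⟨Q, hQ⟩ := hpg.exists_le_sylow
  obtain ⟨g, hg⟩ := MulAction.exists_smul_eq Γ Q P
  rw [← hg, Sylow.coe_subgroup_smul]
  refine Subgroup.mem_pointwise_smul_iff_inv_smul_mem.2 ?_
  have : (MulAut.conj g)⁻¹ • z = z := by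
    simp [MulAut.smul_def, MulAut.conj_symm_apply, MulAut.inv_apply,
      (mem_center_iff.1 hz g⁻¹), mul_assoc]
  rw [this]
  exact hQ (mem_zpowers z)

/-- If, for one Sylow `p`-subgroup `P`, the derived subgroup of `P` meets the kernel trivially,
then the kernel of a stem extension has order prime to `p`. -/
theorem not_dvd_card_ker [Finite Γ] {p : ℕ} [Fact p.Prime] (σ : Γ →* G)
    (hc : σ.ker ≤ center Γ) (hd : σ.ker ≤ _root_.commutator Γ) (P : Sylow p Γ)
    (hP : ∀ y ∈ _root_.commutator (P : Subgroup Γ), σ (y : Γ) = 1 → y = 1) :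
    ¬ p ∣ Nat.card σ.ker := by
  intro hdvd
  obtain ⟨z, hz⟩ := exists_prime_orderOf_dvd_card' (G := σ.ker) p hdvd
  have hzP : (z : Γ) ∈ (P : Subgroup Γ) :=
    center_pElement_mem_sylow P (hc z.2) (k := 1)
      (by rw [pow_one, ← hz, ← Subgroup.orderOf_coe]; exact pow_orderOf_eq_one _)
  obtain ⟨y, hy, hyz⟩ := mem_map.1 (center_inf_commutator_inf_sylow_le P (hc z.2) (hd z.2) hzP)
  have : y = 1 := hP y hy (by rw [Subgroup.coe_subtype] at hyz; rw [hyz]; exact z.2)
  rw [this, map_one] at hyz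
  have : z = 1 := Subtype.ext hyz.symm
  rw [this, orderOf_one] at hz
  exact (Fact.out : p.Prime).one_lt.ne hz

theorem commutator_eq_bot_of_comm {P : Type*} [Group P] (h : ∀ x y : P, x * y = y * x) :
    _root_.commutator P = ⊥ := by
  rw [_root_.commutator_def, eq_bot_iff, Subgroup.commutator_le]
  intro x _ y _
  rw [mem_bot, commutatorElement_eq_one_iff_mul_comm, h]

/-- Abelian Sylow subgroup of the total group: no `p`-part in the kernel. -/
theorem not_dvd_card_ker_of_comm [Finite Γ] {p : ℕ} [Fact p.Prime] (σ : Γ →* G)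
    (hc : σ.ker ≤ center Γ) (hd : σ.ker ≤ _root_.commutator Γ) (P : Sylow p Γ)
    (hP : ∀ x y, x ∈ (P : Subgroup Γ) → y ∈ (P : Subgroup Γ) → x * y = y * x) :
    ¬ p ∣ Nat.card σ.ker :=
  not_dvd_card_ker σ hc hd P fun y hy _ => by
    rw [commutator_eq_bot_of_comm (fun x y => Subtype.ext (hP x y x.2 y.2))] at hy
    exact hy

/-- If the image of the Sylow subgroup is cyclic, no `p`-part in the kernel. -/
theorem not_dvd_card_ker_of_cyclic [Finite Γ] {p : ℕ} [Fact p.Prime] (σ : Γ →* G)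
    (hc : σ.ker ≤ center Γ) (hd : σ.ker ≤ _root_.commutator Γ) (P : Sylow p Γ)
    [IsCyclic ((P : Subgroup Γ).map σ)] : ¬ p ∣ Nat.card σ.ker := by
  refine not_dvd_card_ker_of_comm σ hc hd P fun x y hx hy => ?_
  let τ := σ.subgroupMap (P : Subgroup Γ)
  have hker : τ.ker ≤ center (P : Subgroup Γ) := by
    intro z hz
    have h1 : σ (z : Γ) = 1 := congrArg Subtype.val hz
    exact mem_center_iff.2 fun g => Subtype.ext (mem_center_iff.1 (hc h1) g)
  have := MonoidHom.isMulCommutative_of_isCyclic_of_ker_le_center τ hker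
  exact congrArg Subtype.val (this.is_comm.comm ⟨x, hx⟩ ⟨y, hy⟩)

/-- A central extension of a group `⟨a, b⟩` with `b a b⁻¹ = a⁻¹`, `b² = aᵐ`, `|a| = 2m` has
derived subgroup meeting the kernel trivially. -/
theorem commutator_inf_ker_of_quaternion {P Q : Type*} [Group P] [Group Q] (τ : P →* Q)
    (hτ : Function.Surjective τ) (hc : τ.ker ≤ center P) {a b : Q} {m : ℕ}
    (hgen : Subgroup.closure ({a, b} : Set Q) = ⊤) (hab : b * a * b⁻¹ = a⁻¹) (hb : b * b = a ^ m)
    (hord : orderOf a = 2 * m) {y : P} (hy : y ∈ _root_.commutator P) (hy1 : τ y = 1) : y = 1 := by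
  obtain ⟨A, rfl⟩ := hτ a
  obtain ⟨B, rfl⟩ := hτ b
  have cen : ∀ z : P, τ z = 1 → ∀ g : P, g * z = z * g := fun z hz g => mem_center_iff.1 (hc hz) g
  set z1 := A * (B * A * B⁻¹) with hz1
  have hz1k : τ z1 = 1 := by simp [hz1, hab]
  have hconj : B * A * B⁻¹ = A⁻¹ * z1 := by simp [hz1]
  set z2 := (A ^ m)⁻¹ * (B * B) with hz2
  have hz2k : τ z2 = 1 := by simp [hz2, hb]
  have hAm : B * A ^ m * B⁻¹ = A ^ m := by
    have h1 : A ^ m = B * B * z2⁻¹ := by rw [hz2]; group
    have h2 : B * z2⁻¹ = z2⁻¹ * B := cen _ (by simp [hz2k]) B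
    rw [h1]
    calc B * (B * B * z2⁻¹) * B⁻¹ = B * B * (B * z2⁻¹) * B⁻¹ := by simp only [mul_assoc]
      _ = B * B * z2⁻¹ := by rw [h2]; simp only [mul_assoc, mul_inv_cancel, mul_one]
  have hcomm1 : Commute A⁻¹ z1 := cen z1 hz1k A⁻¹
  have hz1m : z1 ^ m = A ^ m * A ^ m := by
    have : B * A ^ m * B⁻¹ = (A ^ m)⁻¹ * z1 ^ m := by
      rw [← conj_pow, hconj, hcomm1.mul_pow, inv_pow]
    rw [hAm] at this
    calc z1 ^ m = A ^ m * ((A ^ m)⁻¹ * z1 ^ m) := by simp
      _ = A ^ m * A ^ m := by rw [← this]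
  set c := A⁻¹ * A⁻¹ * z1 with hcdef
  have hcm : c ^ m = 1 := by
    have hcc : Commute (A⁻¹ * A⁻¹) z1 := cen z1 hz1k _
    rw [hcdef, hcc.mul_pow, hz1m, (Commute.refl A⁻¹).mul_pow, inv_pow]
    group
  have hAc : A * c * A⁻¹ = c := by
    rw [hcdef, show A * (A⁻¹ * A⁻¹ * z1) * A⁻¹ = A⁻¹ * (z1 * A⁻¹) by group, ← cen z1 hz1k A⁻¹]
    group
  have hBc : B * c * B⁻¹ = c⁻¹ := by
    have hBz : B * z1 * B⁻¹ = z1 := by rw [cen z1 hz1k B]; group
    calc B * c * B⁻¹ = (B * A * B⁻¹)⁻¹ * (B * A * B⁻¹)⁻¹ * (B * z1 * B⁻¹) := by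
          rw [hcdef]; group
      _ = (A⁻¹ * z1)⁻¹ * (A⁻¹ * z1)⁻¹ * z1 := by rw [hconj, hBz]
      _ = z1⁻¹ * A * (z1⁻¹ * A * z1) := by group
      _ = z1⁻¹ * A * A := by
          rw [show z1⁻¹ * A * z1 = A by rw [mul_assoc, cen z1 hz1k A, inv_mul_cancel_left]]
      _ = c⁻¹ := by simp [hcdef, mul_assoc]
  set N := zpowers c
  have hspan : Subgroup.closure ({A, B} : Set P) ⊔ τ.ker = ⊤ := by
    rw [← comap_map_eq, MonoidHom.map_closure, Set.image_pair, hgen, comap_top]
  have hnorm : N.Normal := by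
    refine normalizer_eq_top_iff.1 (top_le_iff.1 ?_)
    rw [← hspan, sup_le_iff, closure_le]
    refine ⟨?_, fun z hz => ?_⟩
    · rintro g (rfl | rfl)
      · rw [SetLike.mem_coe, mem_normalizer_iff]
        intro h
        have hh : ∀ k : ℤ, g * c ^ k * g⁻¹ = c ^ k := fun k => by rw [← conj_zpow, hAc]
        constructor
        · rintro ⟨k, rfl⟩; exact ⟨k, (hh k).symm⟩
        · rintro ⟨k, hk⟩
          exact ⟨k, mul_left_cancel (mul_right_cancel (a := g * c ^ k) (b := g⁻¹)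
            ((hh k).trans hk))⟩
      · rw [SetLike.mem_coe, mem_normalizer_iff]
        intro h
        have hh : ∀ k : ℤ, g * c ^ k * g⁻¹ = c ^ (-k) := fun k => by
          rw [← conj_zpow, hBc, inv_zpow']
        constructor
        · rintro ⟨k, rfl⟩; exact ⟨-k, (hh k).symm⟩
        · rintro ⟨k, hk⟩
          exact ⟨-k, mul_left_cancel (mul_right_cancel (a := g * c ^ (-k)) (b := g⁻¹)
            (by rw [hh (-k), neg_neg]; exact hk))⟩
    · rw [mem_normalizer_iff]
      intro h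
      rw [show z * h * z⁻¹ = h by rw [← cen z hz h, mul_inv_cancel_right]]

  have hle : _root_.commutator P ≤ N := by
    have hAB : Commute (A : P ⧸ N) (B : P ⧸ N) := by
      show ((A * B : P) : P ⧸ N) = ((B * A : P) : P ⧸ N)
      rw [QuotientGroup.eq]
      have hBA : B * A = A⁻¹ * z1 * B := by rw [← hconj]; group
      have : (A * B)⁻¹ * (B * A) = B⁻¹ * c * B := by rw [hBA, hcdef]; group
      rw [this]
      exact (hnorm.conj_mem c (mem_zpowers c) B⁻¹ |> fun h => by simpa using h)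
    have hall : ∀ x w : P ⧸ N, x * w = w * x := by
      have htop : Subgroup.centralizer ({(A : P ⧸ N), (B : P ⧸ N)} : Set (P ⧸ N)) = ⊤ := by
        rw [← top_le_iff, ← map_top_of_surjective (QuotientGroup.mk' N) (QuotientGroup.mk'_surjective N),
          ← hspan, Subgroup.map_sup, sup_le_iff]
        refine ⟨?_, ?_⟩
        · rw [MonoidHom.map_closure, closure_le, Set.image_pair]
          rintro x (rfl | rfl) <;> rw [SetLike.mem_coe, mem_centralizer_iff] <;>
            rintro w (rfl | rfl)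
          exacts [rfl, hAB.symm.eq, hAB.eq, rfl]
        · rintro x ⟨z, hz, rfl⟩
          rw [mem_centralizer_iff]
          rintro w (rfl | rfl) <;> exact congrArg (fun u : P => (u : P ⧸ N)) (cen z hz _)
      have hcen : ∀ g : P ⧸ N, g * (A : P ⧸ N) = A * g ∧ g * (B : P ⧸ N) = B * g := by
        intro g
        have hg : g ∈ Subgroup.centralizer ({(A : P ⧸ N), (B : P ⧸ N)} : Set (P ⧸ N)) :=
          htop ▸ mem_top g
        rw [mem_centralizer_iff] at hg
        exact ⟨(hg _ (Or.inl rfl)).symm, (hg _ (Or.inr rfl)).symm⟩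
      have hctop : center (P ⧸ N) = ⊤ := by
        rw [← top_le_iff, ← map_top_of_surjective (QuotientGroup.mk' N) (QuotientGroup.mk'_surjective N),
          ← hspan, Subgroup.map_sup, sup_le_iff]
        refine ⟨?_, ?_⟩
        · rw [MonoidHom.map_closure, closure_le, Set.image_pair]
          rintro x (rfl | rfl) <;> rw [SetLike.mem_coe, mem_center_iff] <;> intro g
          exacts [(hcen g).1, (hcen g).2]
        · rintro x ⟨z, hz, rfl⟩
          rw [mem_center_iff]
          intro g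
          obtain ⟨g, rfl⟩ := QuotientGroup.mk'_surjective N g
          exact congrArg (fun u : P => (u : P ⧸ N)) (cen z hz g)
      exact fun x w => mem_center_iff.1 (hctop ▸ mem_top w) x
    rw [_root_.commutator_def, Subgroup.commutator_le]
    intro x _ w _
    rw [← QuotientGroup.eq_one_iff]
    show (QuotientGroup.mk' N) ⁅x, w⁆ = 1
    rw [map_commutatorElement]
    exact commutatorElement_eq_one_iff_mul_comm.2 (hall _ _)
  obtain ⟨k, rfl⟩ := hle hy
  have hsq : orderOf (τ c) = m := by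
    have : τ c = (τ A ^ 2)⁻¹ := by simp [hcdef, hz1k, pow_two, mul_inv_rev]
    rw [this, orderOf_inv, orderOf_pow_of_dvd two_ne_zero (by rw [hord]; exact dvd_mul_right 2 m), hord,
      Nat.mul_div_cancel_left m two_pos]
  have hdk : (m : ℤ) ∣ k := by
    rw [← hsq, orderOf_dvd_iff_zpow_eq_one, ← map_zpow]; exact hy1
  obtain ⟨j, rfl⟩ := hdk
  show c ^ ((m : ℤ) * j) = 1
  rw [zpow_mul, zpow_natCast, hcm, one_zpow]

/-- Generalized quaternion image: no `p`-part in the kernel. -/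
theorem not_dvd_card_ker_of_quaternion [Finite Γ] {p : ℕ} [Fact p.Prime] (σ : Γ →* G)
    (hc : σ.ker ≤ center Γ) (hd : σ.ker ≤ _root_.commutator Γ) (P : Sylow p Γ)
    {a b : (P : Subgroup Γ).map σ} {m : ℕ} (hgen : Subgroup.closure {a, b} = ⊤)
    (hab : b * a * b⁻¹ = a⁻¹) (hb : b * b = a ^ m) (hord : orderOf a = 2 * m) :
    ¬ p ∣ Nat.card σ.ker := by
  refine not_dvd_card_ker σ hc hd P fun y hy hy1 => ?_
  refine commutator_inf_ker_of_quaternion (σ.subgroupMap (P : Subgroup Γ))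
    (σ.subgroupMap_surjective _) ?_ hgen hab hb hord hy (Subtype.ext hy1)
  intro z hz
  have h1 : σ (z : Γ) = 1 := congrArg Subtype.val hz
  exact mem_center_iff.2 fun g => Subtype.ext (mem_center_iff.1 (hc h1) g)

/-- A finite group whose stem extensions are all injective has trivial Schur multiplier. -/
theorem hasCyclicSchurMultiplier_one.{u} {G : Type u} [Group G] [Finite G]
    (h : ∀ (Γ : Type u) [Group Γ] [Finite Γ] (σ : Γ →* G), Cfsg.IsStemExtension σ → σ.ker = ⊥) :
    Cfsg.HasCyclicSchurMultiplier G 1 := by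
  refine ⟨⟨G, inferInstance, inferInstance, MonoidHom.id G, ⟨Function.surjective_id, ?_, ?_⟩, ?_⟩, ?_⟩
  · rw [MonoidHom.ker_id]; exact bot_le
  · rw [MonoidHom.ker_id]; exact bot_le
  · have : Subsingleton (MonoidHom.id G).ker := by
      rw [MonoidHom.ker_id]; infer_instance
    exact ⟨{ toFun := fun _ => 1, invFun := fun _ => 1, left_inv := fun _ => Subsingleton.elim _ _,
             right_inv := fun _ => Subsingleton.elim _ _, map_mul' := fun _ _ => Subsingleton.elim _ _ }⟩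
  · intro Γ _ _ σ hσ
    refine ⟨1, fun z => ⟨1, ?_⟩⟩
    have := h Γ σ hσ
    exact Subtype.ext (((Subgroup.eq_bot_iff_forall _).1 this z.1 z.2).symm)

end CfsgLib.SchurSylow
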