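import Mathlib.LinearAlgebra.Matrix.SpecialLinearGroup
import Mathlib.LinearAlgebra.Matrix.Adjugate
import Mathlib.LinearAlgebra.Matrix.NonsingularInverse
import Mathlib.FieldTheory.IsAlgClosed.AlgebraicClosure
import Mathlib.RingTheory.IntegralDomain
import Mathlib.GroupTheory.PGroup
import Mathlib.FieldTheory.Finite.Basic
import Mathlib.Algebra.CharP.Two
import Mathlib.LinearAlgebra.Matrix.CharP
import Mathlib.Algebra.Polynomial.Roots
import Mathlib.Tactic
import Cfsg.Agent.Lib.Schur.Sylow

/-!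
Stem extensions of `SL(2, q)`: the prime-to-`p` parts vanish, and the `p`-part vanishes for `q ≠ 4, 9`.
-/

set_option autoImplicit false
set_option linter.unusedSimpArgs false
set_option linter.unusedSectionVars false
set_option linter.unnecessarySeqFocus false
set_option linter.style.haveILetI false

namespace CfsgLib.SchurSL2

open Matrix Polynomial
open scoped MatrixGroups commutatorElement

universe u

variable {F : Type u} [Field F]

local notation "M2" => Matrix (Fin 2) (Fin 2) F

/-- `x` is a scalar matrix. -/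
def IsScalarMat (x : M2) : Prop := x 0 1 = 0 ∧ x 1 0 = 0 ∧ x 0 0 = x 1 1

theorem IsScalarMat.comm {x : M2} (h : IsScalarMat x) (y : M2) : x * y = y * x := by
  obtain ⟨h1, h2, h3⟩ := h
  ext i j
  fin_cases i <;> fin_cases j <;> simp [Matrix.mul_apply, Fin.sum_univ_two, h1, h2, h3] <;> ring

theorem poly_of_commute {x y : M2} (hx : ¬ IsScalarMat x) (h : x * y = y * x) :
    ∃ c : F × F, y = c.1 • (1 : M2) + c.2 • x := by
  have e00 := congrFun (congrFun h 0) 0
  have e01 := congrFun (congrFun h 0) 1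
  have e10 := congrFun (congrFun h 1) 0
  simp only [Matrix.mul_apply, Fin.sum_univ_two] at e00 e01 e10
  by_cases h01 : x 0 1 = 0
  · by_cases h10 : x 1 0 = 0
    · have hd : x 1 1 - x 0 0 ≠ 0 := fun hd => hx ⟨h01, h10, (sub_eq_zero.1 hd).symm⟩
      rw [h01] at e01; rw [h10] at e10
      have y01 : y 0 1 = 0 := mul_right_cancel₀ hd (by linear_combination -e01)
      have y10 : y 1 0 = 0 := mul_right_cancel₀ hd (by linear_combination e10)
      refine ⟨(y 0 0 - (y 1 1 - y 0 0) / (x 1 1 - x 0 0) * x 0 0,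
        (y 1 1 - y 0 0) / (x 1 1 - x 0 0)), ?_⟩
      ext i j
      fin_cases i <;> fin_cases j <;> simp [h01, h10, y01, y10] <;> field_simp <;> ring
    · rw [h01] at e00 e01
      have y01 : y 0 1 = 0 := mul_right_cancel₀ h10 (by linear_combination -e00)
      refine ⟨(y 0 0 - y 1 0 / x 1 0 * x 0 0, y 1 0 / x 1 0), ?_⟩
      ext i j
      fin_cases i <;> fin_cases j <;> simp [h01, h10, y01] <;> field_simp
      linear_combination -e10
  · refine ⟨(y 0 0 - y 0 1 / x 0 1 * x 0 0, y 0 1 / x 0 1), ?_⟩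
    ext i j
    fin_cases i <;> fin_cases j <;> simp [h01] <;> field_simp
    · linear_combination e00
    · linear_combination e01

theorem coeff_unique {x : M2} (hx : ¬ IsScalarMat x) {a b a' b' : F}
    (h : a • (1 : M2) + b • x = a' • (1 : M2) + b' • x) : a = a' ∧ b = b' := by
  have hb : b = b' := by
    by_contra hne
    have hd : b - b' ≠ 0 := sub_ne_zero.2 hne
    apply hx
    have e00 := congrFun (congrFun h 0) 0
    have e01 := congrFun (congrFun h 0) 1
    have e10 := congrFun (congrFun h 1) 0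
    have e11 := congrFun (congrFun h 1) 1
    simp at e00 e01 e10 e11
    refine ⟨?_, ?_, ?_⟩
    · exact e01.resolve_left hne
    · exact e10.resolve_left hne
    · exact mul_left_cancel₀ hd (by linear_combination e00 - e11)
  subst hb
  exact ⟨by simpa using congrFun (congrFun h 0) 0, rfl⟩

theorem cayley (g : SL(2, F)) :
    (g : M2) * (g : M2) = ((g : M2) 0 0 + (g : M2) 1 1) • (g : M2) - 1 := by
  have hdet : (g : M2) 0 0 * (g : M2) 1 1 - (g : M2) 0 1 * (g : M2) 1 0 = 1 := by
    rw [← Matrix.det_fin_two]; exact g.2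
  ext i j
  fin_cases i <;> fin_cases j <;> simp [Matrix.mul_apply, Fin.sum_univ_two]
  · linear_combination -hdet
  · ring
  · ring
  · linear_combination -hdet

theorem commute_of_isScalarMat {g : SL(2, F)} (hg : IsScalarMat (g : M2)) (h : SL(2, F)) :
    g * h = h * g := Subtype.ext (hg.comm _)

theorem sq_eq_one_of_isScalarMat {g : SL(2, F)} (hg : IsScalarMat (g : M2)) : g * g = 1 := by
  obtain ⟨h1, h2, h3⟩ := hg
  have hdet : (g : M2) 0 0 * (g : M2) 1 1 - (g : M2) 0 1 * (g : M2) 1 0 = 1 := by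
    rw [← Matrix.det_fin_two]; exact g.2
  rw [h1, h3] at hdet
  ext i j
  fin_cases i <;> fin_cases j <;>
    simp [Matrix.mul_apply, Fin.sum_univ_two, h1, h2, h3] <;> linear_combination hdet

theorem isScalarMat_of_sq_eq_one (h2F : (2 : F) ≠ 0) {g : SL(2, F)} (hg : g * g = 1) :
    IsScalarMat (g : M2) := by
  have hc := cayley g
  rw [← Matrix.SpecialLinearGroup.coe_mul, hg, Matrix.SpecialLinearGroup.coe_one] at hc
  set t := (g : M2) 0 0 + (g : M2) 1 1
  have h00 := congrFun (congrFun hc 0) 0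
  have h01 := congrFun (congrFun hc 0) 1
  have h10 := congrFun (congrFun hc 1) 0
  have h11 := congrFun (congrFun hc 1) 1
  simp at h00 h01 h10 h11
  have ht : t ≠ 0 := fun ht => h2F (by rw [ht] at h00; linear_combination h00)
  refine ⟨h01.resolve_left ht, h10.resolve_left ht, mul_left_cancel₀ ht ?_⟩
  linear_combination h11 - h00

section chi

variable (p : ℕ) [Fact p.Prime] [CharP F p]

/-- On a subgroup centralizing a nonscalar element and without elements of order `p`, the
eigenvalue on a common eigenvector is an injective character satisfying the characteristic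
equation. -/
theorem exists_eigenvalue_hom {x : SL(2, F)} (hx : ¬ IsScalarMat (x : M2)) (A : Subgroup SL(2, F))
    (hcomm : ∀ y ∈ A, x * y = y * x) (hp : ∀ y ∈ A, y ^ p = 1 → y = 1) :
    ∃ χ : A →* AlgebraicClosure F, Function.Injective χ ∧
      ∀ y : A, χ y * χ y - algebraMap F (AlgebraicClosure F)
        (((y : SL(2, F)) : M2) 0 0 + ((y : SL(2, F)) : M2) 1 1) * χ y + 1 = 0 := by
  let K := AlgebraicClosure F
  set t := (x : M2) 0 0 + (x : M2) 1 1 with ht
  obtain ⟨l, hl⟩ := IsAlgClosed.exists_root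
    (Polynomial.X ^ 2 - Polynomial.C (algebraMap F K t) * Polynomial.X + 1)
    (by
      have : (Polynomial.X ^ 2 - Polynomial.C (algebraMap F K t) * Polynomial.X + 1).natDegree = 2 := by
        compute_degree!
      intro h
      rw [Polynomial.degree_eq_natDegree, this] at h
      · norm_num at h
      · intro h0; rw [h0, Polynomial.natDegree_zero] at this; omega)
  have hl2 : l * l = algebraMap F K t * l - 1 := by
    simp [Polynomial.IsRoot] at hl
    linear_combination hl
  have hex : ∀ y : A, ∃ c : F × F, ((y : SL(2, F)) : M2) = c.1 • (1 : M2) + c.2 • (x : M2) :=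
    fun y => poly_of_commute hx (congrArg Subtype.val (hcomm y y.2))
  choose c hc using hex
  let f : A → K := fun y => algebraMap F K (c y).1 + algebraMap F K (c y).2 * l
  have hfeq : ∀ (y : A) a b, ((y : SL(2, F)) : M2) = a • (1 : M2) + b • (x : M2) →
      f y = algebraMap F K a + algebraMap F K b * l := by
    intro y a b h
    obtain ⟨h1, h2⟩ := coeff_unique hx ((hc y).symm.trans h)
    simp only [f, h1, h2]
  have hf1 : f 1 = 1 := by rw [hfeq 1 1 0 (by simp)]; simp
  have hfm : ∀ y y' : A, f (y * y') = f y * f y' := by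
    intro y y'
    rw [hfeq (y * y') ((c y).1 * (c y').1 - (c y).2 * (c y').2)
      ((c y).1 * (c y').2 + (c y).2 * (c y').1 + (c y).2 * (c y').2 * t)]
    · simp only [f, map_sub, map_add, map_mul]
      linear_combination -(algebraMap F K (c y).2 * algebraMap F K (c y').2) * hl2
    · rw [Subgroup.coe_mul, Matrix.SpecialLinearGroup.coe_mul, hc y, hc y', add_mul, mul_add,
        mul_add, smul_mul_smul_comm, smul_mul_smul_comm, smul_mul_smul_comm, smul_mul_smul_comm,
        cayley x, one_mul, one_mul, mul_one, smul_sub, smul_smul]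
      module
  let χ : A →* K := { toFun := f, map_one' := hf1, map_mul' := hfm }
  have htr : ∀ y : A, ((y : SL(2, F)) : M2) 0 0 + ((y : SL(2, F)) : M2) 1 1 =
      2 * (c y).1 + (c y).2 * t := by
    intro y; rw [hc y]; simp [ht]; ring
  have hdet : ∀ y : A, (c y).1 ^ 2 + (c y).1 * (c y).2 * t + (c y).2 ^ 2 = 1 := by
    intro y
    have h := (y : SL(2, F)).2
    rw [hc y, Matrix.det_fin_two] at h
    have hxd : (x : M2) 0 0 * (x : M2) 1 1 - (x : M2) 0 1 * (x : M2) 1 0 = 1 := by
      rw [← Matrix.det_fin_two]; exact x.2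
    simp at h
    rw [ht]
    linear_combination h - (c y).2 ^ 2 * hxd
  refine ⟨χ, ?_, fun y => ?_⟩
  · rw [injective_iff_map_eq_one]
    intro y hy
    have hy' : algebraMap F K (c y).1 + algebraMap F K (c y).2 * l = 1 := hy
    by_cases hb : (c y).2 = 0
    · rw [hb, map_zero, zero_mul, add_zero] at hy'
      have : (c y).1 = 1 := (algebraMap F K).injective (hy'.trans (map_one _).symm)
      apply Subtype.ext; apply Subtype.ext
      rw [hc y, hb, this]; simp
    · apply Subtype.ext
      refine hp _ y.2 ?_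
      have hd := congrArg (algebraMap F K) (hdet y)
      simp only [map_add, map_mul, map_pow, map_one] at hd
      have hbK : algebraMap F K (c y).2 ≠ 0 := (_root_.map_ne_zero _).2 hb
      have h2l : algebraMap F K (c y).2 * (algebraMap F K t - 2 * l) = 0 := by
        linear_combination hd - (algebraMap F K (c y).2) ^ 2 * hl2 -
          (algebraMap F K (c y).1 + 1 - algebraMap F K (c y).2 * l +
            algebraMap F K (c y).2 * algebraMap F K t) * hy'
      have htr2 : ((y : SL(2, F)) : M2) 0 0 + ((y : SL(2, F)) : M2) 1 1 = 2 := by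
        apply (algebraMap F K).injective
        rw [htr y]
        simp only [map_add, map_mul, map_ofNat]
        linear_combination 2 * hy' + h2l
      have hsq : (((y : SL(2, F)) : M2) - 1) ^ 2 = 0 := by
        rw [pow_two, sub_mul, mul_sub, one_mul, mul_one, cayley, htr2]
        module
      apply Subtype.ext
      rw [Matrix.SpecialLinearGroup.coe_pow, Matrix.SpecialLinearGroup.coe_one]
      have : CharP M2 p := inferInstance
      have h := sub_pow_char_of_commute (p := p) (Commute.one_right ((y : SL(2, F)) : M2))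
      rw [one_pow, show p = 2 + (p - 2) from by have := (Fact.out : p.Prime).two_le; omega,
        pow_add _ 2 (p - 2), hsq, zero_mul] at h
      rw [show p = 2 + (p - 2) from by have := (Fact.out : p.Prime).two_le; omega]
      exact sub_eq_zero.1 h.symm
  · show (algebraMap F K (c y).1 + algebraMap F K (c y).2 * l) *
        (algebraMap F K (c y).1 + algebraMap F K (c y).2 * l) -
      algebraMap F K _ * (algebraMap F K (c y).1 + algebraMap F K (c y).2 * l) + 1 = 0
    have hd := congrArg (algebraMap F K) (hdet y)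
    simp only [map_add, map_mul, map_pow, map_one] at hd
    rw [htr y]
    simp only [map_add, map_mul, map_ofNat]
    linear_combination (algebraMap F K (c y).2) ^ 2 * hl2 - hd

/-- Sylow subgroups for primes other than the characteristic: cyclic or generalized quaternion. -/
theorem cyclic_or_quaternion [Finite F] {r : ℕ} [hr : Fact r.Prime] (hrp : r ≠ p)
    (Q : Subgroup SL(2, F)) (hQ : IsPGroup r Q) :
    IsCyclic Q ∨ ∃ (a b : Q) (m : ℕ), Subgroup.closure {a, b} = ⊤ ∧ b * a * b⁻¹ = a⁻¹ ∧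
      b * b = a ^ m ∧ orderOf a = 2 * m := by
  classical
  have : Finite SL(2, F) := inferInstance
  have hp : ∀ y ∈ Q, y ^ p = 1 → y = 1 := by
    intro y hy h
    obtain ⟨k, hk⟩ := hQ ⟨y, hy⟩
    have hk' : y ^ r ^ k = 1 := congrArg Subtype.val hk
    exact orderOf_eq_one_iff.1 (Nat.eq_one_of_dvd_coprimes
      (((Nat.coprime_primes hr.out Fact.out).2 hrp).pow_left k)
      (orderOf_dvd_of_pow_eq_one hk') (orderOf_dvd_of_pow_eq_one h))
  by_cases hz : ∃ z ∈ Subgroup.center Q, ¬ IsScalarMat ((z : SL(2, F)) : M2)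
  · obtain ⟨z, hzc, hzs⟩ := hz
    obtain ⟨χ, hχ, -⟩ := exists_eigenvalue_hom p hzs Q
      (fun y hy => congrArg Subtype.val (Subgroup.mem_center_iff.1 hzc ⟨y, hy⟩).symm) hp
    exact Or.inl (isCyclic_of_injective_ringHom χ hχ)
  push Not at hz
  have hcen : ∀ z : Q, IsScalarMat ((z : SL(2, F)) : M2) → z ∈ Subgroup.center Q := fun z h =>
    Subgroup.mem_center_iff.2 fun g => Subtype.ext (commute_of_isScalarMat h g.1).symm
  rcases eq_or_ne r 2 with rfl | hr2
  swap
  · -- odd prime: the centre has no nontrivial scalar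
    refine Or.inl ?_
    have hbot : Subgroup.center Q = ⊥ := by
      rw [Subgroup.eq_bot_iff_forall]
      intro z hzc
      obtain ⟨k, hk⟩ := hQ z
      have hsq : z * z = 1 := Subtype.ext (sq_eq_one_of_isScalarMat (hz z hzc))
      refine orderOf_eq_one_iff.1 (Nat.eq_one_of_dvd_coprimes
        (((Nat.coprime_primes hr.out Nat.prime_two).2 hr2).pow_left k)
        (orderOf_dvd_of_pow_eq_one hk) (orderOf_dvd_of_pow_eq_one (by rw [pow_two, hsq])))
    rcases subsingleton_or_nontrivial Q with h | h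
    · infer_instance
    · exact absurd hbot ((Subgroup.nontrivial_iff_ne_bot _).1 (IsPGroup.center_nontrivial hQ))
  have h2F : (2 : F) ≠ 0 := by
    intro h
    have := (CharP.cast_eq_zero_iff F p 2).1 (by exact_mod_cast h)
    exact hrp ((Nat.prime_dvd_prime_iff_eq Fact.out Nat.prime_two).1 this).symm
  by_cases htop : Subgroup.center Q = ⊤
  · -- everything is scalar
    refine Or.inl (isCyclic_of_injective_ringHom
      ({ toFun := fun z : Q => ((z : SL(2, F)) : M2) 0 0
         map_one' := by simp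
         map_mul' := fun y y' => by
           obtain ⟨h1, -, -⟩ := hz y (htop ▸ Subgroup.mem_top y)
           simp [Matrix.mul_apply, Fin.sum_univ_two, h1] } : Q →* F) ?_)
    intro y y' h
    obtain ⟨a1, a2, a3⟩ := hz y (htop ▸ Subgroup.mem_top y)
    obtain ⟨b1, b2, b3⟩ := hz y' (htop ▸ Subgroup.mem_top y')
    have h' : ((y : SL(2, F)) : M2) 0 0 = ((y' : SL(2, F)) : M2) 0 0 := h
    apply Subtype.ext; ext i j
    fin_cases i <;> fin_cases j <;> simp [a1, a2, b1, b2, h', ← a3, ← b3]
  refine Or.inr ?_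
  have hQf : IsPGroup 2 (Q ⧸ Subgroup.center Q) := hQ.to_quotient _
  have : Nontrivial (Q ⧸ Subgroup.center Q) := QuotientGroup.nontrivial_iff.2 htop
  have := hQf.center_nontrivial
  obtain ⟨⟨abar, habar⟩, hne⟩ := exists_ne (1 : Subgroup.center (Q ⧸ Subgroup.center Q))
  obtain ⟨a, rfl⟩ := QuotientGroup.mk_surjective abar
  have haZ : a ∉ Subgroup.center Q := fun h =>
    hne (Subtype.ext ((QuotientGroup.eq_one_iff a).2 h))
  have has : ¬ IsScalarMat ((a : SL(2, F)) : M2) := fun h => haZ (hcen a h)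
  have hcomm : ∀ g : Q, g * a * g⁻¹ * a⁻¹ ∈ Subgroup.center Q := by
    intro g
    rw [← QuotientGroup.eq_one_iff]
    have h := Subgroup.mem_center_iff.1 habar (g : Q ⧸ Subgroup.center Q)
    simp only [QuotientGroup.mk_mul, QuotientGroup.mk_inv]
    rw [h]; group
  let A : Subgroup Q := Subgroup.centralizer {a}
  have hAmem : ∀ y : Q, y ∈ A ↔ a * y = y * a := fun y => by
    simp [A, Subgroup.mem_centralizer_iff]
  obtain ⟨χ, hχ, hχq⟩ := exists_eigenvalue_hom p has (A.map Q.subtype)
    (by rintro y ⟨y, hy, rfl⟩; exact congrArg Subtype.val ((hAmem y).1 hy))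
    (by rintro y ⟨y, -, rfl⟩; exact hp _ y.2)
  let e : A ≃* A.map Q.subtype := A.equivMapOfInjective _ Q.subtype_injective
  let ψ : A →* AlgebraicClosure F := χ.comp e.toMonoidHom
  have hψ : Function.Injective ψ := hχ.comp e.injective
  have hcyc : IsCyclic A := isCyclic_of_injective_ringHom ψ hψ
  obtain ⟨a0, ha0⟩ := IsCyclic.exists_generator (α := A)
  have hψq : ∀ y : A, ψ y * ψ y - algebraMap F (AlgebraicClosure F)
      ((((y : Q) : SL(2, F)) : M2) 0 0 + (((y : Q) : SL(2, F)) : M2) 1 1) * ψ y + 1 = 0 :=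
    fun y => hχq (e y)
  have ha0c : ∀ g : Q, g * a0.1 = a0.1 * g → g ∈ A := by
    intro g hg
    obtain ⟨k, hk⟩ := Subgroup.mem_zpowers_iff.1 (ha0 ⟨a, (hAmem a).2 rfl⟩)
    have hk' : a0.1 ^ k = a := by simpa using congrArg Subtype.val hk
    exact (hAmem g).2 (by rw [← hk']; exact (Commute.zpow_right hg k).eq.symm)
  have hconjA : ∀ g : Q, g * a0.1 * g⁻¹ ∈ A := by
    intro g
    have hw := Subgroup.mem_center_iff.1 (hcomm g) (g * a0.1 * g⁻¹)
    have hca : (g * a * g⁻¹) * (g * a0.1 * g⁻¹) = (g * a0.1 * g⁻¹) * (g * a * g⁻¹) := by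
      simp only [mul_assoc, inv_mul_cancel_left]
      rw [← mul_assoc a, (hAmem a0.1).1 a0.2, mul_assoc]
    refine (hAmem _).2 ?_
    generalize g * a0.1 * g⁻¹ = y at hw hca ⊢
    generalize hζ : g * a * g⁻¹ * a⁻¹ = z at hw
    have hga : g * a * g⁻¹ = z * a := by rw [← hζ]; group
    rw [hga, mul_assoc, ← mul_assoc y, hw, mul_assoc] at hca
    exact mul_left_cancel hca
  have hdich : ∀ g : Q, g ∉ A → g * a0.1 * g⁻¹ = a0.1⁻¹ := by
    intro g hg
    have hq1 := hψq ⟨_, hconjA g⟩
    have hq2 := hψq a0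
    have htr : ((((g * a0.1 * g⁻¹ : Q) : SL(2, F)) : M2)).trace =
        (((a0.1 : Q) : SL(2, F)) : M2).trace := by
      simp only [Subgroup.coe_mul, Subgroup.coe_inv, Matrix.SpecialLinearGroup.coe_mul]
      rw [Matrix.trace_mul_comm, ← mul_assoc, ← Matrix.SpecialLinearGroup.coe_mul,
        inv_mul_cancel, Matrix.SpecialLinearGroup.coe_one, one_mul]
    simp only [Matrix.trace_fin_two] at htr
    rw [show (((⟨_, hconjA g⟩ : A) : Q)) = g * a0.1 * g⁻¹ from rfl, htr] at hq1
    have h1 : (ψ ⟨_, hconjA g⟩ - ψ a0) * (ψ ⟨_, hconjA g⟩ * ψ a0 - 1) = 0 := by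
      linear_combination ψ a0 * hq1 - ψ ⟨_, hconjA g⟩ * hq2
    rcases mul_eq_zero.1 h1 with h | h
    · exfalso
      apply hg; apply ha0c
      have := congrArg Subtype.val (hψ (sub_eq_zero.1 h))
      simp only at this
      calc g * a0.1 = g * a0.1 * g⁻¹ * g := by group
        _ = a0.1 * g := by rw [this]
    · rw [sub_eq_zero, ← map_mul] at h
      have := congrArg Subtype.val (hψ (h.trans (map_one ψ).symm))
      exact eq_inv_of_mul_eq_one_left (by simpa using this)
  obtain ⟨b, hb⟩ : ∃ b, b ∉ A := by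
    by_contra h
    push Not at h
    exact haZ (Subgroup.mem_center_iff.2 fun g => ((hAmem g).1 (h g)).symm)
  have hba := hdich b hb
  have hb2A : b * b ∈ A := by
    apply ha0c
    calc b * b * a0.1 = b * (b * a0.1 * b⁻¹) * b := by group
      _ = b * a0.1⁻¹ * b := by rw [hba]
      _ = (b * a0.1 * b⁻¹)⁻¹ * (b * b) := by group
      _ = a0.1 * (b * b) := by rw [hba, inv_inv]
  have hb2 : (b * b) * (b * b) = 1 := by
    obtain ⟨k, hk⟩ := Subgroup.mem_zpowers_iff.1 (ha0 ⟨b * b, hb2A⟩)
    have hk' : a0.1 ^ k = b * b := by simpa using congrArg Subtype.val hk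
    have h : b * a0.1 ^ k * b⁻¹ = (a0.1 ^ k)⁻¹ := by rw [← conj_zpow, hba, inv_zpow]
    rw [hk'] at h
    calc b * b * (b * b) = b * b * (b * (b * b) * b⁻¹) := by group
      _ = 1 := by rw [h, mul_inv_cancel]
  have hb21 : b * b ≠ 1 := fun h => hb ((hAmem b).2
    (Subgroup.mem_center_iff.1 (hcen b (isScalarMat_of_sq_eq_one h2F (congrArg Subtype.val h))) a))
  have hord2 : orderOf (⟨b * b, hb2A⟩ : A) = 2 := orderOf_eq_prime (p := 2)
    (Subtype.ext (by simpa [pow_two] using hb2)) (fun h => hb21 (congrArg Subtype.val h))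
  have hdvd : 2 ∣ orderOf a0 := by
    have h2 := orderOf_dvd_natCard (⟨b * b, hb2A⟩ : A)
    rwa [hord2, ← orderOf_eq_card_of_forall_mem_zpowers ha0] at h2
  obtain ⟨m, hm⟩ := hdvd
  have hm0 : m ≠ 0 := by
    rintro rfl
    exact (orderOf_pos a0).ne' (by rw [hm])
  refine ⟨a0.1, b, m, ?_, hba, ?_, by rw [Subgroup.orderOf_coe]; exact hm⟩
  · rw [eq_top_iff]
    intro g _
    have hA : ∀ y ∈ A, y ∈ Subgroup.closure ({a0.1, b} : Set Q) := by
      intro y hy
      obtain ⟨k, hk⟩ := Subgroup.mem_zpowers_iff.1 (ha0 ⟨y, hy⟩)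
      have hk' : a0.1 ^ k = y := by simpa using congrArg Subtype.val hk
      rw [← hk']
      exact Subgroup.zpow_mem _ (Subgroup.subset_closure (by simp)) k
    by_cases hg : g ∈ A
    · exact hA g hg
    · have hgb : g * b⁻¹ ∈ A := by
        apply ha0c
        have h1 := hdich g hg
        have h2 : b⁻¹ * a0.1 * b = a0.1⁻¹ := by
          calc b⁻¹ * a0.1 * b = b⁻¹ * (b * a0.1 * b⁻¹)⁻¹ * b := by rw [hba, inv_inv]
            _ = a0.1⁻¹ := by group
        calc g * b⁻¹ * a0.1 = g * (b⁻¹ * a0.1 * b) * b⁻¹ := by group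
          _ = (g * a0.1 * g⁻¹)⁻¹ * (g * b⁻¹) := by rw [h2]; group
          _ = a0.1 * (g * b⁻¹) := by rw [h1, inv_inv]
      rw [show g = g * b⁻¹ * b by group]
      exact Subgroup.mul_mem _ (hA _ hgb) (Subgroup.subset_closure (by simp))
  · have hord : orderOf (a0 ^ m) = 2 := by
      rw [orderOf_pow_of_dvd hm0 (by rw [hm]; exact dvd_mul_left m 2), hm,
        Nat.mul_div_cancel _ (Nat.pos_of_ne_zero hm0)]
    have hroot : ∀ y : A, orderOf y = 2 → ψ y = -1 := by
      intro y hy
      have h' := pow_orderOf_eq_one y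
      rw [hy] at h'
      have h : ψ y ^ 2 = 1 := by rw [← map_pow, h', map_one]
      refine (sq_eq_one_iff.1 h).resolve_left fun h1 => ?_
      rw [hψ (h1.trans (map_one ψ).symm), orderOf_one] at hy
      omega
    have := congrArg Subtype.val (hψ ((hroot _ hord2).trans (hroot _ hord).symm))
    simpa using this

end chi

section upper

/-- The upper unitriangular matrices of `SL(2, F)`. -/
def IsUpperUni (g : SL(2, F)) : Prop := (g : M2) 0 0 = 1 ∧ (g : M2) 1 0 = 0

/-- The upper unitriangular element with corner `s`. -/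
def uel (s : F) : SL(2, F) := ⟨!![1, s; 0, 1], by simp [Matrix.det_fin_two]⟩

theorem uel_mul (s r : F) : uel s * uel r = uel (s + r) := by
  apply Subtype.ext
  show (!![1, s; 0, 1] : M2) * !![1, r; 0, 1] = !![1, s + r; 0, 1]
  ext i j; fin_cases i <;> fin_cases j <;> simp <;> ring

theorem uel_zero : (uel 0 : SL(2, F)) = 1 := by
  ext i j; fin_cases i <;> fin_cases j <;> simp [uel]

theorem isUpperUni_iff (g : SL(2, F)) : IsUpperUni g ↔ ∃ s, g = uel s := by
  constructor
  · rintro ⟨h0, h1⟩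
    refine ⟨(g : M2) 0 1, ?_⟩
    have hdet : (g : M2) 0 0 * (g : M2) 1 1 - (g : M2) 0 1 * (g : M2) 1 0 = 1 := by
      rw [← Matrix.det_fin_two]; exact g.2
    rw [h0, h1, one_mul, mul_zero, sub_zero] at hdet
    ext i j; fin_cases i <;> fin_cases j <;> simp [uel, h0, h1, hdet]
  · rintro ⟨s, rfl⟩; simp [IsUpperUni, uel]

/-- A `p`-subgroup in characteristic `p` is conjugate into the upper unitriangular matrices. -/
theorem exists_conj_upperUni [Finite F] (p : ℕ) [Fact p.Prime] [CharP F p]
    (Q : Subgroup SL(2, F)) (hQ : IsPGroup p Q) :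
    ∃ h : SL(2, F), ∀ g ∈ Q, IsUpperUni (h⁻¹ * g * h) := by
  classical
  let : MulAction Q (Fin 2 → F) :=
    { smul := fun g v => ((g : SL(2, F)) : M2) *ᵥ v
      one_smul := fun v => by
        show (((1 : Q) : SL(2, F)) : M2) *ᵥ v = v
        simp
      mul_smul := fun g g' v => by
        show (((g * g' : Q) : SL(2, F)) : M2) *ᵥ v = _ *ᵥ (_ *ᵥ v)
        simp [Matrix.mulVec_mulVec] }
  have hdvd : p ∣ Nat.card (Fin 2 → F) := by
    have := Fintype.ofFinite F
    obtain ⟨n, hn, hcard⟩ := FiniteField.card F p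
    rw [Nat.card_eq_fintype_card, Fintype.card_fun, hcard, ← pow_mul, Fintype.card_fin]
    exact dvd_pow_self p (by simp)
  obtain ⟨v, hv, hv0⟩ := hQ.exists_fixed_point_of_prime_dvd_card_of_fixed_point (Fin 2 → F) hdvd
    (show (0 : Fin 2 → F) ∈ MulAction.fixedPoints Q (Fin 2 → F) from fun g => Matrix.mulVec_zero _)
  obtain ⟨h, hh0, hh1⟩ : ∃ h : SL(2, F), (h : M2) 0 0 = v 0 ∧ (h : M2) 1 0 = v 1 := by
    by_cases h0 : v 0 = 0
    · have h1 : v 1 ≠ 0 := fun h1 => hv0 (by ext i; fin_cases i <;> simp [h0, h1])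
      exact ⟨⟨!![0, -(v 1)⁻¹; v 1, 0], by simp [Matrix.det_fin_two, h1]⟩, by simp [h0], by simp⟩
    · exact ⟨⟨!![v 0, 0; v 1, (v 0)⁻¹], by simp [Matrix.det_fin_two, h0]⟩, by simp, by simp⟩
  refine ⟨h, fun g hg => ?_⟩
  have hfix : (g : M2) *ᵥ v = v := hv ⟨g, hg⟩
  have hcol : (g : M2) *ᵥ (fun i => (h : M2) i 0) = fun i => (h : M2) i 0 := by
    have : (fun i => (h : M2) i 0) = v := by ext i; fin_cases i <;> simp [hh0, hh1]
    rw [this, hfix]
  have hkey : ((h⁻¹ * g * h : SL(2, F)) : M2) *ᵥ ![1, 0] = ![1, 0] := by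
    have e : ((h : M2) *ᵥ ![1, 0]) = fun i => (h : M2) i 0 := by
      ext i; simp [Matrix.mulVec, dotProduct, Fin.sum_univ_two]
    rw [Matrix.SpecialLinearGroup.coe_mul, Matrix.SpecialLinearGroup.coe_mul, mul_assoc,
      ← Matrix.mulVec_mulVec, ← Matrix.mulVec_mulVec, e, hcol, ← e, Matrix.mulVec_mulVec,
      ← Matrix.SpecialLinearGroup.coe_mul, inv_mul_cancel, Matrix.SpecialLinearGroup.coe_one,
      Matrix.one_mulVec]
  constructor
  · simpa [Matrix.mulVec, dotProduct, Fin.sum_univ_two] using congrFun hkey 0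
  · simpa [Matrix.mulVec, dotProduct, Fin.sum_univ_two] using congrFun hkey 1

end upper

section main

variable [Finite F]

/-- A stem extension of `SL(2, q)` in which the preimage of the upper unitriangular group is
abelian is an isomorphism. -/
theorem injective_of_upper_preimage_comm {D : Type*} [Group D] [Finite D] (f : D →* SL(2, F))
    (hf : Function.Surjective f) (hc : f.ker ≤ Subgroup.center D) (hd : f.ker ≤ commutator D)
    (hU : ∀ x y, IsUpperUni (f x) → IsUpperUni (f y) → x * y = y * x) :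
    Function.Injective f := by
  obtain ⟨p, hcp⟩ := CharP.exists F
  have := hcp
  have hp : Fact p.Prime := ⟨(CharP.char_is_prime_or_zero F p).resolve_right (CharP.char_ne_zero_of_finite F p)⟩
  rw [← MonoidHom.ker_eq_bot_iff]
  by_contra hne
  have h1 : Nat.card f.ker ≠ 1 := fun h => hne (Subgroup.card_eq_one.1 h)
  obtain ⟨r, hr, hrdvd⟩ := Nat.exists_prime_and_dvd h1
  have := Fact.mk hr
  let P : Sylow r D := default
  have hQ : IsPGroup r ((P : Subgroup D).map f) := P.2.map f
  by_cases hrp : r = p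
  · subst hrp
    obtain ⟨h, hh⟩ := exists_conj_upperUni r _ hQ
    obtain ⟨k, rfl⟩ := hf h
    refine SchurSylow.not_dvd_card_ker_of_comm f hc hd P (fun x y hx hy => ?_) hrdvd
    have := hU (k⁻¹ * x * k) (k⁻¹ * y * k)
      (by simpa using hh _ (Subgroup.mem_map_of_mem f hx))
      (by simpa using hh _ (Subgroup.mem_map_of_mem f hy))
    calc x * y = k * ((k⁻¹ * x * k) * (k⁻¹ * y * k)) * k⁻¹ := by group
      _ = k * ((k⁻¹ * y * k) * (k⁻¹ * x * k)) * k⁻¹ := by rw [this]
      _ = y * x := by group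
  · rcases cyclic_or_quaternion p hrp _ hQ with hcy | ⟨a, b, m, hgen, hab, hb, hord⟩
    · exact SchurSylow.not_dvd_card_ker_of_cyclic f hc hd P hrdvd
    · exact SchurSylow.not_dvd_card_ker_of_quaternion f hc hd P hgen hab hb hord hrdvd

/-- The diagonal element `diag(t, t⁻¹)`. -/
def tor (t : Fˣ) : SL(2, F) := ⟨!![(t : F), 0; 0, (t : F)⁻¹], by simp [Matrix.det_fin_two]⟩

/-- Conjugating torus elements scale the unipotent corner by a square. -/
theorem torus_conj_uel (t : Fˣ) (s : F) : tor t * uel s = uel ((t : F) ^ 2 * s) * tor t := by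
  apply Subtype.ext
  show (!![(t : F), 0; 0, (t : F)⁻¹] : M2) * !![1, s; 0, 1] =
    !![1, (t : F) ^ 2 * s; 0, 1] * !![(t : F), 0; 0, (t : F)⁻¹]
  ext i j
  fin_cases i <;> fin_cases j <;> simp <;> field_simp

/-- Existence of a square `a²` with `1 + a²` a nonzero square and `a⁴ + a² + 1 ≠ 0`. -/
theorem exists_good_square [Fintype F] (p n : ℕ) [hp : Fact p.Prime] [CharP F p] (hn : 2 ≤ n)
    (hcard : Fintype.card F = p ^ n) (h4 : Fintype.card F ≠ 4) (h9 : Fintype.card F ≠ 9) :
    ∃ a b : F, a ≠ 0 ∧ b ≠ 0 ∧ 1 + a ^ 2 = b ^ 2 ∧ a ^ 4 + a ^ 2 + 1 ≠ 0 := by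
  have hroot : ∀ (P : F[X]) (d : ℕ), P ≠ 0 → P.natDegree ≤ d → d < Fintype.card F →
      ∃ s, P.eval s ≠ 0 := by
    intro P d hP hd hdq
    by_contra h
    push Not at h
    exact hP (Polynomial.eq_zero_of_natDegree_lt_card_of_eval_eq_zero P (f := id)
      Function.injective_id h (lt_of_le_of_lt hd hdq))
  by_cases hp2 : p = 2
  · subst hp2
    have hq : 8 ≤ Fintype.card F := by
      rw [hcard] at h4 ⊢
      have : n ≠ 2 := fun h => h4 (by rw [h]; norm_num)
      exact le_trans (by norm_num) (Nat.pow_le_pow_right two_pos (show 3 ≤ n by omega))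
    have hm : (X * (X + 1) * (X ^ 2 + X + 1) : F[X]).Monic := by monicity!
    obtain ⟨s, hs⟩ := hroot _ 4 hm.ne_zero (by compute_degree!) (by omega)
    simp only [eval_mul, eval_add, eval_X, eval_one, eval_pow] at hs
    have h2 : (2 : F) = 0 := CharP.cast_eq_zero F 2
    refine ⟨s, s + 1, left_ne_zero_of_mul (left_ne_zero_of_mul hs),
      right_ne_zero_of_mul (left_ne_zero_of_mul hs), by linear_combination -s * h2, ?_⟩
    have : s ^ 4 + s ^ 2 + 1 = (s ^ 2 + s + 1) ^ 2 := by
      linear_combination -(s ^ 3 + s ^ 2 + s) * h2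
    rw [this]; exact pow_ne_zero _ (right_ne_zero_of_mul hs)
  · have hq : 25 ≤ Fintype.card F := by
      rw [hcard] at h9 ⊢
      rcases Nat.lt_or_ge p 5 with h | h
      · obtain rfl : p = 3 := by
          have := hp.out.two_le
          interval_cases p <;> first | rfl | exact absurd rfl hp2 | exact absurd hp.out (by norm_num)
        have : n ≠ 2 := fun h => h9 (by rw [h]; norm_num)
        exact le_trans (by norm_num) (Nat.pow_le_pow_right (by norm_num) (show 3 ≤ n by omega))
      · exact le_trans (by nlinarith) (Nat.pow_le_pow_right (by omega) hn)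
    have h2 : (2 : F) ≠ 0 := by
      intro h
      exact hp2 ((Nat.prime_dvd_prime_iff_eq hp.out Nat.prime_two).1
        ((CharP.cast_eq_zero_iff F p 2).1 (by exact_mod_cast h)))
    have hm : (X * (X ^ 4 - 1) *
        ((X ^ 2 - 1) ^ 4 + C 4 * X ^ 2 * (X ^ 2 - 1) ^ 2 + C 16 * X ^ 4) : F[X]).Monic := by
      monicity!
    obtain ⟨s, hs⟩ := hroot _ 13 hm.ne_zero (by compute_degree!) (by omega)
    simp only [eval_mul, eval_add, eval_sub, eval_X, eval_one, eval_pow, eval_C] at hs
    have hs0 := left_ne_zero_of_mul (left_ne_zero_of_mul hs)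
    have hs4 := right_ne_zero_of_mul (left_ne_zero_of_mul hs)
    have hs8 := right_ne_zero_of_mul hs
    have h2s : 2 * s ≠ 0 := mul_ne_zero h2 hs0
    refine ⟨(s ^ 2 - 1) / (2 * s), (s ^ 2 + 1) / (2 * s),
      div_ne_zero (fun h => hs4 (by linear_combination (s ^ 2 + 1) * h)) h2s,
      div_ne_zero (fun h => hs4 (by linear_combination (s ^ 2 - 1) * h)) h2s, ?_, ?_⟩
    · field_simp; ring
    · intro h
      field_simp at h
      apply hs8
      linear_combination h

/-- For `q ≠ 4, 9` the preimage of the upper unitriangular group in a central extension is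
abelian. -/
theorem upper_preimage_comm [Fintype F] (h4 : Fintype.card F ≠ 4) (h9 : Fintype.card F ≠ 9)
    {D : Type*} [Group D] (f : D →* SL(2, F))
    (hf : Function.Surjective f) (hc : f.ker ≤ Subgroup.center D)
    (x y : D) (hx : IsUpperUni (f x)) (hy : IsUpperUni (f y)) : x * y = y * x := by
  classical
  obtain ⟨p, hcp⟩ := CharP.exists F
  have := hcp
  obtain ⟨n, hp, hcard⟩ := FiniteField.card F p
  have := Fact.mk hp
  obtain ⟨s, hs⟩ := (isUpperUni_iff _).1 hx
  obtain ⟨r, hr⟩ := (isUpperUni_iff _).1 hy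
  have cen : ∀ z, f z = 1 → ∀ g : D, g * z = z * g := fun z hz g =>
    Subgroup.mem_center_iff.1 (hc hz) g
  choose L hL using fun s : F => hf (uel s)
  -- the commutator only depends on the images
  have hindep : ∀ a a' b b' : D, f a = f a' → f b = f b' → ⁅a, b⁆ = ⁅a', b'⁆ := by
    intro a a' b b' ha hb
    have h1 : ∀ g, g * (a'⁻¹ * a) = (a'⁻¹ * a) * g := cen _ (by simp [ha])
    have h2 : ∀ g, g * (b'⁻¹ * b) = (b'⁻¹ * b) * g := cen _ (by simp [hb])
    generalize hu : a'⁻¹ * a = u at h1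
    generalize hv : b'⁻¹ * b = v at h2
    have ha' : a = a' * u := by rw [← hu]; group
    have hb' : b = b' * v := by rw [← hv]; group
    subst ha' hb'
    calc ⁅a' * u, b' * v⁆ = a' * (u * (b' * v)) * u⁻¹ * a'⁻¹ * v⁻¹ * b'⁻¹ := by
          rw [commutatorElement_def]; group
      _ = a' * b' * (v * a'⁻¹) * v⁻¹ * b'⁻¹ := by rw [← h1 (b' * v)]; group
      _ = ⁅a', b'⁆ := by rw [← h2 a'⁻¹, commutatorElement_def]; group
  let B : F → F → D := fun s r => ⁅L s, L r⁆
  have hBk : ∀ s r, f (B s r) = 1 := fun s r => by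
    simp only [B, map_commutatorElement, hL, commutatorElement_eq_one_iff_mul_comm, uel_mul,
      add_comm]
  have hB : ∀ a b s r, f a = uel s → f b = uel r → ⁅a, b⁆ = B s r := fun a b s r ha hb =>
    hindep _ _ _ _ (ha.trans (hL s).symm) (hb.trans (hL r).symm)
  have haddl : ∀ s s' r, B (s + s') r = B s r * B s' r := fun s s' r => by
    rw [← hB (L s * L s') (L r) (s + s') r (by rw [map_mul, hL, hL, uel_mul]) (hL r),
      ← cen _ (hBk s r) _, show B s' r = ⁅L s', L r⁆ from rfl, show B s r = ⁅L s, L r⁆ from rfl]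
    have := cen _ (hBk s' r) (L s)
    simp only [B] at this
    calc ⁅L s * L s', L r⁆ = L s * ⁅L s', L r⁆ * (L r * (L s)⁻¹ * (L r)⁻¹) := by
          simp only [commutatorElement_def]; group
      _ = ⁅L s', L r⁆ * L s * (L r * (L s)⁻¹ * (L r)⁻¹) := by rw [this]
      _ = ⁅L s', L r⁆ * ⁅L s, L r⁆ := by simp only [commutatorElement_def]; group
  have haddr : ∀ s r r', B s (r + r') = B s r * B s r' := fun s r r' => by
    rw [← hB (L s) (L r * L r') s (r + r') (hL s) (by rw [map_mul, hL, hL, uel_mul])]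
    have := cen _ (hBk s r') (L r)
    simp only [B] at this ⊢
    calc ⁅L s, L r * L r'⁆ = ⁅L s, L r⁆ * (L r * ⁅L s, L r'⁆) * (L r)⁻¹ := by
          simp only [commutatorElement_def]; group
      _ = ⁅L s, L r⁆ * ⁅L s, L r'⁆ := by rw [this]; group
  have hinv : ∀ (t : Fˣ) s r, B ((t : F) ^ 2 * s) ((t : F) ^ 2 * r) = B s r := fun t s r => by
    obtain ⟨T, hT⟩ := hf (tor t)
    have hc' : ∀ s, f (T * L s * T⁻¹) = uel ((t : F) ^ 2 * s) := fun s => by
      rw [map_mul, map_mul, map_inv, hT, hL, torus_conj_uel, mul_inv_cancel_right]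
    rw [← hB _ _ _ _ (hc' s) (hc' r)]
    calc ⁅T * L s * T⁻¹, T * L r * T⁻¹⁆ = T * ⁅L s, L r⁆ * T⁻¹ := by
          simp only [commutatorElement_def]; group
      _ = B s r := by rw [cen _ (hBk s r) T, mul_inv_cancel_right]
  have hB1 : ∀ s r, B s r = 1 := by
    by_cases hn : (n : ℕ) = 1
    · -- prime field: the group of unipotents is cyclic
      intro s r
      rw [hn, pow_one] at hcard
      have hgen : ∀ s : F, ∃ k : ℕ, s = k := fun s =>
        ((ZMod.castHom_bijective F hcard).2 s).elim fun z hz =>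
          ⟨z.val, by rw [← hz, ZMod.castHom_apply, ZMod.cast_eq_val]⟩
      obtain ⟨i, rfl⟩ := hgen s
      obtain ⟨j, rfl⟩ := hgen r
      have hpow : ∀ k : ℕ, f (L 1 ^ k) = uel (k : F) := by
        intro k
        induction k with
        | zero => rw [pow_zero, map_one, Nat.cast_zero, uel_zero]
        | succ k ih => rw [pow_succ, map_mul, ih, hL, uel_mul, Nat.cast_succ]
      rw [← hB _ _ _ _ (hpow i) (hpow j)]
      exact commutatorElement_eq_one_iff_mul_comm.2 ((Commute.refl (L 1)).pow_pow i j)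
    · obtain ⟨a, b, ha, hb, hab, hne⟩ := exists_good_square p n
        (by have := n.pos; omega) hcard h4 h9
      have hswap : ∀ (t : F), t ≠ 0 → ∀ s r, B (t ^ 2 * s) r = B s ((t ^ 2)⁻¹ * r) := by
        intro t ht s r
        have h := hinv (Units.mk0 t ht) s ((t ^ 2)⁻¹ * r)
        rwa [Units.val_mk0, ← mul_assoc, mul_inv_cancel₀ (pow_ne_zero _ ht), one_mul] at h
      have hzero : ∀ s, B s 0 = 1 := fun s => by
        have := haddr s 0 0
        rwa [add_zero, left_eq_mul] at this
      have hkey : ∀ s r, B s ((1 + (a ^ 2)⁻¹ - (b ^ 2)⁻¹) * r) = 1 := by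
        intro s r
        have h1 := hswap b hb s r
        rw [← hab, add_mul, one_mul, haddl, hswap a ha, ← haddr] at h1
        have h2 := haddr s ((1 + (a ^ 2)⁻¹ - (b ^ 2)⁻¹) * r) ((b ^ 2)⁻¹ * r)
        rw [← hab] at h2
        rw [show (1 + (a ^ 2)⁻¹ - (1 + a ^ 2)⁻¹) * r + (1 + a ^ 2)⁻¹ * r =
          r + (a ^ 2)⁻¹ * r by ring, h1, right_eq_mul] at h2
        rw [← hab]; exact h2
      have hc0 : 1 + (a ^ 2)⁻¹ - (b ^ 2)⁻¹ ≠ 0 := by
        intro h
        field_simp at h
        exact hne (by linear_combination h + (a ^ 2 + 1) * hab)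
      intro s r
      have := hkey s (r / (1 + (a ^ 2)⁻¹ - (b ^ 2)⁻¹))
      rwa [mul_div_cancel₀ _ hc0] at this
  rw [← commutatorElement_eq_one_iff_mul_comm, hB x y s r hs hr, hB1]

/-- `SL(2, q)` has trivial Schur multiplier for `q ≠ 4, 9`: stem extensions are injective. -/
theorem stem_ker_eq_bot [Fintype F] (h4 : Fintype.card F ≠ 4) (h9 : Fintype.card F ≠ 9)
    {D : Type*} [Group D] [Finite D] (f : D →* SL(2, F)) (hf : Cfsg.IsStemExtension f) :
    f.ker = ⊥ :=
  (MonoidHom.ker_eq_bot_iff f).2 <| injective_of_upper_preimage_comm f hf.1 hf.2.1 hf.2.2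
    (upper_preimage_comm h4 h9 f hf.1 hf.2.1)

end main

end CfsgLib.SchurSL2
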