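import Cfsg.Agent.Lib.Schur.Bound

/-!
Criteria for a trivial Schur multiplier: lifts of Sylow generators commute because of the action of a normalising
element.
-/

set_option autoImplicit false

namespace CfsgLib.SchurTrivial

open Subgroup
open scoped commutatorElement

universe u

variable {Γ G : Type*} [Group Γ] [Group G] {σ : Γ →* G}

theorem mem_center_comm (hc : σ.ker ≤ center Γ) {A B : Γ} (h : σ A * σ B = σ B * σ A) :
    ⁅A, B⁆ ∈ center Γ :=
  hc (by rw [MonoidHom.mem_ker, map_commutatorElement]; exact commutatorElement_eq_one_iff_mul_comm.2 h)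

theorem comm_congr (hc : σ.ker ≤ center Γ) {A A' B B' : Γ} (ha : σ A = σ A') (hb : σ B = σ B') :
    ⁅A, B⁆ = ⁅A', B'⁆ := by
  have hz : A'⁻¹ * A ∈ center Γ := hc (by simp [MonoidHom.mem_ker, ha])
  have hw : B'⁻¹ * B ∈ center Γ := hc (by simp [MonoidHom.mem_ker, hb])
  conv_lhs => rw [show A = A' * (A'⁻¹ * A) by group, show B = B' * (B'⁻¹ * B) by group]
  exact Schur.commutatorElement_mul_center hz hw

theorem comm_conj (hc : σ.ker ≤ center Γ) {T A A' B B' : Γ} (h : σ A * σ B = σ B * σ A)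
    (ha : σ T * σ A = σ A' * σ T) (hb : σ T * σ B = σ B' * σ T) : ⁅A', B'⁆ = ⁅A, B⁆ := by
  have e : T * ⁅A, B⁆ * T⁻¹ = ⁅A, B⁆ := by
    rw [mem_center_iff.1 (mem_center_comm hc h) T, mul_inv_cancel_right]
  rw [← e, conjugate_commutatorElement]
  apply comm_congr hc <;> simp [ha, hb]

theorem comm_mul_right (hc : σ.ker ≤ center Γ) {A B C : Γ} (h : σ A * σ C = σ C * σ A) :
    ⁅A, B * C⁆ = ⁅A, B⁆ * ⁅A, C⁆ := by
  have e : ⁅A, B * C⁆ = ⁅A, B⁆ * (B * ⁅A, C⁆ * B⁻¹) := by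
    simp only [commutatorElement_def]; group
  rw [e, mem_center_iff.1 (mem_center_comm hc h) B, mul_inv_cancel_right]

/-- `t` swaps the commuting elements `a`, `b` and `b ^ n = 1` for an odd `n`: their lifts commute. -/
theorem comm_eq_one_of_swap (hc : σ.ker ≤ center Γ) {A B T : Γ} {n : ℕ} (hn : Odd n)
    (h : σ A * σ B = σ B * σ A) (hB : σ B ^ n = 1) (ha : σ T * σ A = σ B * σ T)
    (hb : σ T * σ B = σ A * σ T) : ⁅A, B⁆ = 1 := by
  have hswap : ⁅B, A⁆ = ⁅A, B⁆ := comm_conj hc h ha hb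
  have h2 : ⁅A, B⁆ ^ 2 = 1 := by
    rw [pow_two]
    nth_rewrite 2 [← hswap]
    rw [← commutatorElement_inv A B, mul_inv_cancel]
  have hpow : ∀ k, ⁅A, B ^ k⁆ = ⁅A, B⁆ ^ k := fun k => by
    induction k with
    | zero => simp
    | succ k ih => rw [pow_succ, comm_mul_right hc h, ih, pow_succ]
  have h1 : ⁅A, B⁆ ^ n = 1 := by
    rw [← hpow, comm_congr hc (A' := A) (B' := 1) rfl (by rw [map_pow, hB, map_one]),
      commutatorElement_one_right]
  obtain ⟨k, rfl⟩ := hn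
  rwa [pow_succ, pow_mul, h2, one_pow, one_mul] at h1

/-- `t` acts as `a ↦ b ↦ c ↦ ab` on three commuting elements: their lifts commute. -/
theorem comm_eq_one_of_singer (hc : σ.ker ≤ center Γ) {A B C T : Γ}
    (hab : σ A * σ B = σ B * σ A) (hbc : σ B * σ C = σ C * σ B) (hca : σ C * σ A = σ A * σ C)
    (ha : σ T * σ A = σ B * σ T) (hb : σ T * σ B = σ C * σ T)
    (hcab : σ T * σ C = σ (A * B) * σ T) :
    ⁅A, B⁆ = 1 ∧ ⁅B, C⁆ = 1 ∧ ⁅C, A⁆ = 1 := by
  have e1 : ⁅B, C⁆ = ⁅A, B⁆ := comm_conj hc hab ha hb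
  have e3 : ⁅A * B, B⁆ = ⁅C, A⁆ := comm_conj hc hca hcab ha
  have e4 : ⁅A * B, B⁆ = ⁅A, B⁆ := by simp only [commutatorElement_def]; group
  have e2 : ⁅C, A * B⁆ = ⁅B, C⁆ := comm_conj hc hbc hb hcab
  rw [comm_mul_right hc hbc.symm, ← commutatorElement_inv B C, ← e3, e4, e1, mul_inv_cancel] at e2
  exact ⟨e2.symm, e1.trans e2.symm, (e3.symm.trans e4).trans e2.symm⟩

/-- A Sylow subgroup generated by elements with commuting lifts: no `p`-part in the kernel. -/
theorem not_dvd_card_ker_of_gens [Finite Γ] {p : ℕ} [Fact p.Prime] (hs : Function.Surjective σ)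
    (hc : σ.ker ≤ center Γ) (hd : σ.ker ≤ _root_.commutator Γ) (Q : Sylow p G) (S : Set G)
    (hQ : (Q : Subgroup G) ≤ closure S)
    (hS : ∀ X Y, σ X ∈ S → σ Y ∈ S → X * Y = Y * X) : ¬ p ∣ Nat.card σ.ker := by
  obtain ⟨P, hP⟩ := SchurBound.exists_sylow_map_eq σ hs Q
  refine SchurSylow.not_dvd_card_ker_of_comm σ hc hd P fun x y hx hy => ?_
  have hle : (P : Subgroup Γ) ≤ closure (σ ⁻¹' S) ⊔ σ.ker := by
    rw [← comap_map_eq, MonoidHom.map_closure, Set.image_preimage_eq _ hs, ← map_le_iff_le_comap, hP]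
    exact hQ
  have hcl : closure (σ ⁻¹' S) ⊔ σ.ker = closure (σ ⁻¹' S ∪ σ.ker) := by
    rw [Subgroup.closure_union, closure_eq]
  have hx' := hcl ▸ hle hx
  have hy' := hcl ▸ hle hy
  have key : Commute x y := by
    clear hx hy
    induction hx', hy' using Subgroup.closure_induction₂ with
    | mem a b ha hb =>
      rcases ha with ha | ha
      · rcases hb with hb | hb
        · exact hS a b ha hb
        · exact mem_center_iff.1 (hc hb) a
      · exact (mem_center_iff.1 (hc ha) b).symm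
    | one_left _ _ => exact Commute.one_left _
    | one_right _ _ => exact Commute.one_right _
    | mul_left _ _ _ _ _ _ h1 h2 => exact h1.mul_left h2
    | mul_right _ _ _ _ _ _ h1 h2 => exact h1.mul_right h2
    | inv_left _ _ _ _ h => exact h.inv_left
    | inv_right _ _ _ _ h => exact h.inv_right
  exact key.eq

/-- Semidihedral Sylow subgroup of order 16: no `2`-part in the kernel. -/
theorem not_dvd_card_ker_of_semidihedral [Finite Γ] (hs : Function.Surjective σ)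
    (hc : σ.ker ≤ center Γ) (hd : σ.ker ≤ _root_.commutator Γ) (Q : Sylow 2 G)
    {a b : (Q : Subgroup G)} (hgen : closure ({a, b} : Set (Q : Subgroup G)) = ⊤)
    (hord : orderOf a = 8) (hb : b * b = 1) (hab : b * a * b⁻¹ = a ^ 3) :
    ¬ 2 ∣ Nat.card σ.ker := by
  obtain ⟨P, hP⟩ := SchurBound.exists_sylow_map_eq σ hs Q
  let τ : (P : Subgroup Γ) →* (Q : Subgroup G) :=
    (MulEquiv.subgroupCongr hP).toMonoidHom.comp (σ.subgroupMap P)
  have hτ : Function.Surjective τ :=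
    (MulEquiv.subgroupCongr hP).surjective.comp (σ.subgroupMap_surjective _)
  have hτc : τ.ker ≤ center (P : Subgroup Γ) := fun z hz => mem_center_iff.2 fun g =>
    Subtype.ext (mem_center_iff.1 (hc (show σ (z : Γ) = 1 from congrArg Subtype.val hz)) g)
  obtain ⟨A, rfl⟩ := hτ a
  obtain ⟨B, rfl⟩ := hτ b
  set z := (A ^ 3)⁻¹ * (B * A * B⁻¹) with hz
  have hzc : z ∈ center (P : Subgroup Γ) := hτc (by
    rw [MonoidHom.mem_ker, hz, map_mul, map_inv, map_pow, map_mul, map_mul, map_inv, hab,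
      inv_mul_cancel])
  have cz : ∀ g, Commute g z := fun g => mem_center_iff.1 hzc g
  have hBA : B * A * B⁻¹ = A ^ 3 * z := by rw [hz]; group
  set C := ⁅A, B⁆ with hC
  have hCeq : C = (A ^ 2)⁻¹ * z⁻¹ := by
    have : C = A * (B * A * B⁻¹)⁻¹ := by rw [hC, commutatorElement_def]; group
    rw [this, hBA, _root_.mul_inv_rev, ← mul_assoc, (cz A).inv_right.eq, mul_assoc,
      (cz (A * (A ^ 3)⁻¹)).symm.inv_left.eq]
    group
  have hAC : A * C * A⁻¹ = C := by
    rw [hCeq, show A * ((A ^ 2)⁻¹ * z⁻¹) * A⁻¹ = (A ^ 2)⁻¹ * (A * z⁻¹) * A⁻¹ by group,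
      (cz A).inv_right.eq]
    group
  have hBB : B * B ∈ center (P : Subgroup Γ) := hτc (by rw [MonoidHom.mem_ker, map_mul, hb])
  have hBC : B * C * B⁻¹ = C ^ 3 := by
    rw [hCeq, show B * ((A ^ 2)⁻¹ * z⁻¹) * B⁻¹ =
        ((B * A * B⁻¹) ^ 2)⁻¹ * (B * z⁻¹ * B⁻¹) by rw [conj_pow]; group,
      hBA, (cz B).inv_right.eq, mul_inv_cancel_right, (cz (A ^ 3)).mul_pow,
      _root_.mul_inv_rev, mul_assoc, (cz _).inv_right.eq, ← mul_assoc,
      ((cz (A ^ 2)).inv_left.inv_right).mul_pow, inv_pow, inv_pow, ← pow_mul, ← pow_mul,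
      ← _root_.mul_inv_rev, ← pow_succ']
    exact ((cz (A ^ (3 * 2))).pow_right 3).inv_left.inv_right.symm.eq
  have hBC' : B⁻¹ * C * B = C ^ 3 := by
    rw [← hBC]
    calc B⁻¹ * C * B = B⁻¹ * (C * (B * B)) * B⁻¹ := by group
      _ = B⁻¹ * ((B * B) * C) * B⁻¹ := by rw [mem_center_iff.1 hBB C]
      _ = _ := by group
  have hle := SchurBound.commutator_le_zpowers τ hτc hgen hAC
    (by rw [hBC]; exact pow_mem (mem_zpowers C) 3) (by rw [hBC']; exact pow_mem (mem_zpowers C) 3)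
  have h4 : C ^ 4 = 1 := by
    have e : B * (B * A * B⁻¹) * B⁻¹ = A := by
      calc B * (B * A * B⁻¹) * B⁻¹ = (B * B) * A * (B * B)⁻¹ := by group
        _ = _ := by rw [← mem_center_iff.1 hBB A, mul_inv_cancel_right]
    rw [hBA, show B * (A ^ 3 * z) * B⁻¹ = (B * A * B⁻¹) ^ 3 * (B * z * B⁻¹) by rw [conj_pow]; group,
      hBA, (cz B).eq, mul_inv_cancel_right, (cz (A ^ 3)).mul_pow, ← pow_mul, mul_assoc, ← pow_succ,
      show 3 * 3 = 1 + 8 from rfl, pow_add, pow_one, mul_assoc, mul_eq_left] at e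
    rw [hCeq, ((cz (A ^ 2)).inv_left.inv_right).mul_pow, inv_pow, inv_pow, ← pow_mul,
      ← _root_.mul_inv_rev, ((cz (A ^ (2 * 4))).pow_right 4).symm.eq, e, inv_one]
  refine SchurSylow.not_dvd_card_ker σ hc hd P fun y hy hy1 => ?_
  obtain ⟨k, rfl⟩ := hle hy
  have hτy : τ (C ^ k) = 1 := Subtype.ext hy1
  have hτC : τ C = (τ A ^ 2)⁻¹ := by
    have : τ z = 1 := by
      rw [hz, map_mul, map_inv, map_pow, map_mul, map_mul, map_inv, hab, inv_mul_cancel]
    rw [hCeq, map_mul, map_inv, map_inv, map_pow, this, inv_one, mul_one]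
  rw [map_zpow, hτC, inv_zpow, inv_eq_one, ← zpow_natCast, ← zpow_mul,
    ← orderOf_dvd_iff_zpow_eq_one, hord] at hτy
  obtain ⟨j, rfl⟩ : (4 : ℤ) ∣ k := by omega
  show C ^ ((4 : ℤ) * j) = 1
  rw [zpow_mul, show (4 : ℤ) = (4 : ℕ) from rfl, zpow_natCast, h4, one_zpow]

/-- All primes excluded: the multiplier is trivial. -/
theorem hasCyclic_one {G : Type u} [Group G] [Finite G]
    (h : ∀ (Γ : Type u) [Group Γ] [Finite Γ] (σ : Γ →* G), Function.Surjective σ →
      σ.ker ≤ center Γ → σ.ker ≤ _root_.commutator Γ →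
      ∀ r : ℕ, r.Prime → r ∣ Nat.card G → ¬ r ∣ Nat.card σ.ker) :
    Cfsg.HasCyclicSchurMultiplier G 1 := by
  refine SchurBound.hasCyclic_of_squarefree squarefree_one
    ⟨G, inferInstance, inferInstance, MonoidHom.id G,
      ⟨Function.surjective_id, by simp [MonoidHom.ker_id], by simp [MonoidHom.ker_id]⟩,
      by simp [MonoidHom.ker_id]⟩ ?_
  intro Γ _ _ σ hσ r hr
  have hno : ¬ r ∣ Nat.card σ.ker := by
    by_cases hrG : r ∣ Nat.card G
    · exact h Γ σ hσ.1 hσ.2.1 hσ.2.2 r hr hrG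
    · haveI := Fact.mk hr
      exact SchurBound.not_dvd_card_ker_of_sq_not_dvd σ hσ.1 hσ.2.1 hσ.2.2
        fun h2 => hrG ((dvd_pow_self r two_ne_zero).trans h2)
  exact ⟨fun h2 => hno ((dvd_pow_self r two_ne_zero).trans h2), fun h1 => absurd h1 hno⟩

end CfsgLib.SchurTrivial
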