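import Cfsg.Agent.Lib.Schur.Bound
import Cfsg.Agent.Lib.Schur.Trivial

/-!
Splitting a central extension over a Sylow subgroup `E D` with `E` normal abelian: commutators with
an element acting on `E` without fixed points give a complement over `E` which is normalised by the
lifts of `D`.
-/

set_option autoImplicit false

namespace CfsgLib.SchurSplit

open Subgroup
open scoped commutatorElement

universe u

variable {Γ G : Type*} [Group Γ] [Group G]

theorem mem_normalizer_of_forall [Finite Γ] {N : Subgroup Γ} {g : Γ}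
    (h : ∀ x ∈ N, g * x * g⁻¹ ∈ N) : g ∈ normalizer (N : Set Γ) := by
  have e : N.map (MulAut.conj g).toMonoidHom = N := eq_of_le_of_card_ge
    (by rintro _ ⟨x, hx, rfl⟩; exact h x hx)
    (card_map_of_injective (MulAut.conj g).injective).ge
  rw [mem_normalizer_iff]
  intro x
  refine ⟨h x, fun hx => ?_⟩
  rw [← e] at hx
  obtain ⟨y, hy, hyx⟩ := hx
  exact (MulAut.conj g).injective hyx ▸ hy

theorem card_sup_le [Finite Γ] {N H : Subgroup Γ} (h : H ≤ normalizer (N : Set Γ)) :
    Nat.card ↥(N ⊔ H) ≤ Nat.card N * Nat.card H := by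
  have hmem : ∀ p : N × H, (p.1 : Γ) * p.2 ∈ N ⊔ H := fun p =>
    mul_mem (le_sup_left (a := N) p.1.2) (le_sup_right (a := N) p.2.2)
  rw [← Nat.card_prod]
  refine Nat.card_le_card_of_surjective (fun p => (⟨_, hmem p⟩ : ↥(N ⊔ H))) fun x => ?_
  have hx : (x : Γ) ∈ ((N ⊔ H : Subgroup Γ) : Set Γ) := x.2
  rw [coe_mul_of_right_le_normalizer_left N H h] at hx
  obtain ⟨a, ha, b, hb, e⟩ := hx
  exact ⟨(⟨a, ha⟩, ⟨b, hb⟩), Subtype.ext e⟩

theorem card_zpowers_le {x : Γ} {n : ℕ} (hn : 0 < n) (hx : x ^ n = 1) :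
    Nat.card (zpowers x) ≤ n := by
  rw [Nat.card_zpowers]; exact orderOf_le_of_pow_eq_one hn hx

theorem commute_of_sq {x y : Γ} (hx : x * x = 1) (hy : y * y = 1) (hxy : x * y * (x * y) = 1) :
    Commute x y := by
  have hxi : x⁻¹ = x := inv_eq_of_mul_eq_one_right hx
  have hyi : y⁻¹ = y := inv_eq_of_mul_eq_one_right hy
  have h : (x * y)⁻¹ = x * y := inv_eq_of_mul_eq_one_right hxy
  rw [_root_.mul_inv_rev, hxi, hyi] at h
  exact h.symm

theorem card_dihedral_le [Finite Γ] {S V : Γ} (hS : S * S = 1) (hV : V * V = 1)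
    (hW : (S * V) ^ 4 = 1) : Nat.card (closure ({S, V} : Set Γ)) ≤ 8 := by
  have hS2 : S ^ 2 = 1 := by rw [sq, hS]
  have hnorm : zpowers S ≤ normalizer (zpowers (S * V) : Set Γ) :=
    zpowers_le.2 (mem_normalizer_of_forall fun x hx => by
      obtain ⟨k, rfl⟩ := hx
      refine ⟨-k, ?_⟩
      have e : S * (S * V) * S⁻¹ = (S * V)⁻¹ := by
        rw [_root_.mul_inv_rev, inv_eq_of_mul_eq_one_right hS, inv_eq_of_mul_eq_one_right hV,
          ← mul_assoc, hS, one_mul]
      show (S * V) ^ (-k) = S * (S * V) ^ k * S⁻¹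
      rw [← conj_zpow, e, inv_zpow']) 
  have hle : closure ({S, V} : Set Γ) ≤ zpowers (S * V) ⊔ zpowers S := by
    rw [closure_le, Set.insert_subset_iff, Set.singleton_subset_iff]
    refine ⟨le_sup_right (a := zpowers (S * V)) (mem_zpowers S), ?_⟩
    have hv : S * (S * V) = V := by rw [← mul_assoc, hS, one_mul]
    have hm : S * (S * V) ∈ zpowers (S * V) ⊔ zpowers S :=
      mul_mem (le_sup_right (a := zpowers (S * V)) (mem_zpowers S))
        (le_sup_left (b := zpowers S) (mem_zpowers _))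
    rw [hv] at hm
    exact hm
  refine (card_le_of_le hle).trans ((card_sup_le hnorm).trans ?_)
  exact Nat.mul_le_mul (card_zpowers_le (by norm_num) hW) (card_zpowers_le (by norm_num) hS2)

/-- The Coxeter bound for a lifted `2 × D8`. -/
theorem card_closure_le [Finite Γ] {U S V : Γ} (hU : U * U = 1) (hS : S * S = 1) (hV : V * V = 1)
    (hW : (S * V) ^ 4 = 1) (hUS : Commute U S) (hUV : Commute U V) :
    Nat.card (closure ({U, S, V} : Set Γ)) ≤ 16 := by
  have hU2 : U ^ 2 = 1 := by rw [sq, hU]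
  have hle : closure ({U, S, V} : Set Γ) ≤ zpowers U ⊔ closure {S, V} := by
    rw [closure_le, Set.insert_subset_iff]
    exact ⟨le_sup_left (a := zpowers U) (mem_zpowers _),
      subset_closure.trans (SetLike.coe_subset_coe.2 le_sup_right)⟩
  have hcomm : closure ({S, V} : Set Γ) ≤ centralizer (zpowers U : Set Γ) :=
    (closure_le _).2 fun x hx => mem_centralizer_iff.2 fun y hy => by
      obtain ⟨k, rfl⟩ := hy
      rcases hx with rfl | rfl
      exacts [(hUS.zpow_left k).eq, (hUV.zpow_left k).eq]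
  refine (card_le_of_le hle).trans ((card_sup_le (hcomm.trans
    (centralizer_le_normalizer (zpowers U : Set Γ)))).trans ?_)
  exact Nat.mul_le_mul (card_zpowers_le (by norm_num) hU2) (card_dihedral_le hS hV hW)

variable {σ : Γ →* G}

/-- Lifts commute when all lifts of two commuting elements are conjugate to both `(a, c)` and
`(a, b c)`. -/
theorem comm_eq_one_of_pair (hc : σ.ker ≤ center Γ) {A B C : Γ}
    (hac : σ A * σ C = σ C * σ A) (h1 : ⁅A, C⁆ = ⁅A, B⁆) (h2 : ⁅A, B * C⁆ = ⁅A, B⁆) :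
    ⁅A, B⁆ = 1 := by
  rw [SchurTrivial.comm_mul_right hc hac, h1, mul_eq_left] at h2
  exact h2

theorem commute_lifts (hs : Function.Surjective σ) (hc : σ.ker ≤ center Γ) {S : Set G}
    (h : ∀ X Y, σ X ∈ S → σ Y ∈ S → Commute X Y) :
    ∀ X Y, σ X ∈ closure S → σ Y ∈ closure S → Commute X Y := by
  have hcl : (closure S).comap σ = closure (σ ⁻¹' S ∪ σ.ker) := by
    rw [Subgroup.closure_union, closure_eq, ← comap_map_eq, MonoidHom.map_closure,
      Set.image_preimage_eq _ hs]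
  intro X Y hX hY
  replace hX : X ∈ closure (σ ⁻¹' S ∪ σ.ker) := hcl ▸ hX
  replace hY : Y ∈ closure (σ ⁻¹' S ∪ σ.ker) := hcl ▸ hY
  induction hX, hY using Subgroup.closure_induction₂ with
  | mem a b ha hb =>
    rcases ha with ha | ha
    · rcases hb with hb | hb
      · exact h a b ha hb
      · exact mem_center_iff.1 (hc hb) a
    · exact (mem_center_iff.1 (hc ha) b).symm
  | one_left _ _ => exact Commute.one_left _
  | one_right _ _ => exact Commute.one_right _
  | mul_left _ _ _ _ _ _ h1 h2 => exact h1.mul_left h2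
  | mul_right _ _ _ _ _ _ h1 h2 => exact h1.mul_right h2
  | inv_left _ _ _ _ h => exact h.inv_left
  | inv_right _ _ _ _ h => exact h.inv_right

/-- The commutator with a lift of `r` is a homomorphism on an abelian normalised subgroup. -/
noncomputable def split (hs : Function.Surjective σ) (hc : σ.ker ≤ center Γ) (E : Subgroup G)
    (hE : ∀ X Y, σ X ∈ E → σ Y ∈ E → Commute X Y) (T : Γ)
    (hT : ∀ e ∈ E, σ T * e * (σ T)⁻¹ ∈ E) : E →* Γ :=
  MonoidHom.mk' (fun e => ⁅T, Function.surjInv hs (e : G)⁆) fun a b => by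
    set X := Function.surjInv hs (a : G) with hX
    set Y := Function.surjInv hs (b : G) with hY
    have hσX : σ X = a := Function.surjInv_eq hs _
    have hσY : σ Y = b := Function.surjInv_eq hs _
    have e1 : ⁅T, Function.surjInv hs ((a * b : E) : G)⁆ = ⁅T, X * Y⁆ :=
      SchurTrivial.comm_congr hc rfl (by rw [Function.surjInv_eq hs, map_mul, hσX, hσY]; rfl)
    have hcm : Commute X ⁅T, Y⁆ := hE _ _ (hσX ▸ a.2) (by
      rw [map_commutatorElement, hσY, commutatorElement_def]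
      exact mul_mem (hT _ b.2) (inv_mem b.2))
    rw [e1]
    calc ⁅T, X * Y⁆ = ⁅T, X⁆ * (X * ⁅T, Y⁆ * X⁻¹) := by simp only [commutatorElement_def]; group
      _ = ⁅T, X⁆ * ⁅T, Y⁆ := by rw [hcm.eq, mul_inv_cancel_right]

section Split

variable (hs : Function.Surjective σ) (hc : σ.ker ≤ center Γ) (E : Subgroup G)
  (hE : ∀ X Y, σ X ∈ E → σ Y ∈ E → Commute X Y) (T : Γ)
  (hT : ∀ e ∈ E, σ T * e * (σ T)⁻¹ ∈ E)

theorem split_apply (e : E) : split hs hc E hE T hT e = ⁅T, Function.surjInv hs (e : G)⁆ := rfl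

theorem comm_mem_range {Y : Γ} (hY : σ Y ∈ E) : ⁅T, Y⁆ ∈ (split hs hc E hE T hT).range :=
  ⟨⟨σ Y, hY⟩, SchurTrivial.comm_congr hc rfl (Function.surjInv_eq hs _)⟩

theorem map_split_apply (e : E) : σ (split hs hc E hE T hT e) = ⁅σ T, (e : G)⁆ := by
  rw [split_apply, map_commutatorElement, Function.surjInv_eq hs]

theorem map_split_range_le : (split hs hc E hE T hT).range.map σ ≤ E := by
  rintro _ ⟨_, ⟨e, rfl⟩, rfl⟩
  rw [map_split_apply, commutatorElement_def]
  exact mul_mem (hT _ e.2) (inv_mem e.2)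

theorem conj_mem_range (hT' : ∀ e ∈ E, (σ T)⁻¹ * e * σ T ∈ E) {X : Γ}
    (hXE : ∀ e ∈ E, σ X * e * (σ X)⁻¹ ∈ E)
    (hXT : σ X * σ T * (σ X)⁻¹ = σ T ∨ σ X * σ T * (σ X)⁻¹ = (σ T)⁻¹) :
    ∀ x ∈ (split hs hc E hE T hT).range, X * x * X⁻¹ ∈ (split hs hc E hE T hT).range := by
  rintro _ ⟨e, rfl⟩
  rw [split_apply, conjugate_commutatorElement]
  set Y := X * Function.surjInv hs (e : G) * X⁻¹ with hY
  have hσY : σ Y ∈ E := by
    rw [hY, map_mul, map_mul, map_inv, Function.surjInv_eq hs]; exact hXE _ e.2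
  rcases hXT with h | h
  · rw [SchurTrivial.comm_congr hc (A' := T) (B := Y) (by simp [h]) rfl]
    exact comm_mem_range hs hc E hE T hT hσY
  · rw [SchurTrivial.comm_congr hc (A' := T⁻¹) (B := Y) (by simp [h]) rfl,
      show ⁅T⁻¹, Y⁆ = ⁅T, T⁻¹ * Y * T⁆⁻¹ by simp only [commutatorElement_def]; group]
    refine inv_mem (comm_mem_range hs hc E hE T hT ?_)
    rw [map_mul, map_mul, map_inv]
    exact hT' _ hσY

end Split

/-- Exponent two kernel: an element over the image of an involution of a split part is an involution. -/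
theorem sq_eq_one_of_conj (hs : Function.Surjective σ) (hc : σ.ker ≤ center Γ)
    (hexp : ∀ z ∈ σ.ker, z * z = 1) {X Y : Γ} (hY : Y * Y = 1)
    (h : ∃ g, g * σ X = σ Y * g) : X * X = 1 := by
  obtain ⟨g, hg⟩ := h
  obtain ⟨K, rfl⟩ := hs g
  have hz : (K⁻¹ * Y * K)⁻¹ * X ∈ σ.ker := by
    rw [MonoidHom.mem_ker]
    simp only [map_mul, map_inv, _root_.mul_inv_rev, inv_inv, mul_assoc]
    rw [hg]
    simp [mul_assoc]
  set z := (K⁻¹ * Y * K)⁻¹ * X with hzd
  have hX : X = K⁻¹ * Y * K * z := by rw [hzd]; group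
  have hcz : Commute z (K⁻¹ * Y * K) := (mem_center_iff.1 (hc hz) _).symm
  rw [hX, hcz.mul_mul_mul_comm, hexp z hz, mul_one,
    show K⁻¹ * Y * K * (K⁻¹ * Y * K) = K⁻¹ * (Y * Y) * K by group, hY, mul_one, inv_mul_cancel]

/-- The kernel of a stem extension with kernel of exponent two vanishes over a split Sylow. -/
theorem false_of_split [Finite Γ] (hs : Function.Surjective σ) (hc : σ.ker ≤ center Γ)
    (hd : σ.ker ≤ _root_.commutator Γ) (hdvd : 2 ∣ Nat.card σ.ker) (E : Subgroup G)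
    (hE : ∀ X Y, σ X ∈ E → σ Y ∈ E → Commute X Y) {r : G} (hr : ∀ e ∈ E, r * e * r⁻¹ ∈ E)
    (hr' : ∀ e ∈ E, r⁻¹ * e * r ∈ E) (es : Set G) (hes : E = closure es)
    (hsurj : ∀ e ∈ es, ∃ e' ∈ E, ⁅r, e'⁆ = e) (ds : Set Γ) {nD n : ℕ}
    (hnorm : ∀ X ∈ ds, (∀ e ∈ E, σ X * e * (σ X)⁻¹ ∈ E) ∧
      (σ X * r * (σ X)⁻¹ = r ∨ σ X * r * (σ X)⁻¹ = r⁻¹))
    (hD : Nat.card (closure ds) ≤ nD) (hnE : Nat.card E * nD ≤ 2 ^ n)
    (hQ : 2 ^ n ≤ Nat.card ↥(E ⊔ closure (σ '' ds)))
    (hG : (Nat.card G).factorization 2 = n) : False := by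
  have hfinG : Finite G := Finite.of_surjective σ hs
  obtain ⟨T, rfl⟩ := hs r
  set f := split hs hc E hE T hr
  set H := f.range ⊔ closure ds with hH
  have hn : closure ds ≤ normalizer (f.range : Set Γ) := (closure_le _).2 fun X hX =>
    mem_normalizer_of_forall (conj_mem_range hs hc E hE T hr hr' (hnorm X hX).1 (hnorm X hX).2)
  have hH1 : Nat.card H ≤ 2 ^ n := (card_sup_le hn).trans
    ((Nat.mul_le_mul (Nat.card_le_card_of_surjective _ f.rangeRestrict_surjective) hD).trans hnE)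
  have hmap : H.map σ = E ⊔ closure (σ '' ds) := by
    rw [hH, Subgroup.map_sup, MonoidHom.map_closure]
    congr 1
    refine le_antisymm (map_split_range_le hs hc E hE T hr) ?_
    conv_lhs => rw [hes]
    refine (closure_le _).2 fun e he => ?_
    obtain ⟨e', he', hee⟩ := hsurj e he
    exact ⟨f ⟨e', he'⟩, ⟨_, rfl⟩, (map_split_apply hs hc E hE T hr _).trans hee⟩
  have hsur := Nat.card_le_card_of_surjective _ (σ.subgroupMap_surjective H)
  have hQc : Nat.card (H.map σ) = 2 ^ n :=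
    le_antisymm (hsur.trans hH1) (hmap ▸ hQ)
  have hinj : Function.Injective (σ.subgroupMap H) :=
    ((Nat.bijective_iff_surjective_and_card _).2
      ⟨σ.subgroupMap_surjective H, le_antisymm (hH1.trans hQc.ge) hsur⟩).injective
  have : Fact (Nat.Prime 2) := ⟨Nat.prime_two⟩
  let Q : Sylow 2 G := Sylow.ofCard (H.map σ) (by rw [hG]; exact hQc)
  obtain ⟨P, hP⟩ := SchurBound.exists_sylow_map_eq σ hs Q
  refine SchurSylow.not_dvd_card_ker σ hc hd P (fun y hy hy1 => ?_) hdvd
  have hle : (P : Subgroup Γ) ≤ H ⊔ σ.ker := by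
    rw [← comap_map_eq, ← map_le_iff_le_comap]
    exact hP.le
  have hcomm : _root_.commutator (P : Subgroup Γ) ≤ H.subgroupOf (P : Subgroup Γ) := by
    rw [_root_.commutator_def, commutator_le]
    intro a _ b _
    rw [mem_subgroupOf, ← Subgroup.coe_subtype, map_commutatorElement]
    simp only [Subgroup.coe_subtype]
    obtain ⟨a', ha', z, hz, ea⟩ := mem_sup_of_normal_right.1 (hle a.2)
    obtain ⟨b', hb', w, hw, eb⟩ := mem_sup_of_normal_right.1 (hle b.2)
    rw [← ea, ← eb,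
      Schur.commutatorElement_mul_center (hc hz) (hc hw), commutatorElement_def]
    exact mul_mem (mul_mem (mul_mem ha' hb') (inv_mem ha')) (inv_mem hb')
  have := @hinj ⟨(y : Γ), mem_subgroupOf.1 (hcomm hy)⟩ 1
    (Subtype.ext (by rw [map_one]; exact hy1))
  exact Subtype.ext (congrArg (fun x : H => (x : Γ)) this)

/-- If stem extensions with kernel of exponent `p` have no `p`-part in the kernel, none has. -/
theorem not_dvd_of_exponent {G : Type u} [Group G] {p : ℕ} [Fact p.Prime]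
    (h : ∀ (Γ : Type u) [Group Γ] [Finite Γ] (σ : Γ →* G), Function.Surjective σ →
      σ.ker ≤ center Γ → σ.ker ≤ _root_.commutator Γ → (∀ z ∈ σ.ker, z ^ p = 1) →
      p ∣ Nat.card σ.ker → False)
    {Γ : Type u} [Group Γ] [Finite Γ] (σ : Γ →* G) (hs : Function.Surjective σ)
    (hc : σ.ker ≤ center Γ) (hd : σ.ker ≤ _root_.commutator Γ) : ¬ p ∣ Nat.card σ.ker := by
  intro hdvd
  let φ : σ.ker →* Γ :=
    { toFun := fun z => (z : Γ) ^ p
      map_one' := one_pow _
      map_mul' := fun a b => (show Commute (a : Γ) b from mem_center_iff.1 (hc b.2) a).mul_pow p }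
  set N := φ.range with hN
  have hNk : N ≤ σ.ker := by rintro _ ⟨z, rfl⟩; exact pow_mem z.2 p
  have : N.Normal := ⟨fun x hx g => by
    rw [mem_center_iff.1 (hc (hNk hx)) g, mul_inv_cancel_right]; exact hx⟩
  let τ : Γ ⧸ N →* G := QuotientGroup.lift N σ hNk
  have hker : τ.ker = σ.ker.map (QuotientGroup.mk' N) := QuotientGroup.ker_lift N σ hNk
  refine h (Γ ⧸ N) τ ?_ ?_ ?_ ?_ ?_
  · intro g; obtain ⟨x, rfl⟩ := hs g; exact ⟨x, rfl⟩
  · rw [hker]
    rintro _ ⟨z, hz, rfl⟩
    rw [mem_center_iff]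
    intro q
    obtain ⟨q, rfl⟩ := QuotientGroup.mk'_surjective N q
    rw [← map_mul, ← map_mul, mem_center_iff.1 (hc hz) q]
  · rw [hker]
    refine (map_mono hd).trans ?_
    rw [_root_.commutator_def, _root_.commutator_def, map_commutator]
    exact commutator_mono le_top le_top
  · rw [hker]
    rintro _ ⟨z, hz, rfl⟩
    rw [← map_pow]
    exact (QuotientGroup.eq_one_iff _).2 ⟨⟨z, hz⟩, rfl⟩
  · obtain ⟨w, hw⟩ := exists_prime_orderOf_dvd_card' p hdvd
    have hlt : Nat.card N < Nat.card σ.ker := by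
      refine lt_of_le_of_ne (card_le_of_le hNk) fun e => ?_
      have hbij : Function.Injective φ.rangeRestrict :=
        ((Nat.bijective_iff_surjective_and_card _).2
          ⟨φ.rangeRestrict_surjective, e.symm⟩).injective
      have : w = 1 := hbij (Subtype.ext (show ((w : Γ) ^ p) = φ 1 by
        rw [map_one, ← Subgroup.coe_pow, ← hw, pow_orderOf_eq_one, Subgroup.coe_one]))
      rw [this, orderOf_one] at hw
      exact (Fact.out : p.Prime).ne_one hw.symm
    have hne : ∃ z ∈ σ.ker, z ∉ N := by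
      by_contra hcon
      push Not at hcon
      exact absurd (card_le_of_le (fun x hx => hcon x hx)) (not_le.2 hlt)
    obtain ⟨z, hz, hzN⟩ := hne
    let x : τ.ker := ⟨QuotientGroup.mk' N z, by rw [hker]; exact mem_map_of_mem _ hz⟩
    have hx : x ≠ 1 := fun e => hzN ((QuotientGroup.eq_one_iff _).1 (congrArg Subtype.val e))
    have hxp : orderOf x = p := orderOf_eq_prime (Subtype.ext (by
      show (QuotientGroup.mk' N z) ^ p = 1
      rw [← map_pow]
      exact (QuotientGroup.eq_one_iff _).2 ⟨⟨z, hz⟩, rfl⟩)) hx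
    exact hxp ▸ orderOf_dvd_natCard x

/-- An image `⟨a, b⟩` of order `p ^ 3` with `z = ⁅a, b⁆`: no `p`-part when lifts of `z` commute with
lifts of `a` and `b`. -/
theorem not_dvd_of_extraspecial [Finite Γ] {p : ℕ} [Fact p.Prime] (hs : Function.Surjective σ)
    (hc : σ.ker ≤ center Γ) (hd : σ.ker ≤ _root_.commutator Γ) {A B : Γ} (hA : σ A ^ p = 1)
    (hAC : Commute A ⁅A, B⁆) (hBC : Commute B ⁅A, B⁆) (hne : ⁅σ A, σ B⁆ ≠ 1) (Q : Sylow p G)
    (hQ : (Q : Subgroup G) = closure {σ A, σ B}) : ¬ p ∣ Nat.card σ.ker := by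
  obtain ⟨P, hP⟩ := SchurBound.exists_sylow_map_eq σ hs Q
  refine SchurSylow.not_dvd_card_ker σ hc hd P fun y hy hy1 => ?_
  set C := ⁅A, B⁆ with hC
  have hle : (P : Subgroup Γ) ≤ closure {A, B} ⊔ σ.ker := by
    rw [← comap_map_eq, MonoidHom.map_closure, Set.image_pair, ← map_le_iff_le_comap, hP, hQ]
  have hcomm : _root_.commutator (P : Subgroup Γ) ≤ (zpowers C).subgroupOf (P : Subgroup Γ) := by
    let W : Subgroup Γ := closure {A, B}
    let τ : W →* W ⧸ (center W) := QuotientGroup.mk' _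
    have hW := SchurBound.commutator_le_zpowers τ (by rw [QuotientGroup.ker_mk'])
      (A := (⟨A, subset_closure (by simp)⟩ : W)) (B := ⟨B, subset_closure (by simp)⟩)
      (by
        rw [← Set.image_pair, ← MonoidHom.map_closure]
        refine (congrArg (Subgroup.map τ) ?_).trans
          (map_top_of_surjective _ (QuotientGroup.mk'_surjective _))
        apply map_injective W.subtype_injective
        rw [MonoidHom.map_closure, ← MonoidHom.range_eq_map, range_subtype, Set.image_pair]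
        rfl)
      (Subtype.ext (show A * C * A⁻¹ = C by rw [hAC.eq, mul_inv_cancel_right]))
      ⟨1, Subtype.ext (show C ^ (1 : ℤ) = B * C * B⁻¹ by
        rw [zpow_one, hBC.eq, mul_inv_cancel_right])⟩
      ⟨1, Subtype.ext (show C ^ (1 : ℤ) = B⁻¹ * C * B by
        rw [zpow_one, hBC.inv_left.eq, inv_mul_cancel_right])⟩
    rw [_root_.commutator_def, commutator_le]
    intro a _ b _
    rw [mem_subgroupOf, ← Subgroup.coe_subtype, map_commutatorElement]
    simp only [Subgroup.coe_subtype]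
    obtain ⟨a', ha', z, hz, ea⟩ := mem_sup_of_normal_right.1 (hle a.2)
    obtain ⟨b', hb', w, hw, eb⟩ := mem_sup_of_normal_right.1 (hle b.2)
    rw [← ea, ← eb,
      Schur.commutatorElement_mul_center (hc hz) (hc hw)]
    have hmem := hW (show ⁅(⟨a', ha'⟩ : W), ⟨b', hb'⟩⁆ ∈ _root_.commutator W from
      commutator_mem_commutator (mem_top _) (mem_top _))
    obtain ⟨k, hk⟩ := hmem
    exact ⟨k, congrArg (fun x : W => (x : Γ)) hk⟩
  obtain ⟨k, hk⟩ := hcomm hy
  have hk' : C ^ k = (y : Γ) := hk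
  have hσC : σ C ^ p = 1 := by
    have h : σ C = ⁅σ A, σ B⁆ := map_commutatorElement σ A B
    rw [h]
    have hcA : Commute (σ A) ⁅σ A, σ B⁆ := h ▸ hAC.map σ
    exact pow_comm_eq_one hA hcA
  have hCp : C ^ p = 1 := by
    have hpow : ∀ m : ℕ, ⁅A ^ m, B⁆ = C ^ m := fun m => by
      induction m with
      | zero => simp
      | succ m ih =>
        have e : ⁅A ^ (m + 1), B⁆ = A * ⁅A ^ m, B⁆ * A⁻¹ * C := by
          rw [pow_succ', hC]; simp only [commutatorElement_def]; group
        rw [e, ih, (hAC.pow_right m).eq, mul_inv_cancel_right, ← pow_succ]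
    rw [← hpow p, SchurTrivial.comm_congr hc (A' := 1) (B' := B) (by rw [map_pow, hA, map_one]) rfl,
      commutatorElement_one_left]
  have hord : orderOf (σ C) = p := orderOf_eq_prime hσC (by rwa [map_commutatorElement])
  have h1 : σ C ^ k = 1 := by rw [← map_zpow, hk']; exact hy1
  rw [← orderOf_dvd_iff_zpow_eq_one, hord] at h1
  obtain ⟨j, rfl⟩ := h1
  rw [zpow_mul, zpow_natCast, hCp, one_zpow] at hk'
  exact Subtype.ext hk'.symm
where
  pow_comm_eq_one {a b : G} (ha : a ^ p = 1) (h : Commute a ⁅a, b⁆) : ⁅a, b⁆ ^ p = 1 := by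
    have hpow : ∀ m : ℕ, ⁅a ^ m, b⁆ = ⁅a, b⁆ ^ m := fun m => by
      induction m with
      | zero => simp
      | succ m ih =>
        have e : ⁅a ^ (m + 1), b⁆ = a * ⁅a ^ m, b⁆ * a⁻¹ * ⁅a, b⁆ := by
          rw [pow_succ']; simp only [commutatorElement_def]; group
        rw [e, ih, (h.pow_right m).eq, mul_inv_cancel_right, ← pow_succ]
    rw [← hpow, ha, commutatorElement_one_left]

end CfsgLib.SchurSplit
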