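import Cfsg.Agent.Lib.Solvable.Gaschutz
import Cfsg.Agent.Lib.Schur.Splitting
import Cfsg.Agent.Lib.Schur.Multiplier
import Cfsg.Agent.Lib.Solvable.Basic
import Mathlib.Data.ZMod.Basic
import Mathlib.GroupTheory.Sylow

/-!
Certificates that a central extension by a group of prime order splits over a Sylow subgroup: closed
rewriting paths in coded elements give linear equations between the values of the relations, and a
change of lifts makes the values of the defining relations of the Sylow subgroup trivial.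
-/

set_option autoImplicit false

namespace CfsgLib.SchurPath

open scoped commutatorElement

/-- Sum of two linear forms given by coefficients. -/
def addL : List ℕ → List ℕ → List ℕ
  | [], m => m
  | l, [] => l
  | a :: l, b :: m => (a + b) :: addL l m

/-- A multiple of a linear form. -/
def smulL (c : ℕ) (l : List ℕ) : List ℕ := l.map (c * ·)

/-- A coordinate. -/
def unitL : ℕ → List ℕ
  | 0 => [1]
  | r + 1 => 0 :: unitL r

/-- Reduced coefficients, padded to length `n`. -/
def redL (p : ℕ) : ℕ → List ℕ → List ℕ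
  | 0, l => l.map (· % p)
  | n + 1, [] => 0 :: redL p n []
  | n + 1, a :: l => a % p :: redL p n l

variable {p : ℕ}

/-- The value of a linear form. -/
def ev (x : ℕ → ZMod p) : ℕ → List ℕ → ZMod p
  | _, [] => 0
  | k, a :: l => (a : ZMod p) * x k + ev x (k + 1) l

theorem ev_addL (x : ℕ → ZMod p) : ∀ (k : ℕ) (l m : List ℕ), ev x k (addL l m) = ev x k l + ev x k m
  | k, [], m => by simp [addL, ev]
  | k, a :: l, [] => by simp [addL, ev]
  | k, a :: l, b :: m => by
    simp only [addL, ev, ev_addL x (k + 1) l m, Nat.cast_add]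
    ring

theorem ev_smulL (x : ℕ → ZMod p) (c : ℕ) : ∀ (k : ℕ) (l : List ℕ),
    ev x k (smulL c l) = (c : ZMod p) * ev x k l
  | k, [] => by simp [smulL, ev]
  | k, a :: l => by
    have h := ev_smulL x c (k + 1) l
    simp only [smulL, List.map_cons, ev] at h ⊢
    rw [h]
    push_cast
    ring

theorem ev_unitL (x : ℕ → ZMod p) : ∀ (r k : ℕ), ev x k (unitL r) = x (k + r)
  | 0, k => by simp [unitL, ev]
  | r + 1, k => by
    simp only [unitL, ev, ev_unitL x r (k + 1), Nat.cast_zero, zero_mul, zero_add]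
    congr 1; omega

theorem ev_redL (x : ℕ → ZMod p) : ∀ (n k : ℕ) (l : List ℕ), ev x k (redL p n l) = ev x k l
  | 0, k, [] => by simp [redL, ev]
  | 0, k, a :: l => by
    have h := ev_redL x 0 (k + 1) l
    simp only [redL, List.map_cons, ev, ZMod.natCast_mod] at h ⊢
    rw [h]
  | n + 1, k, [] => by
    simp only [redL, ev, ev_redL x n (k + 1) [], Nat.cast_zero, zero_mul, add_zero]
  | n + 1, k, a :: l => by
    simp only [redL, ev, ZMod.natCast_mod, ev_redL x n (k + 1) l]

/-- A combination of rows. -/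
def combR : List (List ℕ) → List ℕ → List ℕ
  | r :: rs, c :: cs => bif Nat.beq c 0 then combR rs cs else addL (smulL c r) (combR rs cs)
  | _, _ => []

theorem ev_combR (x : ℕ → ZMod p) : ∀ (rs : List (List ℕ)) (cs : List ℕ),
    (∀ r ∈ rs, ev x 0 r = 0) → ev x 0 (combR rs cs) = 0
  | [], _, _ => by simp [combR, ev]
  | _ :: _, [], _ => by simp [combR, ev]
  | r :: rs, c :: cs, h => by
    have ih := ev_combR x rs cs fun a ha => h a (List.mem_cons_of_mem _ ha)
    simp only [combR]
    cases Nat.beq c 0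
    · simp [ev_addL, ev_smulL, ih, h r (List.mem_cons_self ..)]
    · exact ih

/-- A rewriting step: prefix, suffix, relation, direction. -/
abbrev Step : Type := List ℕ × List ℕ × ℕ × Bool

/-- The relations. -/
abbrev Rels : Type := List (List ℕ × List ℕ)

/-- The word before a step. -/
def src (R : Rels) : Step → List ℕ
  | (u, s, r, d) => u ++ (bif d then (R.getD r ([], [])).2 else (R.getD r ([], [])).1) ++ s

/-- The word after a step. -/
def dst (R : Rels) : Step → List ℕ
  | (u, s, r, d) => u ++ (bif d then (R.getD r ([], [])).1 else (R.getD r ([], [])).2) ++ s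

/-- The steps form a path from `w` to `fin`. -/
def chain (R : Rels) (fin : List ℕ) : List ℕ → List Step → Bool
  | w, [] => w == fin
  | w, st :: rest => (w == src R st) && Nat.blt st.2.2.1 R.length && chain R fin (dst R st) rest

/-- The linear form of a path. -/
def sumL (p : ℕ) : List Step → List ℕ
  | [] => []
  | (_, _, r, d) :: rest => addL (smulL (bif d then p - 1 else 1) (unitL r)) (sumL p rest)

/-- A certificate. -/
structure Cert where
  /-- The length of the pc sequence. -/
  m : ℕ
  /-- The relations, the first ones defining the Sylow subgroup. -/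
  rels : Rels
  /-- Closed paths. -/
  paths : List (List ℕ × List Step)
  /-- Their linear forms. -/
  rows : List (List ℕ)
  /-- The change of lifts. -/
  mu : List (List ℕ)
  /-- Combinations of rows. -/
  comb : List (List ℕ)

/-- The index of the relation with left side `[j, i]` or a power of `j`. -/
def ridx (j i : ℕ) : ℕ := j * (j + 1) / 2 + i

/-- The number of relations of the Sylow subgroup. -/
def Cert.ns (C : Cert) : ℕ := C.m * (C.m + 1) / 2

/-- The form of the correction of a word. -/
def lw (mu : List (List ℕ)) (w : List ℕ) : List ℕ := w.foldr (fun a l => addL (mu.getD a []) l) []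

/-- The check of the paths. -/
def Cert.pathsOK (C : Cert) (p : ℕ) : Bool :=
  (C.paths.all fun q => chain C.rels q.1 q.1 q.2) &&
    (C.paths.map fun q => redL p C.rels.length (sumL p q.2)) == C.rows

/-- The check of the normalised relations. -/
def Cert.normOK (C : Cert) (p : ℕ) : Bool :=
  Nat.ble C.ns C.rels.length && (List.range C.ns).all fun r =>
    redL p C.rels.length (addL (unitL r) (addL (lw C.mu (C.rels.getD r ([], [])).1)
      (smulL (p - 1) (lw C.mu (C.rels.getD r ([], [])).2)))) ==
    redL p C.rels.length (combR C.rows (C.comb.getD r []))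

/-- The shape of a power-conjugate presentation. -/
def Cert.shapeOK (C : Cert) (p : ℕ) : Bool :=
  (List.range C.m).all fun j => (List.range (j + 1)).all fun i =>
    let q := C.rels.getD (ridx j i) ([], [])
    bif Nat.beq i j then (q.1 == List.replicate p j) && q.2.all fun a => Nat.blt a j
    else (q.1 == [j, i]) && (q.2 == q.2.dropLast ++ [j]) && q.2.dropLast.all fun a => Nat.blt a j

/-- All checks independent of the group. -/
def Cert.check (C : Cert) (p : ℕ) : Bool := C.pathsOK p && C.normOK p && C.shapeOK p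

section Group

variable {Γ : Type*} [Group Γ]

/-- The value of a word. -/
def wv (L : ℕ → Γ) (w : List ℕ) : Γ := (w.map L).prod

theorem wv_append (L : ℕ → Γ) (u w : List ℕ) : wv L (u ++ w) = wv L u * wv L w := by simp [wv]

/-- A central kernel map. -/
structure Ker (p : ℕ) (Γ : Type*) [Group Γ] where
  /-- The map. -/
  j : ZMod p → Γ
  j_add : ∀ a b, j (a + b) = j a * j b
  j_inj : Function.Injective j
  central : ∀ a g, g * j a = j a * g

variable (K : Ker p Γ)

theorem Ker.j_zero : K.j 0 = 1 := by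
  have h := K.j_add 0 0
  rw [add_zero] at h
  exact left_eq_mul.1 h

theorem Ker.wv_change (L : ℕ → Γ) (x : ℕ → ZMod p) (mu : List (List ℕ)) : ∀ w : List ℕ,
    wv (fun a => K.j (ev x 0 (mu.getD a [])) * L a) w = K.j (ev x 0 (lw mu w)) * wv L w
  | [] => by simp [wv, lw, ev, K.j_zero]
  | a :: w => by
    have ih := Ker.wv_change L x mu w
    simp only [wv, List.map_cons, List.prod_cons, lw, List.foldr_cons] at ih ⊢
    rw [ih, ev_addL, K.j_add, mul_assoc (K.j _) (L a), ← mul_assoc (L a), K.central]
    simp only [mul_assoc]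

theorem Ker.chain_sound (L : ℕ → Γ) (R : Rels) (v : ℕ → ZMod p)
    (hv : ∀ r < R.length, wv L (R.getD r ([], [])).1 = K.j (v r) * wv L (R.getD r ([], [])).2)
    (hp : 1 ≤ p) (fin : List ℕ) : ∀ (steps : List Step) (w : List ℕ), chain R fin w steps = true →
      wv L w = K.j (ev v 0 (sumL p steps)) * wv L fin
  | [], w, h => by
    rw [chain, beq_iff_eq] at h
    subst h
    simp [sumL, ev, K.j_zero]
  | (u, s, r, d) :: rest, w, h => by
    rw [chain, Bool.and_eq_true, Bool.and_eq_true, beq_iff_eq] at h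
    obtain ⟨⟨rfl, hr⟩, hrest⟩ := h
    have hr' : r < R.length := by simpa [Nat.blt_eq] using hr
    have ih := Ker.chain_sound L R v hv hp fin rest _ hrest
    rw [sumL, ev_addL, ev_smulL, ev_unitL, zero_add, K.j_add, mul_assoc, ← ih]
    simp only [src, dst, wv_append]
    cases d
    · simp only [cond_false, Nat.cast_one, one_mul]
      rw [hv r hr', ← mul_assoc (wv L u), K.central]
      simp only [mul_assoc]
    · simp only [cond_true]
      have h1 : wv L (R.getD r ([], [])).2 = K.j (-(v r)) * wv L (R.getD r ([], [])).1 := by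
        rw [hv r hr', ← mul_assoc, ← K.j_add, neg_add_cancel, K.j_zero, one_mul]
      have h2 : ((p - 1 : ℕ) : ZMod p) * v r = -(v r) := by
        rw [Nat.cast_sub hp, ZMod.natCast_self, Nat.cast_one, zero_sub, neg_one_mul]
      rw [h1, h2, ← mul_assoc (wv L u), K.central]
      simp only [mul_assoc]

theorem card_closure_step [Finite Γ] {H : Subgroup Γ} {e : Γ} (hp : 0 < p) (hpow : e ^ p ∈ H)
    (hn : ∀ h ∈ H, e * h * e⁻¹ ∈ H) :
    Nat.card ↥(H ⊔ Subgroup.zpowers e) ≤ p * Nat.card H := by
  have hle : Subgroup.zpowers e ≤ Subgroup.normalizer (H : Set Γ) :=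
    Subgroup.zpowers_le.2 (SchurSplit.mem_normalizer_of_forall hn)
  have hsurj : Function.Surjective (fun q : Fin p × H => (⟨q.2 * e ^ (q.1 : ℕ),
      mul_mem (le_sup_left (b := Subgroup.zpowers e) q.2.2)
        (le_sup_right (a := H) (Subgroup.npow_mem_zpowers e _))⟩ : ↥(H ⊔ Subgroup.zpowers e))) := by
    intro x
    have hx : (x : Γ) ∈ ((H ⊔ Subgroup.zpowers e : Subgroup Γ) : Set Γ) := x.2
    rw [Subgroup.coe_mul_of_right_le_normalizer_left H _ hle] at hx
    obtain ⟨a, ha, b, ⟨z, rfl⟩, he⟩ := hx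
    have hz0 : 0 ≤ z % (p : ℤ) := Int.emod_nonneg _ (by exact_mod_cast hp.ne')
    have hzp : z % (p : ℤ) < p := Int.emod_lt_of_pos _ (by exact_mod_cast hp)
    obtain ⟨r, hr⟩ := Int.eq_ofNat_of_zero_le hz0
    refine ⟨(⟨r, by omega⟩, ⟨a * (e ^ p) ^ (z / (p : ℤ)), H.mul_mem ha (H.zpow_mem hpow _)⟩),
      Subtype.ext ?_⟩
    show a * (e ^ p) ^ (z / (p : ℤ)) * e ^ r = x
    rw [← he, mul_assoc, ← zpow_natCast e p, ← zpow_mul, ← zpow_natCast e r, ← zpow_add, ← hr,
      Int.mul_ediv_add_emod]
  refine (Nat.card_le_card_of_surjective _ hsurj).trans ?_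
  rw [Nat.card_prod, Nat.card_fin]

theorem card_closure_pc [Finite Γ] (C : Cert) (hp : 0 < p) (hs : C.shapeOK p = true) {e : ℕ → Γ}
    (he : ∀ r < C.ns, wv e (C.rels.getD r ([], [])).1 = wv e (C.rels.getD r ([], [])).2) :
    ∀ k ≤ C.m, Nat.card (Subgroup.closure {x | ∃ a < k, e a = x}) ≤ p ^ k
  | 0, _ => by
    have : Subgroup.closure {x : Γ | ∃ a < 0, e a = x} = ⊥ := by
      rw [Subgroup.closure_eq_bot_iff]
      rintro x ⟨a, ha, -⟩
      exact absurd ha (Nat.not_lt_zero a)
    rw [this, Subgroup.card_bot, pow_zero]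
  | k + 1, hk => by
    set H := Subgroup.closure {x : Γ | ∃ a < k, e a = x} with hH
    have hmem : ∀ a < k, e a ∈ H := fun a ha => Subgroup.subset_closure ⟨a, ha, rfl⟩
    have hwmem : ∀ w : List ℕ, (∀ a ∈ w, a < k) → wv e w ∈ H := fun w hw =>
      list_prod_mem fun x hx => by
        obtain ⟨a, ha, rfl⟩ := List.mem_map.1 hx
        exact hmem a (hw a ha)
    have hs' := hs
    rw [Cert.shapeOK, List.all_eq_true] at hs'
    have hshape := fun i (hi : i < k + 1) =>
      List.all_eq_true.1 (hs' k (List.mem_range.2 (by omega))) i (List.mem_range.2 hi)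
    have hidx : ∀ i, i < k + 1 → ridx k i < C.ns := fun i hi => by
      unfold ridx Cert.ns
      have h1 : (k + 1) * (k + 2) / 2 ≤ C.m * (C.m + 1) / 2 :=
        Nat.div_le_div_right (Nat.mul_le_mul (by omega) (by omega))
      have h2 : (k + 1) * (k + 2) = k * (k + 1) + (k + 1) * 2 := by ring
      rw [h2, Nat.add_mul_div_right _ _ (by norm_num)] at h1
      omega
    have hsq : e k ^ p ∈ H := by
      have h := hshape k (by omega)
      simp only [show Nat.beq k k = true from Nat.beq_refl k, cond_true, Bool.and_eq_true,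
        beq_iff_eq, List.all_eq_true, Nat.blt_eq] at h
      have h2 := he _ (hidx k (by omega))
      rw [h.1] at h2
      rw [show e k ^ p = wv e (List.replicate p k) by simp [wv], h2]
      exact hwmem _ h.2
    have hn : ∀ x ∈ H, e k * x * (e k)⁻¹ ∈ H := by
      intro x hx
      have hle : H ≤ H.comap (MulAut.conj (e k)).toMonoidHom := by
        rw [hH, Subgroup.closure_le]
        rintro y ⟨i, hi, rfl⟩
        show e k * e i * (e k)⁻¹ ∈ H
        have hne : Nat.beq i k = false := by
          rw [← Bool.not_eq_true, Nat.beq_eq]; omega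
        have h := hshape i (by omega)
        simp only [hne, cond_false, Bool.and_eq_true, beq_iff_eq, List.all_eq_true, Nat.blt_eq] at h
        have h2 := he _ (hidx i (by omega))
        rw [h.1.1, h.1.2] at h2
        rw [show e k * e i = wv e [k, i] by simp [wv], h2, wv_append,
          show wv e [k] = e k by simp [wv], mul_inv_cancel_right]
        exact hwmem _ h.2
      exact hle hx
    have hsup : Subgroup.closure {x : Γ | ∃ a < k + 1, e a = x} ≤ H ⊔ Subgroup.zpowers (e k) := by
      rw [Subgroup.closure_le]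
      rintro x ⟨a, ha, rfl⟩
      rcases Nat.lt_succ_iff_lt_or_eq.1 ha with h | rfl
      · exact le_sup_left (b := Subgroup.zpowers (e k)) (hmem a h)
      · exact le_sup_right (a := H) (Subgroup.mem_zpowers _)
    refine (Subgroup.card_le_of_le hsup).trans ((card_closure_step hp hsq hn).trans ?_)
    rw [pow_succ']
    exact Nat.mul_le_mul_left p (card_closure_pc C hp hs he k (by omega))

end Group

section Split

variable [Fact p.Prime] {G : Type*} [Group G] {Γ : Type*} [Group Γ] [Finite Γ]

/-- A stem extension with a kernel of order `p` is impossible when the certificate applies. -/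
theorem false_of_check (C : Cert) (hC : C.check p = true) (g : ℕ → G)
    (hrel : ∀ r < C.rels.length,
      wv g (C.rels.getD r ([], [])).1 = wv g (C.rels.getD r ([], [])).2)
    (hcard : p ^ C.m ≤ Nat.card (Subgroup.closure {x | ∃ a < C.m, g a = x}))
    {N i : ℕ} (hN : Nat.card G = N) (hNi : N = p ^ C.m * i) (hi : ¬ p ∣ i)
    (σ : Γ →* G) (hσ : Function.Surjective σ) (hc : σ.ker ≤ Subgroup.center Γ)
    (hd : σ.ker ≤ commutator Γ) (hK : Nat.card σ.ker = p) : False := by
  have hp : 0 < p := (Fact.out : p.Prime).pos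
  obtain ⟨f⟩ : Nonempty (Multiplicative (ZMod p) ≃* σ.ker) := by
    have := isCyclic_of_prime_card hK
    exact ⟨mulEquivOfCyclicCardEq (by rw [hK]; simp)⟩
  let K : Ker p Γ :=
    { j := fun a => (f (Multiplicative.ofAdd a) : Γ)
      j_add := fun a b => by rw [ofAdd_add, map_mul, Subgroup.coe_mul]
      j_inj := fun a b h => Multiplicative.ofAdd.injective (f.injective (Subtype.ext h))
      central := fun a g => (Subgroup.mem_center_iff.1 (hc (f _).2) g) }
  choose L hL using fun a => hσ (g a)
  have hσwv : ∀ (e : ℕ → Γ), (∀ a, σ (e a) = g a) → ∀ w, σ (wv e w) = wv g w := fun e he w => by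
    rw [wv, wv, map_list_prod, List.map_map]
    congr 1
    exact List.map_congr_left fun a _ => he a
  have hval : ∀ r, ∃ v, r < C.rels.length →
      wv L (C.rels.getD r ([], [])).1 = K.j v * wv L (C.rels.getD r ([], [])).2 := by
    intro r
    by_cases hr : r < C.rels.length
    · have hmem : wv L (C.rels.getD r ([], [])).1 * (wv L (C.rels.getD r ([], [])).2)⁻¹ ∈ σ.ker := by
        rw [MonoidHom.mem_ker, map_mul, map_inv, hσwv L hL, hσwv L hL, hrel r hr, mul_inv_cancel]
      obtain ⟨a, ha⟩ := f.surjective ⟨_, hmem⟩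
      refine ⟨a.toAdd, fun _ => ?_⟩
      show _ = (f (Multiplicative.ofAdd a.toAdd) : Γ) * _
      rw [ofAdd_toAdd, ha, inv_mul_cancel_right]
    · exact ⟨0, fun h => absurd h hr⟩
  choose v hv using hval
  simp only [Cert.check, Cert.pathsOK, Cert.normOK, Bool.and_eq_true, List.all_eq_true, beq_iff_eq,
    Nat.ble_eq, List.mem_range] at hC
  obtain ⟨⟨⟨hchain, hrows⟩, hns, hnorm⟩, hshape⟩ := hC
  have hrow : ∀ a ∈ C.rows, ev v 0 a = 0 := by
    intro a ha
    rw [← hrows, List.mem_map] at ha
    obtain ⟨q, hq, rfl⟩ := ha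
    rw [ev_redL]
    have h := K.chain_sound L C.rels v hv hp q.1 q.2 q.1 (hchain q hq)
    exact K.j_inj ((right_eq_mul.1 h).trans K.j_zero.symm)
  set e : ℕ → Γ := fun a => K.j (ev v 0 (C.mu.getD a [])) * L a with he
  have hσe : ∀ a, σ (e a) = g a := fun a => by
    have hj : σ (K.j (ev v 0 (C.mu.getD a []))) = 1 := (f _).2
    rw [he, map_mul, hj, one_mul, hL]
  have hrel' : ∀ r < C.ns, wv e (C.rels.getD r ([], [])).1 = wv e (C.rels.getD r ([], [])).2 := by
    intro r hr
    have h := congrArg (ev v 0) (hnorm r hr)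
    rw [ev_redL, ev_redL, ev_combR _ _ _ hrow, ev_addL, ev_addL, ev_smulL, ev_unitL, zero_add,
      Nat.cast_sub (show 1 ≤ p from hp), ZMod.natCast_self, Nat.cast_one, zero_sub, neg_one_mul] at h
    rw [he, K.wv_change, K.wv_change, hv r (by omega), ← mul_assoc, ← K.j_add]
    congr 2
    linear_combination h
  set A := Subgroup.closure {x : Γ | ∃ a < C.m, e a = x} with hA
  have hAc : Nat.card A ≤ p ^ C.m := card_closure_pc C hp hshape hrel' C.m le_rfl
  have : Finite G := Finite.of_surjective σ hσ
  set S := A.map σ with hS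
  have hSeq : S = Subgroup.closure {x | ∃ a < C.m, g a = x} := by
    rw [hS, hA, MonoidHom.map_closure]
    congr 1
    ext x
    constructor
    · rintro ⟨y, ⟨a, ha, rfl⟩, rfl⟩
      exact ⟨a, ha, (hσe a).symm⟩
    · rintro ⟨a, ha, rfl⟩
      exact ⟨e a, ⟨a, ha, rfl⟩, hσe a⟩
  have hSc : p ^ C.m ≤ Nat.card S := hSeq ▸ hcard
  have hsurjA : Function.Surjective (σ.subgroupMap A) := σ.subgroupMap_surjective A
  have hScard : Nat.card S = p ^ C.m :=
    le_antisymm ((Nat.card_le_card_of_surjective _ hsurjA).trans hAc) hSc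
  have hinjA : Function.Injective (σ.subgroupMap A) :=
    (hsurjA.bijective_of_nat_card_le (hAc.trans hSc)).1
  have hAK : A ⊓ σ.ker = ⊥ := (Subgroup.eq_bot_iff_forall _).2 fun x hx =>
    congrArg Subtype.val (hinjA (a₁ := ⟨x, hx.1⟩) (a₂ := 1)
      (Subtype.ext (show σ x = σ 1 by rw [MonoidHom.mem_ker.1 hx.2, map_one])))
  have : IsMulCommutative σ.ker := ⟨⟨fun a b => Subtype.ext (Subgroup.mem_center_iff.1 (hc b.2) a)⟩⟩
  have hidx : (σ.ker ⊔ A).index = i := by
    rw [sup_comm, ← Subgroup.comap_map_eq, ← hS, Subgroup.index_comap_of_surjective _ hσ]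
    have h := Subgroup.card_mul_index S
    rw [hScard, hN, hNi] at h
    exact Nat.eq_of_mul_eq_mul_left (pow_pos hp _) h
  obtain ⟨H, hH⟩ := Solvable.exists_isComplement'_of_le (K := σ.ker) (A := A) (U := σ.ker ⊔ A)
    le_sup_left (by rw [hK, hidx]; exact (Fact.out : p.Prime).coprime_iff_not_dvd.2 hi) hAK rfl
  have hle : commutator Γ ≤ H := by
    rw [commutator_def, Subgroup.commutator_le]
    intro a _ b _
    obtain ⟨⟨k, x⟩, rfl⟩ := hH.2 a
    obtain ⟨⟨l, y⟩, rfl⟩ := hH.2 b
    have hkc : ∀ z : Γ, z * k = k * z := fun z => Subgroup.mem_center_iff.1 (hc k.2) z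
    have hlc : ∀ z : Γ, z * l = l * z := fun z => Subgroup.mem_center_iff.1 (hc l.2) z
    have heq : ⁅(k : Γ) * x, (l : Γ) * y⁆ = ⁅(x : Γ), (y : Γ)⁆ := by
      rw [← hkc, ← hlc]
      exact CfsgLib.Schur.commutatorElement_mul_center (hc k.2) (hc l.2)
    show ⁅(k : Γ) * x, (l : Γ) * y⁆ ∈ H
    rw [heq]
    exact H.mul_mem (H.mul_mem (H.mul_mem x.2 y.2) (H.inv_mem x.2)) (H.inv_mem y.2)
  have hbot : σ.ker = ⊥ := (Subgroup.eq_bot_iff_forall _).2 fun x hx =>
    Subgroup.disjoint_def.1 hH.disjoint hx (hle (hd hx))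
  rw [hbot, Subgroup.card_bot] at hK
  exact (Fact.out : p.Prime).ne_one hK.symm

/-- A checked certificate bounds the kernels of stem extensions away from `p`. -/
theorem not_dvd_card_ker_of_check (C : Cert) (hC : C.check p = true) (g : ℕ → G)
    (hrel : ∀ r < C.rels.length,
      wv g (C.rels.getD r ([], [])).1 = wv g (C.rels.getD r ([], [])).2)
    (hcard : p ^ C.m ≤ Nat.card (Subgroup.closure {x | ∃ a < C.m, g a = x}))
    {N i : ℕ} (hN : Nat.card G = N) (hNi : N = p ^ C.m * i) (hi : ¬ p ∣ i)
    (σ : Γ →* G) (hσ : Function.Surjective σ) (hc : σ.ker ≤ Subgroup.center Γ)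
    (hd : σ.ker ≤ commutator Γ) : ¬ p ∣ Nat.card σ.ker := by
  intro hdvd
  let _ : CommGroup σ.ker :=
    { (inferInstance : Group σ.ker) with
      mul_comm := fun a b => Subtype.ext (Subgroup.mem_center_iff.1 (hc b.2) a) }
  obtain ⟨M, hM⟩ : ∃ M : Subgroup σ.ker, M.index = p := by
    obtain ⟨T, hT⟩ := exists_prime_orderOf_dvd_card' p hdvd
    let ψ : σ.ker →* σ.ker := powMonoidHom p
    have hne : ψ.range ≠ ⊤ := by
      intro htop
      have hinj := Finite.injective_iff_surjective.2 (MonoidHom.range_eq_top.1 htop)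
      have hT1 : T = 1 := hinj (by
        show T ^ p = 1 ^ p
        rw [one_pow, ← hT, pow_orderOf_eq_one])
      rw [hT1, orderOf_one] at hT
      exact (Fact.out : p.Prime).ne_one hT.symm
    have : Nontrivial (σ.ker ⧸ ψ.range) := by
      rw [← Finite.one_lt_card_iff_nontrivial]
      show 1 < ψ.range.index
      have h0 : ψ.range.index ≠ 0 := Subgroup.index_ne_zero_of_finite
      have h1 : ψ.range.index ≠ 1 := fun h => hne (Subgroup.index_eq_one.1 h)
      omega
    obtain ⟨M₀, -, -, hq⟩ := Solvable.exists_normal_prime_index (G := σ.ker ⧸ ψ.range)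
    have hpg : IsPGroup p (σ.ker ⧸ ψ.range) := fun x => ⟨1, by
      obtain ⟨y, rfl⟩ := QuotientGroup.mk_surjective x
      rw [pow_one, ← QuotientGroup.mk_pow, QuotientGroup.eq_one_iff]
      exact ⟨y, rfl⟩⟩
    obtain ⟨n, hn⟩ := IsPGroup.iff_card.1 hpg
    refine ⟨M₀.comap (QuotientGroup.mk' ψ.range), ?_⟩
    rw [Subgroup.index_comap_of_surjective _ (QuotientGroup.mk'_surjective _)]
    exact (Nat.prime_dvd_prime_iff_eq hq (Fact.out : p.Prime)).1
      (hq.dvd_of_dvd_pow (hn ▸ Subgroup.index_dvd_card M₀))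
  set M' := M.map σ.ker.subtype with hM'
  have hn : M'.Normal := ⟨fun x hx g' => by
    have hxc : x ∈ Subgroup.center Γ := hc (Subgroup.map_subtype_le M hx)
    rw [Subgroup.mem_center_iff.1 hxc g', mul_inv_cancel_right]
    exact hx⟩
  let σ' : Γ ⧸ M' →* G := QuotientGroup.lift M' σ fun x hx => Subgroup.map_subtype_le M hx
  have hker : σ'.ker = σ.ker.map (QuotientGroup.mk' M') := by
    ext x
    obtain ⟨y, rfl⟩ := QuotientGroup.mk'_surjective M' x
    constructor
    · intro h
      exact Subgroup.mem_map_of_mem _ h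
    · rintro ⟨z, hz, e⟩
      rw [← e]
      exact hz
  refine false_of_check C hC g hrel hcard hN hNi hi σ' (fun x => ?_) ?_ ?_ ?_
  · obtain ⟨y, hy⟩ := hσ x
    exact ⟨QuotientGroup.mk' M' y, hy⟩
  · rw [hker]
    rintro _ ⟨z, hz, rfl⟩
    rw [Subgroup.mem_center_iff]
    intro q
    obtain ⟨w, rfl⟩ := QuotientGroup.mk'_surjective M' q
    rw [← map_mul, ← map_mul, Subgroup.mem_center_iff.1 (hc hz) w]
  · rw [hker, ← CfsgLib.Schur.map_commutator_eq_of_center (QuotientGroup.mk' M') (by
      rw [MonoidHom.range_eq_top.2 (QuotientGroup.mk'_surjective M'), top_sup_eq])]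
    exact Subgroup.map_mono hd
  · rw [hker, ← Subgroup.relIndex_ker, QuotientGroup.ker_mk', hM', Subgroup.relIndex]
    rw [Subgroup.subgroupOf, Subgroup.comap_map_eq_self_of_injective (Subgroup.subtype_injective _), hM]

end Split

end CfsgLib.SchurPath
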