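import Cfsg.Agent.Lib.Schur.Multiplier
import Mathlib.GroupTheory.OrderOfElement
import Mathlib.GroupTheory.SpecificGroups.Cyclic

/-!
# Trivial multiplier for groups generated by a normal cyclic subgroup and one element
-/

set_option autoImplicit false

universe u v

namespace CfsgLib.Schur

open Subgroup
open scoped commutatorElement

section

variable {E : Type u} [Group E]

/-- If a set generates modulo the centre and its members commute, the group is abelian. -/
theorem commutator_eq_bot_of_closure_sup_center {S : Set E} (hS : closure S ⊔ center E = ⊤)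
    (hc : ∀ x ∈ S, ∀ y ∈ S, x * y = y * x) : commutator E = ⊥ := by
  rw [← map_commutator_eq_of_center (closure S).subtype (by rw [range_subtype, hS])]
  rw [eq_bot_iff, map_le_iff_le_comap, commutator_def, commutator_le]
  intro a _ b _
  rw [mem_comap, mem_bot, map_commutatorElement]
  have : closure S ≤ centralizer (closure S : Set E) := by
    have h2 : closure S ≤ centralizer S :=
      (closure_le _).mpr fun x hx => mem_centralizer_iff.mpr fun y hy => hc y hy x hx
    refine le_centralizer_iff.mp ((closure_le _).mpr fun x hx => ?_)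
    exact mem_centralizer_iff.mpr fun y hy => (mem_centralizer_iff.mp (h2 hy) x hx).symm
  exact commutatorElement_eq_one_iff_mul_comm.mpr (mem_centralizer_iff.mp (this a.2) b b.2).symm

end

/-- `ker ∩ commutator` is trivial for a central extension of a group `⟨a, b⟩` with `⟨a⟩` normal,
provided a power `a ^ m` with `m ∣ orderOf ⁅b, a⁆` lies in `⟨b⟩`. -/
theorem ker_inf_commutator_eq_bot_of_cyclic_by {Γ : Type u} {Q : Type v} [Group Γ] [Group Q]
    (σ : Γ →* Q) (hs : Function.Surjective σ) (hc : σ.ker ≤ center Γ) (a b : Q)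
    (hn : (zpowers a).Normal) (hgen : closure ({a, b} : Set Q) = ⊤) (m : ℕ)
    (hm : m ∣ orderOf ⁅b, a⁆) (ham : a ^ m ∈ zpowers b) :
    σ.ker ⊓ commutator Γ = ⊥ := by
  obtain ⟨A, rfl⟩ := hs a
  obtain ⟨B, rfl⟩ := hs b
  have hsup : ∀ g : Γ, σ g ∈ zpowers (σ A) → ∃ k : ℤ, ∃ z ∈ σ.ker, A ^ k * z = g := by
    rintro g ⟨k, hk⟩
    exact ⟨k, (A ^ k)⁻¹ * g, by simp_all, by simp⟩
  have hcomm : ∀ x y : Γ, σ x ∈ zpowers (σ A) → σ y ∈ zpowers (σ A) → x * y = y * x := by
    intro x y hx hy
    obtain ⟨i, z, hz, rfl⟩ := hsup x hx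
    obtain ⟨j, w, hw, rfl⟩ := hsup y hy
    have e : ∀ (i j : ℤ) (z w : Γ), z ∈ σ.ker →
        A ^ i * z * (A ^ j * w) = A ^ (i + j) * (z * w) := fun i j z w hz => by
      rw [zpow_add, mul_assoc, ← mul_assoc z, ← mem_center_iff.mp (hc hz) (A ^ j)]
      simp [mul_assoc]
    rw [e i j z w hz, e j i w z hw, add_comm j i, mem_center_iff.mp (hc hw) z]
  let N : Subgroup Γ := (zpowers (σ A)).comap σ
  have hN : N.Normal := hn.comap σ
  have hAN : A ∈ N := mem_zpowers (σ A)
  have key : ∀ x ∈ N, ⁅B, x⁆ ∈ N := fun x hx => by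
    rw [commutatorElement_def]
    exact mul_mem (hN.conj_mem x hx B) (inv_mem hx)
  let f : N →* Γ := {
    toFun := fun x => ⁅B, (x : Γ)⁆
    map_one' := by simp
    map_mul' := fun x y => by
      have h1 := hcomm (x : Γ) ⁅B, (y : Γ)⁆ x.2 (key _ y.2)
      rw [Subgroup.coe_mul]
      calc ⁅B, (x : Γ) * y⁆ = ⁅B, (x : Γ)⁆ * ((x : Γ) * ⁅B, (y : Γ)⁆ * (x : Γ)⁻¹) := by
            simp [commutatorElement_def, mul_assoc]
        _ = ⁅B, (x : Γ)⁆ * ⁅B, (y : Γ)⁆ := by rw [h1, mul_inv_cancel_right] }
  let c : Γ := ⁅B, A⁆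
  have hBA : ∀ g ∈ zpowers B, B * g = g * B := by
    rintro g ⟨k, rfl⟩
    exact (Commute.self_zpow B k)
  have hfK : ∀ z ∈ σ.ker, ⁅B, z⁆ = 1 := fun z hz =>
    commutatorElement_eq_one_iff_mul_comm.mpr (mem_center_iff.mp (hc hz) B)
  have hrange : ∀ x ∈ N, ⁅B, x⁆ ∈ zpowers c := by
    intro x hx
    obtain ⟨k, z, hz, rfl⟩ := hsup x hx
    refine ⟨k, ?_⟩
    have hzN : z ∈ N := by
      show σ z ∈ zpowers (σ A)
      rw [MonoidHom.mem_ker.mp hz]; exact one_mem _
    have := map_mul f ((⟨A, hAN⟩ : N) ^ k) ⟨z, hzN⟩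
    rw [map_zpow] at this
    simpa [f, hfK z hz] using this.symm
  have hcN : zpowers c ≤ N := zpowers_le.mpr (key A hAN)
  have hcm : c ^ m = 1 := by
    obtain ⟨k, hk⟩ := ham
    have hz : (B ^ k)⁻¹ * A ^ m ∈ σ.ker := by simp_all
    have hcomBA : B * A ^ m = A ^ m * B := by
      have := mem_center_iff.mp (hc hz) B
      calc B * A ^ m = B ^ k * (B * ((B ^ k)⁻¹ * A ^ m)) := by
            rw [← mul_assoc, ← hBA _ ⟨k, rfl⟩, mul_assoc, mul_inv_cancel_left]
        _ = A ^ m * B := by rw [this, ← mul_assoc, mul_inv_cancel_left]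
    have := map_pow f (⟨A, hAN⟩ : N) m
    simpa [f, c, commutatorElement_eq_one_iff_mul_comm.mpr hcomBA] using this.symm
  -- the derived subgroup is generated by `c`
  have hsupT : closure ({A, B} : Set Γ) ⊔ σ.ker = ⊤ := by
    rw [← comap_map_eq, MonoidHom.map_closure, Set.image_pair, hgen, comap_top]
  have hD : commutator Γ ≤ zpowers c := by
    have hR : ∀ h x : Γ, x ∈ zpowers c → h * c * h⁻¹ ∈ zpowers c → h * x * h⁻¹ ∈ zpowers c := by
      rintro h x ⟨k, rfl⟩ hh
      simpa [conj_zpow] using zpow_mem hh k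
    have hle : closure ({A, B} : Set Γ) ⊔ σ.ker ≤ normalizer (zpowers c : Set Γ) := by
      refine sup_le ((closure_le _).mpr ?_) fun z hz => ?_
      · intro h hh
        have h12 : h * c * h⁻¹ ∈ zpowers c ∧ h⁻¹ * c * h ∈ zpowers c := by
          rcases hh with rfl | rfl
          · have h1 : h * c = c * h := hcomm _ _ hAN (key _ hAN)
            exact ⟨by rw [h1, mul_inv_cancel_right]; exact mem_zpowers c,
              by rw [mul_assoc, ← h1, inv_mul_cancel_left]; exact mem_zpowers c⟩
          · refine ⟨?_, ?_⟩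
            · have := hrange _ (hN.conj_mem A hAN h)
              simpa [c, commutatorElement_def, mul_assoc] using this
            · have := hrange _ (hN.conj_mem A hAN h⁻¹)
              simpa [c, commutatorElement_def, mul_assoc] using this
        refine mem_normalizer_iff.mpr fun x => ⟨fun hx => hR h x hx h12.1, fun hx => ?_⟩
        simpa [mul_assoc] using hR h⁻¹ _ hx (by simpa using h12.2)
      · exact mem_normalizer_iff.mpr fun x => by
          rw [← mem_center_iff.mp (hc hz) x, mul_inv_cancel_right]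
    have hcn : (zpowers c).Normal := normalizer_eq_top_iff.mp (eq_top_iff.mpr (hsupT ▸ hle))
    let q := QuotientGroup.mk' (zpowers c)
    have hbot : commutator (Γ ⧸ zpowers c) = ⊥ := by
      refine commutator_eq_bot_of_closure_sup_center (S := {q A, q B}) ?_ ?_
      · rw [eq_top_iff]
        intro y _
        obtain ⟨g, rfl⟩ := QuotientGroup.mk'_surjective (zpowers c) y
        have hg : g ∈ closure ({A, B} : Set Γ) ⊔ σ.ker := hsupT ▸ mem_top g
        have hg' := mem_map_of_mem q hg
        rw [Subgroup.map_sup, MonoidHom.map_closure, Set.image_pair] at hg'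
        have hle' : σ.ker.map q ≤ center (Γ ⧸ zpowers c) := by
          rintro _ ⟨z, hz, rfl⟩
          rw [mem_center_iff]
          intro w
          obtain ⟨w, rfl⟩ := QuotientGroup.mk'_surjective (zpowers c) w
          rw [← map_mul, ← map_mul, mem_center_iff.mp (hc hz) w]
        exact (sup_le le_sup_left (hle'.trans le_sup_right)) hg'
      · have hAB : q B * q A = q A * q B := by
          rw [← commutatorElement_eq_one_iff_mul_comm, ← map_commutatorElement]
          exact (QuotientGroup.eq_one_iff c).mpr (mem_zpowers c)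
        rintro x (rfl | rfl) y (rfl | rfl)
        exacts [rfl, hAB.symm, hAB, rfl]
    have h2 : (commutator Γ).map q = ⊥ := by
      rw [map_commutator_eq_of_center q
        (by rw [MonoidHom.range_eq_top.mpr (QuotientGroup.mk'_surjective _), top_sup_eq]), hbot]
    intro x hx
    have := h2.le (mem_map_of_mem q hx)
    rwa [mem_bot, QuotientGroup.mk'_apply, QuotientGroup.eq_one_iff] at this
  rw [eq_bot_iff]
  rintro x ⟨hxK, hxD⟩
  obtain ⟨k, rfl⟩ := hD hxD
  have h1 : σ c ^ k = 1 := by simpa using hxK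
  rw [show σ c = ⁅σ B, σ A⁆ from map_commutatorElement σ B A] at h1
  have h2 : (m : ℤ) ∣ k :=
    (Int.natCast_dvd_natCast.mpr hm).trans (orderOf_dvd_iff_zpow_eq_one.mpr h1)
  obtain ⟨j, rfl⟩ := h2
  show c ^ ((m : ℤ) * j) ∈ (⊥ : Subgroup Γ)
  rw [mem_bot, zpow_mul, zpow_natCast, hcm, one_zpow]

end CfsgLib.Schur
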