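import Cfsg.Agent.Lib.Schur.Multiplier

/-!
# Fibre products of central extensions, perfect groups
-/

set_option autoImplicit false

universe u v w

namespace CfsgLib.Schur

open Subgroup
open scoped commutatorElement

section Fibre

variable {A : Type u} {B : Type v} {Q : Type w} [Group A] [Group B] [Group Q]

/-- The fibre product of two homomorphisms with common target. -/
def fibre (f : A →* Q) (g : B →* Q) : Subgroup (A × B) :=
  (f.comp (MonoidHom.fst A B)).eqLocus (g.comp (MonoidHom.snd A B))

theorem mem_fibre {f : A →* Q} {g : B →* Q} {p : A × B} : p ∈ fibre f g ↔ f p.1 = g p.2 :=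
  Iff.rfl

/-- First projection of the fibre product. -/
def fibreFst (f : A →* Q) (g : B →* Q) : fibre f g →* A :=
  (MonoidHom.fst A B).comp (fibre f g).subtype

/-- Second projection of the fibre product. -/
def fibreSnd (f : A →* Q) (g : B →* Q) : fibre f g →* B :=
  (MonoidHom.snd A B).comp (fibre f g).subtype

theorem fibreFst_surjective (f : A →* Q) {g : B →* Q} (hg : Function.Surjective g) :
    Function.Surjective (fibreFst f g) := fun a =>
  let ⟨b, hb⟩ := hg (f a)
  ⟨⟨(a, b), hb.symm⟩, rfl⟩

theorem fibreSnd_surjective {f : A →* Q} (g : B →* Q) (hf : Function.Surjective f) :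
    Function.Surjective (fibreSnd f g) := fun b =>
  let ⟨a, ha⟩ := hf (g b)
  ⟨⟨(a, b), ha⟩, rfl⟩

theorem ker_fibreFst_le_center (f : A →* Q) {g : B →* Q} (hg : g.ker ≤ center B) :
    (fibreFst f g).ker ≤ center (fibre f g) := by
  intro p hp
  have h1 : p.1.1 = 1 := hp
  have h2 : p.1.2 ∈ g.ker := by
    rw [MonoidHom.mem_ker, ← mem_fibre.mp p.2, h1, map_one]
  rw [mem_center_iff]
  intro q
  apply Subtype.ext
  apply Prod.ext
  · simp [h1]
  · exact mem_center_iff.mp (hg h2) q.1.2

end Fibre

/-- A derived subgroup supplementing the centre is perfect. -/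
theorem isPerfect_commutator {E : Type u} [Group E] (h : commutator E ⊔ center E = ⊤) :
    Group.IsPerfect (commutator E) := by
  rw [Group.isPerfect_def]
  apply map_injective (f := (commutator E).subtype) (Subgroup.subtype_injective _)
  rw [map_commutator_eq_of_center _ (by rw [range_subtype, h]), ← MonoidHom.range_eq_map,
    range_subtype]

/-- Homomorphisms from a perfect group that agree modulo the centre are equal. -/
theorem eq_of_div_mem_center {E : Type u} {E' : Type v} [Group E] [Group E']
    (hE : Group.IsPerfect E') {f g : E' →* E} (h : ∀ x, f x * (g x)⁻¹ ∈ center E) : f = g :=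
  MonoidHom.ext fun x => eqOn_commutator_of_div_mem_center h x (hE.commutator_eq_top ▸ mem_top x)

/-- A central extension of `Q` whose kernel lies in the derived subgroup is perfect if `Q` is. -/
theorem commutator_sup_center_eq_top {E : Type u} {Q : Type v} [Group E] [Group Q]
    (hQ : Group.IsPerfect Q) (ρ : E →* Q) (hρs : Function.Surjective ρ) (hρ : ρ.ker ≤ center E) :
    commutator E ⊔ center E = ⊤ := by
  rw [eq_top_iff, ← comap_top ρ, ← hQ.commutator_eq_top,
    ← map_commutator_eq_of_center ρ (by rw [MonoidHom.range_eq_top.mpr hρs, top_sup_eq]),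
    comap_map_eq]
  exact sup_le_sup_left hρ _

section PerfectCover

variable (Q : Type u) [Group Q]

/-- For perfect `Q` the derived subgroup of `Cov (pres Q)` is perfect. -/
theorem isPerfect_covCommutator (hQ : Group.IsPerfect Q) :
    Group.IsPerfect (commutator (Cov (pres Q))) :=
  isPerfect_commutator (commutator_sup_center_eq_top hQ _ (proj_surjective _ (pres_surjective Q))
    (ker_proj_le_center _))

theorem covCommutator_surjective (hQ : Group.IsPerfect Q) :
    Function.Surjective ((proj (pres Q)).comp (commutator (Cov (pres Q))).subtype) := by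
  intro q
  have hq : q ∈ (commutator (Cov (pres Q))).map (proj (pres Q)) := by
    rw [map_commutator_eq_of_center _
      (by rw [MonoidHom.range_eq_top.mpr (proj_surjective _ (pres_surjective Q)), top_sup_eq]),
      hQ.commutator_eq_top]
    trivial
  obtain ⟨w, hw, rfl⟩ := hq
  exact ⟨⟨w, hw⟩, rfl⟩

theorem finite_covCommutator [Finite Q] : Finite (commutator (Cov (pres Q))) := by
  have : Finite (Cov (pres Q) ⧸ (proj (pres Q)).ker) :=
    Finite.of_equiv _ (QuotientGroup.quotientKerEquivRange (proj (pres Q))).toEquiv.symm
  have : Finite (Cov (pres Q) ⧸ center (Cov (pres Q))) :=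
    Finite.of_surjective _ (QuotientGroup.map_surjective_of_surjective (proj (pres Q)).ker
      (center (Cov (pres Q))) (MonoidHom.id _) (QuotientGroup.mk'_surjective _)
      (by simpa using ker_proj_le_center (pres Q)))
  exact finite_commutator_of_finite_quotient_center

end PerfectCover

end CfsgLib.Schur
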