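import Cfsg.Agent.Lib.Schur.Sylow
import Cfsg.Agent.Lib.Schur.CyclicBy
import Cfsg.Agent.Lib.Schur.Perfect
import Mathlib.GroupTheory.SpecificGroups.Cyclic
import Mathlib.Data.Nat.Squarefree
import Mathlib.Tactic

/-!
Bounds `p² ∤ |kernel|` for stem extensions from a Sylow subgroup of rank two or dihedral type, and
assembly of cyclic Schur multipliers of squarefree order.
-/

set_option autoImplicit false

namespace CfsgLib.SchurBound

open Subgroup
open scoped commutatorElement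

universe u v

variable {Γ G : Type*} [Group Γ] [Group G]

/-- If the kernel elements of `P'` lie in a subgroup of order dividing `p`, then `p²` does not
divide the order of the kernel. -/
theorem sq_not_dvd_card_ker [Finite Γ] {p : ℕ} [hp : Fact p.Prime] (σ : Γ →* G)
    (hc : σ.ker ≤ center Γ) (hd : σ.ker ≤ _root_.commutator Γ) (P : Sylow p Γ)
    (C : Subgroup (P : Subgroup Γ)) (hC : Nat.card C ∣ p)
    (hP : ∀ y ∈ _root_.commutator (P : Subgroup Γ), σ (y : Γ) = 1 → y ∈ C) :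
    ¬ p ^ 2 ∣ Nat.card σ.ker := by
  intro hdvd
  obtain ⟨K, hK⟩ := Sylow.exists_subgroup_card_pow_prime p hdvd
  have hmem : ∀ z : K, ∃ y : C, ((y : (P : Subgroup Γ)) : Γ) = ((z : σ.ker) : Γ) := by
    intro z
    have hzP : ((z : σ.ker) : Γ) ∈ (P : Subgroup Γ) :=
      SchurSylow.center_pElement_mem_sylow P (hc z.1.2) (k := 2) (by
        have := pow_card_eq_one' (x := z)
        rw [hK] at this
        simpa using congrArg (fun w : K => ((w : σ.ker) : Γ)) this)
    obtain ⟨y, hy, hyz⟩ := mem_map.1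
      (SchurSylow.center_inf_commutator_inf_sylow_le P (hc z.1.2) (hd z.1.2) hzP)
    exact ⟨⟨y, hP y hy (by rw [Subgroup.coe_subtype] at hyz; rw [hyz]; exact z.1.2)⟩, hyz⟩
  choose f hf using hmem
  have hle := Nat.card_le_card_of_injective f fun a b h => Subtype.ext (Subtype.ext (by
    rw [← hf a, ← hf b, h]))
  rw [hK] at hle
  have := Nat.le_of_dvd hp.out.pos hC
  have := hp.out.one_lt
  nlinarith

/-- Every Sylow subgroup of a quotient is the image of one upstairs. -/
theorem exists_sylow_map_eq [Finite Γ] {p : ℕ} [Fact p.Prime] (σ : Γ →* G)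
    (hs : Function.Surjective σ) (Q : Sylow p G) :
    ∃ P : Sylow p Γ, (P : Subgroup Γ).map σ = Q := by
  have : Finite G := Finite.of_surjective σ hs
  let P0 : Sylow p Γ := default
  obtain ⟨g, hg⟩ := MulAction.exists_smul_eq G (P0.mapSurjective hs) Q
  obtain ⟨k, rfl⟩ := hs g
  refine ⟨k • P0, ?_⟩
  rw [← hg]
  simp only [Sylow.coe_subgroup_smul, Sylow.coe_mapSurjective]
  ext x
  simp only [mem_map, Subgroup.mem_pointwise_smul_iff_inv_smul_mem, MulAut.smul_def,
    MulAut.inv_apply, MulAut.conj_symm_apply]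
  constructor
  · rintro ⟨y, hy, rfl⟩
    exact ⟨k⁻¹ * y * k, hy, by simp⟩
  · rintro ⟨y, hy, he⟩
    exact ⟨k * y * k⁻¹, by simpa [mul_assoc] using hy, by simp [he, mul_assoc]⟩

/-- If the Sylow order is at most `p`, there is no `p`-part in the kernel. -/
theorem not_dvd_card_ker_of_sq_not_dvd [Finite Γ] {p : ℕ} [hp : Fact p.Prime] (σ : Γ →* G)
    (hs : Function.Surjective σ) (hc : σ.ker ≤ center Γ) (hd : σ.ker ≤ _root_.commutator Γ)
    (hG : ¬ p ^ 2 ∣ Nat.card G) : ¬ p ∣ Nat.card σ.ker := by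
  have : Finite G := Finite.of_surjective σ hs
  let P : Sylow p Γ := default
  obtain ⟨k, hk⟩ := (P.2.map σ).exists_card_eq
  have hk1 : k ≤ 1 := by
    by_contra h
    exact hG ((pow_dvd_pow p (by omega : 2 ≤ k)).trans (hk ▸ card_subgroup_dvd_card _))
  have : IsCyclic ((P : Subgroup Γ).map σ) := by
    rcases (by omega : k = 0 ∨ k = 1) with rfl | rfl
    · rw [pow_zero] at hk
      have : Subsingleton ((P : Subgroup Γ).map σ) := (Nat.card_eq_one_iff_unique.1 hk).1
      infer_instance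
    · rw [pow_one] at hk
      exact isCyclic_of_prime_card hk
  exact SchurSylow.not_dvd_card_ker_of_cyclic σ hc hd P

section rankTwo

variable {P : Type u} {Q : Type v} [Group P] [Group Q] (τ : P →* Q) (hτ : Function.Surjective τ)
  (hc : τ.ker ≤ center P)

include hc in
/-- A central extension of `⟨a, b⟩` has cyclic derived group if `⁅A, B⁆` is normalised. -/
theorem commutator_le_zpowers {A B : P} (hgen : closure ({τ A, τ B} : Set Q) = ⊤)
    (hA : A * ⁅A, B⁆ * A⁻¹ = ⁅A, B⁆) (hB : B * ⁅A, B⁆ * B⁻¹ ∈ zpowers ⁅A, B⁆)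
    (hB' : B⁻¹ * ⁅A, B⁆ * B ∈ zpowers ⁅A, B⁆) :
    _root_.commutator P ≤ zpowers ⁅A, B⁆ := by
  set N := zpowers ⁅A, B⁆
  have hspan : closure ({A, B} : Set P) ⊔ τ.ker = ⊤ := by
    rw [← comap_map_eq, MonoidHom.map_closure, Set.image_pair, hgen, comap_top]
  have conjz : ∀ (g h : P), g * h * g⁻¹ ∈ N → ∀ k : ℤ, g * h ^ k * g⁻¹ ∈ N := fun g h hg k => by
    rw [← conj_zpow]; exact N.zpow_mem hg k
  have hnorm : N.Normal := by
    refine normalizer_eq_top_iff.1 (top_le_iff.1 ?_)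
    rw [← hspan, sup_le_iff, closure_le]
    refine ⟨?_, fun z hz => ?_⟩
    · have hA' : A⁻¹ * ⁅A, B⁆ * A = ⁅A, B⁆ := by
        conv_lhs => rw [← hA]
        simp [mul_assoc]
      have key : ∀ g : P, g * ⁅A, B⁆ * g⁻¹ ∈ N → g⁻¹ * ⁅A, B⁆ * g ∈ N →
          g ∈ normalizer (N : Set P) := by
        intro g h1 h2
        rw [mem_normalizer_iff]
        intro h
        constructor
        · rintro ⟨k, rfl⟩; exact conjz g _ h1 k
        · intro hh
          obtain ⟨k, hk⟩ := hh
          have := conjz g⁻¹ ⁅A, B⁆ (by rwa [inv_inv]) k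
          rw [show ⁅A, B⁆ ^ k = g * h * g⁻¹ from hk] at this
          simpa [mul_assoc] using this
      rintro g (rfl | rfl)
      · exact key _ (by rw [hA]; exact mem_zpowers _) (by rw [hA']; exact mem_zpowers _)
      · exact key _ hB hB'
    · rw [mem_normalizer_iff]
      intro h
      rw [← mem_center_iff.1 (hc hz) h, mul_inv_cancel_right]
  have hcom : _root_.commutator (P ⧸ N) = ⊥ := by
    refine Schur.commutator_eq_bot_of_closure_sup_center
      (S := QuotientGroup.mk' N '' {A, B}) ?_ ?_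
    · rw [← MonoidHom.map_closure, eq_top_iff,
        ← map_top_of_surjective _ (QuotientGroup.mk'_surjective N), ← hspan, Subgroup.map_sup]
      refine sup_le_sup_left ?_ _
      rintro _ ⟨z, hz, rfl⟩
      rw [mem_center_iff]
      intro q
      obtain ⟨q, rfl⟩ := QuotientGroup.mk'_surjective N q
      rw [← map_mul, ← map_mul, mem_center_iff.1 (hc hz) q]
    · have h1 : ⁅(QuotientGroup.mk' N) A, (QuotientGroup.mk' N) B⁆ = 1 := by
        rw [← map_commutatorElement]
        exact (QuotientGroup.eq_one_iff _).2 (mem_zpowers _)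
      rw [commutatorElement_eq_one_iff_mul_comm] at h1
      rintro x ⟨x, (rfl | rfl), rfl⟩ y ⟨y, (rfl | rfl), rfl⟩
      exacts [rfl, h1, h1.symm, rfl]
  intro y hy
  rw [← QuotientGroup.eq_one_iff]
  have : QuotientGroup.mk' N y ∈ _root_.commutator (P ⧸ N) := by
    rw [_root_.commutator_def] at hy ⊢
    have := mem_map_of_mem (QuotientGroup.mk' N) hy
    rw [map_commutator, map_top_of_surjective _ (QuotientGroup.mk'_surjective N)] at this
    exact this
  rw [hcom, mem_bot] at this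
  exact this

include hτ hc in
/-- Abelian image `⟨a, b⟩` with `a ^ p = 1`: the derived group of the extension has order `∣ p`. -/
theorem exists_bound_of_abelian {p : ℕ} {a b : Q} (hgen : closure ({a, b} : Set Q) = ⊤)
    (hab : a * b = b * a) (ha : a ^ p = 1) :
    ∃ C : Subgroup P, Nat.card C ∣ p ∧ ∀ y ∈ _root_.commutator P, τ y = 1 → y ∈ C := by
  obtain ⟨A, rfl⟩ := hτ a
  obtain ⟨B, rfl⟩ := hτ b
  set c := ⁅A, B⁆ with hcdef
  have hcc : ∀ g, g * c = c * g := fun g => mem_center_iff.1 (hc (by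
    rw [MonoidHom.mem_ker, hcdef, map_commutatorElement]
    exact commutatorElement_eq_one_iff_mul_comm.2 hab)) g
  have hle := commutator_le_zpowers τ hc hgen
    (by rw [hcc, mul_inv_cancel_right]) (by rw [hcc, mul_inv_cancel_right]; exact mem_zpowers _)
    (by rw [hcc B⁻¹, inv_mul_cancel_right]; exact mem_zpowers _)
  refine ⟨zpowers c, ?_, fun y hy _ => hle hy⟩
  rw [Nat.card_zpowers, orderOf_dvd_iff_pow_eq_one]
  have h1 : B * A * B⁻¹ = c⁻¹ * A := by rw [hcdef, commutatorElement_def]; group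
  have h2 : B * A ^ p * B⁻¹ = c⁻¹ ^ p * A ^ p := by
    rw [← conj_pow, h1]
    exact (show Commute c⁻¹ A from (show Commute c A from (hcc A).symm).inv_left).mul_pow p
  rw [mem_center_iff.1 (hc (show A ^ p ∈ τ.ker by rw [MonoidHom.mem_ker, map_pow, ha])) B,
    mul_inv_cancel_right, right_eq_mul, inv_pow, inv_eq_one] at h2
  exact h2

include hτ hc in
/-- Dihedral image: the kernel elements of the derived group form a group of order `∣ 2`. -/
theorem exists_bound_of_dihedral {a b : Q} {m : ℕ} (hgen : closure ({a, b} : Set Q) = ⊤)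
    (hab : b * a * b⁻¹ = a⁻¹) (hord : orderOf a = 2 * m) :
    ∃ C : Subgroup P, Nat.card C ∣ 2 ∧ ∀ y ∈ _root_.commutator P, τ y = 1 → y ∈ C := by
  obtain ⟨A, rfl⟩ := hτ a
  obtain ⟨B, rfl⟩ := hτ b
  set z := A * (B * A * B⁻¹) with hz
  have hzk : τ z = 1 := by simp [hz, hab]
  have hzc : ∀ g, g * z = z * g := fun g => mem_center_iff.1 (hc hzk) g
  have hBA : B * A * B⁻¹ = A⁻¹ * z := by simp [hz]
  set c := ⁅A, B⁆ with hcdef
  have hczz : c = A * A * z⁻¹ := by
    have : c = A * (B * A * B⁻¹)⁻¹ := by rw [hcdef, commutatorElement_def]; group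
    rw [this, hBA, mul_inv_rev, inv_inv,
      ← (show Commute A z⁻¹ from (show Commute A z from hzc A).inv_right).eq, mul_assoc]
  have hzi : ∀ g, g * z⁻¹ = z⁻¹ * g := fun g =>
    (show Commute g z⁻¹ from (show Commute g z from hzc g).inv_right).eq
  have hAc : A * c * A⁻¹ = c := by
    rw [hczz, show A * (A * A * z⁻¹) * A⁻¹ = A * A * (A * z⁻¹) * A⁻¹ by group, hzi A]
    group
  have hBc : B * c * B⁻¹ = c⁻¹ := by
    calc B * c * B⁻¹ = (B * A * B⁻¹) * (B * A * B⁻¹) * (B * z⁻¹ * B⁻¹) := by rw [hczz]; group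
      _ = (A⁻¹ * z) * (A⁻¹ * z) * z⁻¹ := by rw [hBA, hzi B, mul_inv_cancel_right]
      _ = A⁻¹ * (z * A⁻¹) := by group
      _ = A⁻¹ * (A⁻¹ * z) := by rw [hzc A⁻¹]
      _ = z * (A⁻¹ * A⁻¹) := by rw [← mul_assoc, hzc]
      _ = c⁻¹ := by rw [hczz]; group
  have hBc' : B⁻¹ * c * B = c⁻¹ := by
    rw [← inv_inv (B⁻¹ * c * B)]
    congr 1
    calc (B⁻¹ * c * B)⁻¹ = B⁻¹ * (B * c * B⁻¹) * B := by rw [hBc]; group
      _ = c := by group
  have hle := commutator_le_zpowers τ hc hgen hAc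
    (by rw [hBc]; exact inv_mem (mem_zpowers _)) (by rw [hBc']; exact inv_mem (mem_zpowers _))
  have hc2m : c ^ (2 * m) = 1 := by
    have hk : τ (A ^ (2 * m)) = 1 := by rw [map_pow, ← hord, pow_orderOf_eq_one]
    have h2 : B * A ^ (2 * m) * B⁻¹ = (A ^ (2 * m))⁻¹ * z ^ (2 * m) := by
      rw [← conj_pow, hBA, (show Commute A⁻¹ z from hzc A⁻¹).mul_pow, inv_pow]
    rw [mem_center_iff.1 (hc hk) B, mul_inv_cancel_right, eq_inv_mul_iff_mul_eq] at h2
    rw [hczz, (show Commute (A * A) z⁻¹ from hzi _).mul_pow, inv_pow, ← h2,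
      (Commute.refl A).mul_pow, mul_inv_cancel]
  refine ⟨zpowers (c ^ m), ?_, fun y hy hy1 => ?_⟩
  · rw [Nat.card_zpowers, orderOf_dvd_iff_pow_eq_one, ← pow_mul, mul_comm, hc2m]
  · obtain ⟨k, rfl⟩ := hle hy
    have hsq : orderOf (τ c) = m := by
      rw [hczz, map_mul, map_mul, map_inv, hzk, inv_one, mul_one, ← pow_two,
        orderOf_pow_of_dvd two_ne_zero (by rw [hord]; exact dvd_mul_right 2 m), hord,
        Nat.mul_div_cancel_left m two_pos]
    obtain ⟨j, rfl⟩ : (m : ℤ) ∣ k := by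
      rw [← hsq, orderOf_dvd_iff_zpow_eq_one, ← map_zpow]; exact hy1
    exact ⟨j, by simp only [zpow_mul, zpow_natCast]; rfl⟩

end rankTwo

/-- Rank-two abelian Sylow image with a generator of order `p`: `p² ∤ |ker|`. -/
theorem sq_not_dvd_of_abelian [Finite Γ] {p : ℕ} [Fact p.Prime] (σ : Γ →* G)
    (hs : Function.Surjective σ) (hc : σ.ker ≤ center Γ) (hd : σ.ker ≤ _root_.commutator Γ)
    (Q : Sylow p G) {a b : (Q : Subgroup G)} (hgen : closure ({a, b} : Set (Q : Subgroup G)) = ⊤)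
    (hab : a * b = b * a) (ha : a ^ p = 1) : ¬ p ^ 2 ∣ Nat.card σ.ker := by
  obtain ⟨P, hP⟩ := exists_sylow_map_eq σ hs Q
  let τ : (P : Subgroup Γ) →* (Q : Subgroup G) :=
    (MulEquiv.subgroupCongr hP).toMonoidHom.comp (σ.subgroupMap P)
  have hτ : Function.Surjective τ :=
    (MulEquiv.subgroupCongr hP).surjective.comp (σ.subgroupMap_surjective _)
  obtain ⟨C, hC, hCy⟩ := exists_bound_of_abelian τ hτ (fun z hz => mem_center_iff.2 fun g =>
    Subtype.ext (mem_center_iff.1 (hc (show σ (z : Γ) = 1 from congrArg Subtype.val hz)) g))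
    hgen hab ha
  exact sq_not_dvd_card_ker σ hc hd P C hC fun y hy hy1 => hCy y hy (Subtype.ext hy1)

/-- Dihedral Sylow image: `4 ∤ |ker|`. -/
theorem sq_not_dvd_of_dihedral [Finite Γ] (σ : Γ →* G)
    (hs : Function.Surjective σ) (hc : σ.ker ≤ center Γ) (hd : σ.ker ≤ _root_.commutator Γ)
    (Q : Sylow 2 G) {a b : (Q : Subgroup G)} {m : ℕ}
    (hgen : closure ({a, b} : Set (Q : Subgroup G)) = ⊤)
    (hab : b * a * b⁻¹ = a⁻¹) (hord : orderOf a = 2 * m) : ¬ 2 ^ 2 ∣ Nat.card σ.ker := by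
  obtain ⟨P, hP⟩ := exists_sylow_map_eq σ hs Q
  let τ : (P : Subgroup Γ) →* (Q : Subgroup G) :=
    (MulEquiv.subgroupCongr hP).toMonoidHom.comp (σ.subgroupMap P)
  have hτ : Function.Surjective τ :=
    (MulEquiv.subgroupCongr hP).surjective.comp (σ.subgroupMap_surjective _)
  obtain ⟨C, hC, hCy⟩ := exists_bound_of_dihedral τ hτ (fun z hz => mem_center_iff.2 fun g =>
    Subtype.ext (mem_center_iff.1 (hc (show σ (z : Γ) = 1 from congrArg Subtype.val hz)) g))
    hgen hab hord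
  exact sq_not_dvd_card_ker σ hc hd P C hC fun y hy hy1 => hCy y hy (Subtype.ext hy1)

theorem dvd_of_squarefree {a b : ℕ} (ha : Squarefree a) (h : ∀ r, r.Prime → r ∣ a → r ∣ b) :
    a ∣ b := by
  rw [← Nat.prod_primeFactors_of_squarefree ha]
  rcases eq_or_ne b 0 with rfl | hb
  · exact dvd_zero _
  refine (Finset.prod_dvd_prod_of_subset _ _ _ fun r hr => ?_).trans (Nat.prod_primeFactors_dvd b)
  rw [Nat.mem_primeFactors] at hr ⊢
  exact ⟨hr.1, h r hr.1 hr.2.1, hb⟩

theorem isCyclic_of_squarefree {A : Type*} [CommGroup A] [Finite A]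
    (h : Squarefree (Nat.card A)) : IsCyclic A := by
  rw [IsCyclic.iff_exponent_eq_card]
  refine Nat.dvd_antisymm Group.exponent_dvd_nat_card (dvd_of_squarefree h fun r hr hd => ?_)
  have := Fact.mk hr
  obtain ⟨x, hx⟩ := exists_prime_orderOf_dvd_card' r hd
  exact hx ▸ Monoid.order_dvd_exponent x

/-- Assembly of a cyclic multiplier of squarefree order. -/
theorem hasCyclic_of_squarefree {G : Type u} [Group G] {n : ℕ} (hn : Squarefree n)
    (hex : ∃ (Γ : Type u) (_ : Group Γ) (_ : Finite Γ) (σ : Γ →* G),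
      Cfsg.IsStemExtension σ ∧ Nat.card σ.ker = n)
    (hle : ∀ (Γ : Type u) [Group Γ] [Finite Γ] (σ : Γ →* G), Cfsg.IsStemExtension σ →
      ∀ r : ℕ, r.Prime → ¬ r ^ 2 ∣ Nat.card σ.ker ∧ (r ∣ Nat.card σ.ker → r ∣ n)) :
    Cfsg.HasCyclicSchurMultiplier G n := by
  have : NeZero n := ⟨Squarefree.ne_zero hn⟩
  have key : ∀ (Γ : Type u) [Group Γ] [Finite Γ] (σ : Γ →* G), Cfsg.IsStemExtension σ →
      Nat.card σ.ker ∣ n ∧ IsCyclic σ.ker := by
    intro Γ _ _ σ hσ
    have hsf : Squarefree (Nat.card σ.ker) := by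
      rw [Nat.squarefree_iff_prime_squarefree]
      intro r hr hd
      exact (hle Γ σ hσ r hr).1 (by rwa [pow_two])
    let instC : CommGroup σ.ker := { (inferInstance : Group σ.ker) with
      mul_comm := fun a b => Subtype.ext (mem_center_iff.1 (hσ.2.1 b.2) a) }
    exact ⟨dvd_of_squarefree hsf fun r hr hd => (hle Γ σ hσ r hr).2 hd,
      @isCyclic_of_squarefree _ instC _ hsf⟩
  have hcard : Nat.card (Multiplicative (ZMod n)) = n := by
    rw [Nat.card_congr Multiplicative.toAdd, Nat.card_zmod]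
  refine ⟨?_, fun Γ _ _ σ hσ => ?_⟩
  · obtain ⟨Γ, i1, i2, σ, hσ, hk⟩ := hex
    have := (key Γ σ hσ).2
    exact ⟨Γ, i1, i2, σ, hσ, ⟨mulEquivOfCyclicCardEq (hk.trans hcard.symm)⟩⟩
  · obtain ⟨hd, hcy⟩ := key Γ σ hσ
    obtain ⟨g, hg⟩ := IsCyclic.exists_generator (α := σ.ker)
    have hgn : g ^ n = 1 := orderOf_dvd_iff_pow_eq_one.1 ((orderOf_dvd_natCard g).trans hd)
    let π0 : ZMod n →+ Additive σ.ker := ZMod.lift n ⟨zmultiplesHom _ (Additive.ofMul g), by
      show (n : ℤ) • Additive.ofMul g = 0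
      rw [natCast_zsmul, ← ofMul_pow, hgn, ofMul_one]⟩
    refine ⟨AddMonoidHom.toMultiplicativeLeft π0, fun y => ?_⟩
    obtain ⟨k, rfl⟩ := hg y
    refine ⟨Multiplicative.ofAdd (k : ZMod n), ?_⟩
    show Additive.toMul (π0 (k : ZMod n)) = g ^ k
    rw [ZMod.lift_coe]
    rfl

/-- Stem extensions with kernels of coprime prime orders combine. -/
theorem exists_stem_prime_mul {G : Type u} [Group G] {p q : ℕ} [Fact p.Prime] [Fact q.Prime]
    (hpq : p ≠ q)
    (hp : ∃ (Γ : Type u) (_ : Group Γ) (_ : Finite Γ) (σ : Γ →* G),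
      Cfsg.IsStemExtension σ ∧ Nat.card σ.ker = p)
    (hq : ∃ (Γ : Type u) (_ : Group Γ) (_ : Finite Γ) (σ : Γ →* G),
      Cfsg.IsStemExtension σ ∧ Nat.card σ.ker = q) :
    ∃ (Γ : Type u) (_ : Group Γ) (_ : Finite Γ) (σ : Γ →* G),
      Cfsg.IsStemExtension σ ∧ Nat.card σ.ker = p * q := by
  obtain ⟨A, _, _, f, hf, hfk⟩ := hp
  obtain ⟨B, _, _, g, hg, hgk⟩ := hq
  let σ : Schur.fibre f g →* G := f.comp (Schur.fibreFst f g)
  have hcop : p.Coprime q := (Nat.coprime_primes Fact.out Fact.out).2 hpq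
  -- components of kernel elements as elements of the derived subgroup
  have hfst : ∀ a : A, f a = 1 → ∃ h : (a, (1 : B)) ∈ Schur.fibre f g,
      (⟨(a, 1), h⟩ : Schur.fibre f g) ∈ _root_.commutator (Schur.fibre f g) := by
    intro a ha
    refine ⟨by rw [Schur.mem_fibre, ha, map_one], ?_⟩
    obtain ⟨a', ha', rfl⟩ : ∃ a', f a' = 1 ∧ a' ^ q = a := by
      have hbij := (powCoprime (G := f.ker) (n := q) (by rw [hfk]; exact hcop)).surjective ⟨a, ha⟩
      obtain ⟨a', ha'⟩ := hbij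
      exact ⟨a', a'.2, congrArg Subtype.val ha'⟩
    have hmem : a' ∈ (_root_.commutator (Schur.fibre f g)).map (Schur.fibreFst f g) := by
      rw [_root_.commutator_def, map_commutator,
        map_top_of_surjective _ (Schur.fibreFst_surjective f hg.1)]
      exact hf.2.2 ha'
    obtain ⟨w, hw, hwa⟩ := hmem
    have hw1 : (w : A × B).1 = a' := hwa
    have hw2 : (w : A × B).2 ^ q = 1 := by
      have hk : g (w : A × B).2 = 1 := by
        rw [← Schur.mem_fibre.1 w.2, hw1, ha']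
      have := pow_card_eq_one' (x := (⟨(w : A × B).2, hk⟩ : g.ker))
      rw [hgk] at this
      exact congrArg Subtype.val this
    convert pow_mem hw q using 1
    exact Subtype.ext (Prod.ext (congrArg (· ^ q) hw1).symm hw2.symm)
  have hsnd : ∀ b : B, g b = 1 → ∃ h : ((1 : A), b) ∈ Schur.fibre f g,
      (⟨(1, b), h⟩ : Schur.fibre f g) ∈ _root_.commutator (Schur.fibre f g) := by
    intro b hb
    refine ⟨by rw [Schur.mem_fibre, hb, map_one], ?_⟩
    obtain ⟨b', hb', rfl⟩ : ∃ b', g b' = 1 ∧ b' ^ p = b := by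
      obtain ⟨b', hb'⟩ :=
        (powCoprime (G := g.ker) (n := p) (by rw [hgk]; exact hcop.symm)).surjective ⟨b, hb⟩
      exact ⟨b', b'.2, congrArg Subtype.val hb'⟩
    have hmem : b' ∈ (_root_.commutator (Schur.fibre f g)).map (Schur.fibreSnd f g) := by
      rw [_root_.commutator_def, map_commutator,
        map_top_of_surjective _ (Schur.fibreSnd_surjective g hf.1)]
      exact hg.2.2 hb'
    obtain ⟨w, hw, hwb⟩ := hmem
    have hw2 : (w : A × B).2 = b' := hwb
    have hw1 : (w : A × B).1 ^ p = 1 := by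
      have hk : f (w : A × B).1 = 1 := by
        rw [Schur.mem_fibre.1 w.2, hw2, hb']
      have := pow_card_eq_one' (x := (⟨(w : A × B).1, hk⟩ : f.ker))
      rw [hfk] at this
      exact congrArg Subtype.val this
    convert pow_mem hw p using 1
    exact Subtype.ext (Prod.ext hw1.symm (congrArg (· ^ p) hw2).symm)
  refine ⟨Schur.fibre f g, inferInstance, inferInstance, σ,
    ⟨hf.1.comp (Schur.fibreFst_surjective f hg.1), ?_, ?_⟩, ?_⟩
  · intro z hz
    have h1 : f (z : A × B).1 = 1 := hz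
    have h2 : g (z : A × B).2 = 1 := by rw [← Schur.mem_fibre.1 z.2, h1]
    exact mem_center_iff.2 fun w => Subtype.ext (Prod.ext (mem_center_iff.1 (hf.2.1 h1) _)
      (mem_center_iff.1 (hg.2.1 h2) _))
  · intro z hz
    have h1 : f (z : A × B).1 = 1 := hz
    have h2 : g (z : A × B).2 = 1 := by rw [← Schur.mem_fibre.1 z.2, h1]
    obtain ⟨_, ha⟩ := hfst _ h1
    obtain ⟨_, hb⟩ := hsnd _ h2
    convert mul_mem ha hb using 1
    exact Subtype.ext (Prod.ext (mul_one _).symm (one_mul _).symm)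
  · rw [← hfk, ← hgk, ← Nat.card_prod]
    exact Nat.card_congr
      { toFun := fun z => (⟨(z.1 : A × B).1, z.2⟩, ⟨(z.1 : A × B).2, by
          rw [MonoidHom.mem_ker, ← Schur.mem_fibre.1 z.1.2]; exact z.2⟩)
        invFun := fun ab => ⟨⟨((ab.1 : A), (ab.2 : B)), by
          rw [Schur.mem_fibre, MonoidHom.mem_ker.1 ab.1.2, MonoidHom.mem_ker.1 ab.2.2]⟩, ab.1.2⟩
        left_inv := fun _ => rfl
        right_inv := fun _ => rfl }

end CfsgLib.SchurBound
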