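import Cfsg.Agent.Lib.Schur.PathCert
import Mathlib.Data.Nat.Bitwise
import Mathlib.Tactic.LinearCombination

/-!
The splitting certificates at the prime 2 with linear forms stored as bit masks.
-/

set_option autoImplicit false

namespace CfsgLib.SchurPath

open scoped commutatorElement

/-- The form of a path. -/
def maskSum : List Step → ℕ
  | [] => 0
  | (_, _, r, _) :: rest => 2 ^ r ^^^ maskSum rest

/-- The exclusive or of a selection. -/
def selX : List ℕ → ℕ → ℕ
  | [], _ => 0
  | r :: rs, c => (bif c % 2 == 1 then r else 0) ^^^ selX rs (c / 2)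

/-- The form of the correction of a word. -/
def lwM (mus : List ℕ) : List ℕ → ℕ
  | [] => 0
  | a :: w => mus.getD a 0 ^^^ lwM mus w

/-- A row is the form of a closed path. -/
def IsRow (R : Rels) (a : ℕ) : Prop := ∃ w st, chain R w w st = true ∧ maskSum st = a

/-- The check of a certificate at the prime 2 with masks. -/
def maskCheck (C : Cert) (mus combs rows : List ℕ) : Bool :=
  Nat.ble C.ns C.rels.length && Nat.ble C.ns combs.length &&
    ((List.range C.ns).all fun r =>
      (2 ^ r ^^^ (lwM mus (C.rels.getD r ([], [])).1 ^^^ lwM mus (C.rels.getD r ([], [])).2)) ==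
        selX rows (combs.getD r 0)) &&
    C.shapeOK 2

theorem add_self_two : ∀ a : ZMod 2, a + a = 0 := by decide

/-- The value of a mask. -/
def evM (x : ℕ → ZMod 2) : ℕ → ℕ → ZMod 2
  | 0, _ => 0
  | n + 1, m => (bif m.testBit n then x n else 0) + evM x n m

theorem evM_zero (x : ℕ → ZMod 2) : ∀ n, evM x n 0 = 0
  | 0 => rfl
  | n + 1 => by simp [evM, evM_zero x n]

theorem evM_xor (x : ℕ → ZMod 2) : ∀ n a b, evM x n (a ^^^ b) = evM x n a + evM x n b
  | 0, _, _ => by simp [evM]
  | n + 1, a, b => by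
    simp only [evM, evM_xor x n a b, Nat.testBit_xor]
    have h2 : x n + x n = 0 := add_self_two _
    cases a.testBit n <;> cases b.testBit n <;>
      simp only [Bool.xor_false, Bool.false_xor, Bool.xor_self, cond_true, cond_false, Bool.bne_true,
        Bool.bne_false, Bool.true_bne, Bool.false_bne, Bool.not_true, Bool.not_false] <;>
      first | linear_combination -h2 | ring

theorem evM_two_pow (x : ℕ → ZMod 2) {r : ℕ} : ∀ {n}, r < n → evM x n (2 ^ r) = x r
  | 0, h => absurd h (Nat.not_lt_zero r)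
  | n + 1, h => by
    rcases Nat.lt_succ_iff_lt_or_eq.1 h with h | rfl
    · have hne : r ≠ n := by omega
      simp [evM, evM_two_pow x h, Nat.testBit_two_pow, hne]
    · have : ∀ k ≤ r, evM x k (2 ^ r) = 0 := by
        intro k
        induction k with
        | zero => intro _; rfl
        | succ k ih =>
          intro hk
          have hne : r ≠ k := by omega
          simp [evM, ih (by omega), Nat.testBit_two_pow, hne]
      simp [evM, this r le_rfl, Nat.testBit_two_pow]

theorem ev_sumL (x : ℕ → ZMod 2) (n : ℕ) : ∀ st : List Step, (∀ s ∈ st, s.2.2.1 < n) →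
    ev x 0 (sumL 2 st) = evM x n (maskSum st)
  | [], _ => by simp [sumL, maskSum, ev, evM_zero]
  | (u, w, r, d) :: rest, h => by
    rw [sumL, ev_addL, ev_smulL, ev_unitL, zero_add, maskSum, evM_xor,
      evM_two_pow x (h _ List.mem_cons_self), ev_sumL x n rest fun s hs => h s (List.mem_cons_of_mem _ hs)]
    cases d <;> simp

theorem evM_selX (x : ℕ → ZMod 2) (n : ℕ) : ∀ {rs : List ℕ} (c : ℕ), (∀ r ∈ rs, evM x n r = 0) →
    evM x n (selX rs c) = 0
  | [], _, _ => by simp [selX, evM_zero]
  | r :: rs, c, h => by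
    rw [selX, evM_xor, evM_selX x n (c / 2) fun a ha => h a (List.mem_cons_of_mem _ ha)]
    cases (c % 2 == 1) <;> simp [evM_zero, h r List.mem_cons_self]

theorem evM_lwM (x : ℕ → ZMod 2) (n : ℕ) (mus : List ℕ) : ∀ w : List ℕ,
    evM x n (lwM mus w) = (w.map fun a => evM x n (mus.getD a 0)).sum
  | [] => by simp [lwM, evM_zero]
  | a :: w => by simp [lwM, evM_xor, evM_lwM x n mus w]

theorem chain_bound (R : Rels) (fin : List ℕ) : ∀ (w : List ℕ) (st : List Step),
    chain R fin w st = true → ∀ s ∈ st, s.2.2.1 < R.length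
  | _, [], _, s, hs => absurd hs (List.not_mem_nil)
  | w, a :: rest, h, s, hs => by
    simp only [chain, Bool.and_eq_true, Nat.blt_eq] at h
    rcases List.mem_cons.1 hs with rfl | hs
    · exact h.1.2
    · exact chain_bound R fin _ rest h.2 s hs

section Change

variable {Γ : Type*} [Group Γ] (K : Ker 2 Γ)

theorem wv_change_fun (L : ℕ → Γ) (c : ℕ → ZMod 2) : ∀ w : List ℕ,
    wv (fun a => K.j (c a) * L a) w = K.j (w.map c).sum * wv L w
  | [] => by simp [wv, K.j_zero]
  | a :: w => by
    have ih := wv_change_fun L c w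
    simp only [wv, List.map_cons, List.prod_cons, List.sum_cons] at ih ⊢
    rw [ih, K.j_add, mul_assoc (K.j _) (L a), ← mul_assoc (L a), K.central]
    simp only [mul_assoc]

end Change

section SplitTwo

variable {G : Type*} [Group G] {Γ : Type*} [Group Γ] [Finite Γ]

/-- A stem extension with a kernel of order 2 is impossible when the certificate applies. -/
theorem false_of_maskCheck (C : Cert) (mus combs rows : List ℕ)
    (hC : maskCheck C mus combs rows = true) (hP : ∀ a ∈ rows, IsRow C.rels a)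
    (g : ℕ → G)
    (hrel : ∀ r < C.rels.length,
      wv g (C.rels.getD r ([], [])).1 = wv g (C.rels.getD r ([], [])).2)
    (hcard : 2 ^ C.m ≤ Nat.card (Subgroup.closure {x | ∃ a < C.m, g a = x}))
    {N i : ℕ} (hN : Nat.card G = N) (hNi : N = 2 ^ C.m * i) (hi : ¬ 2 ∣ i)
    (σ : Γ →* G) (hσ : Function.Surjective σ) (hc : σ.ker ≤ Subgroup.center Γ)
    (hd : σ.ker ≤ commutator Γ) (hK : Nat.card σ.ker = 2) : False := by
  have hp : 0 < 2 := Nat.prime_two.pos
  haveI : Fact (Nat.Prime 2) := ⟨Nat.prime_two⟩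
  obtain ⟨f⟩ : Nonempty (Multiplicative (ZMod 2) ≃* σ.ker) := by
    have := isCyclic_of_prime_card hK
    exact ⟨mulEquivOfCyclicCardEq (by rw [hK]; simp)⟩
  let K : Ker 2 Γ :=
    { j := fun a => (f (Multiplicative.ofAdd a) : Γ)
      j_add := fun a b => by rw [ofAdd_add, map_mul, Subgroup.coe_mul]
      j_inj := fun a b h => Multiplicative.ofAdd.injective (f.injective (Subtype.ext h))
      central := fun a g => (Subgroup.mem_center_iff.1 (hc (f _).2) g) }
  choose L hL using fun a => hσ (g a)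
  have hσwv : ∀ (e : ℕ → Γ), (∀ a, σ (e a) = g a) → ∀ w, σ (wv e w) = wv g w := fun e he w => by
    rw [wv, wv, map_list_prod, List.map_map]
    congr 1
    exact List.map_congr_left fun a _ => he a
  have hval : ∀ r, ∃ v, r < C.rels.length →
      wv L (C.rels.getD r ([], [])).1 = K.j v * wv L (C.rels.getD r ([], [])).2 := by
    intro r
    by_cases hr : r < C.rels.length
    · have hmem : wv L (C.rels.getD r ([], [])).1 * (wv L (C.rels.getD r ([], [])).2)⁻¹ ∈ σ.ker := by
        rw [MonoidHom.mem_ker, map_mul, map_inv, hσwv L hL, hσwv L hL, hrel r hr, mul_inv_cancel]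
      obtain ⟨a, ha⟩ := f.surjective ⟨_, hmem⟩
      refine ⟨a.toAdd, fun _ => ?_⟩
      show _ = (f (Multiplicative.ofAdd a.toAdd) : Γ) * _
      rw [ofAdd_toAdd, ha, inv_mul_cancel_right]
    · exact ⟨0, fun h => absurd h hr⟩
  choose v hv using hval
  simp only [maskCheck, Bool.and_eq_true, List.all_eq_true, beq_iff_eq, Nat.ble_eq,
    List.mem_range] at hC
  obtain ⟨⟨⟨hns, hlen⟩, hnorm⟩, hshape⟩ := hC
  have hrow : ∀ a ∈ rows, evM v C.rels.length a = 0 := by
    intro a ha
    obtain ⟨w, st, hst, rfl⟩ := hP a ha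
    have hb : ∀ s ∈ st, s.2.2.1 < C.rels.length := chain_bound _ _ _ _ hst
    have h := K.chain_sound L C.rels v hv hp w st w hst
    rw [← ev_sumL v C.rels.length st hb]
    exact K.j_inj ((right_eq_mul.1 h).trans K.j_zero.symm)
  set cf : ℕ → ZMod 2 := fun a => evM v C.rels.length (mus.getD a 0) with hcf
  set e : ℕ → Γ := fun a => K.j (cf a) * L a with he
  have hσe : ∀ a, σ (e a) = g a := fun a => by
    have hj : σ (K.j (cf a)) = 1 := (f _).2
    rw [he, map_mul, hj, one_mul, hL]
  have hrel' : ∀ r < C.ns, wv e (C.rels.getD r ([], [])).1 = wv e (C.rels.getD r ([], [])).2 := by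
    intro r hr
    have h := congrArg (evM v C.rels.length) (hnorm r hr)
    rw [evM_selX v C.rels.length _ hrow, evM_xor, evM_xor, evM_two_pow v (by omega)] at h
    rw [he, wv_change_fun K L cf, wv_change_fun K L cf, hv r (by omega), ← mul_assoc, ← K.j_add]
    congr 2
    rw [hcf, ← evM_lwM, ← evM_lwM]
    have h2 := add_self_two
    linear_combination h - h2 (evM v C.rels.length (lwM mus (C.rels.getD r ([], [])).2))
  set A := Subgroup.closure {x : Γ | ∃ a < C.m, e a = x} with hA
  have hAc : Nat.card A ≤ 2 ^ C.m := card_closure_pc C hp hshape hrel' C.m le_rfl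
  have : Finite G := Finite.of_surjective σ hσ
  set S := A.map σ with hS
  have hSeq : S = Subgroup.closure {x | ∃ a < C.m, g a = x} := by
    rw [hS, hA, MonoidHom.map_closure]
    congr 1
    ext x
    constructor
    · rintro ⟨y, ⟨a, ha, rfl⟩, rfl⟩
      exact ⟨a, ha, (hσe a).symm⟩
    · rintro ⟨a, ha, rfl⟩
      exact ⟨e a, ⟨a, ha, rfl⟩, hσe a⟩
  have hSc : 2 ^ C.m ≤ Nat.card S := hSeq ▸ hcard
  have hsurjA : Function.Surjective (σ.subgroupMap A) := σ.subgroupMap_surjective A
  have hScard : Nat.card S = 2 ^ C.m :=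
    le_antisymm ((Nat.card_le_card_of_surjective _ hsurjA).trans hAc) hSc
  have hinjA : Function.Injective (σ.subgroupMap A) :=
    (hsurjA.bijective_of_nat_card_le (hAc.trans hSc)).1
  have hAK : A ⊓ σ.ker = ⊥ := (Subgroup.eq_bot_iff_forall _).2 fun x hx =>
    congrArg Subtype.val (hinjA (a₁ := ⟨x, hx.1⟩) (a₂ := 1)
      (Subtype.ext (show σ x = σ 1 by rw [MonoidHom.mem_ker.1 hx.2, map_one])))
  have : IsMulCommutative σ.ker := ⟨⟨fun a b => Subtype.ext (Subgroup.mem_center_iff.1 (hc b.2) a)⟩⟩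
  have hidx : (σ.ker ⊔ A).index = i := by
    rw [sup_comm, ← Subgroup.comap_map_eq, ← hS, Subgroup.index_comap_of_surjective _ hσ]
    have h := Subgroup.card_mul_index S
    rw [hScard, hN, hNi] at h
    exact Nat.eq_of_mul_eq_mul_left (pow_pos hp _) h
  obtain ⟨H, hH⟩ := Solvable.exists_isComplement'_of_le (K := σ.ker) (A := A) (U := σ.ker ⊔ A)
    le_sup_left (by rw [hK, hidx]; exact Nat.prime_two.coprime_iff_not_dvd.2 hi) hAK rfl
  have hle : commutator Γ ≤ H := by
    rw [commutator_def, Subgroup.commutator_le]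
    intro a _ b _
    obtain ⟨⟨k, x⟩, rfl⟩ := hH.2 a
    obtain ⟨⟨l, y⟩, rfl⟩ := hH.2 b
    have hkc : ∀ z : Γ, z * k = k * z := fun z => Subgroup.mem_center_iff.1 (hc k.2) z
    have hlc : ∀ z : Γ, z * l = l * z := fun z => Subgroup.mem_center_iff.1 (hc l.2) z
    have heq : ⁅(k : Γ) * x, (l : Γ) * y⁆ = ⁅(x : Γ), (y : Γ)⁆ := by
      rw [← hkc, ← hlc]
      exact CfsgLib.Schur.commutatorElement_mul_center (hc k.2) (hc l.2)
    show ⁅(k : Γ) * x, (l : Γ) * y⁆ ∈ H
    rw [heq]
    exact H.mul_mem (H.mul_mem (H.mul_mem x.2 y.2) (H.inv_mem x.2)) (H.inv_mem y.2)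
  have hbot : σ.ker = ⊥ := (Subgroup.eq_bot_iff_forall _).2 fun x hx =>
    Subgroup.disjoint_def.1 hH.disjoint hx (hle (hd hx))
  rw [hbot, Subgroup.card_bot] at hK
  exact Nat.prime_two.ne_one hK.symm

/-- A checked certificate bounds the kernels of stem extensions away from 2. -/
theorem not_dvd_card_ker_of_maskCheck (C : Cert) (mus combs rows : List ℕ)
    (hC : maskCheck C mus combs rows = true) (hP : ∀ a ∈ rows, IsRow C.rels a) (g : ℕ → G)
    (hrel : ∀ r < C.rels.length,
      wv g (C.rels.getD r ([], [])).1 = wv g (C.rels.getD r ([], [])).2)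
    (hcard : 2 ^ C.m ≤ Nat.card (Subgroup.closure {x | ∃ a < C.m, g a = x}))
    {N i : ℕ} (hN : Nat.card G = N) (hNi : N = 2 ^ C.m * i) (hi : ¬ 2 ∣ i)
    (σ : Γ →* G) (hσ : Function.Surjective σ) (hc : σ.ker ≤ Subgroup.center Γ)
    (hd : σ.ker ≤ commutator Γ) : ¬ 2 ∣ Nat.card σ.ker := by
  intro hdvd
  let _ : CommGroup σ.ker :=
    { (inferInstance : Group σ.ker) with
      mul_comm := fun a b => Subtype.ext (Subgroup.mem_center_iff.1 (hc b.2) a) }
  obtain ⟨M, hM⟩ : ∃ M : Subgroup σ.ker, M.index = 2 := by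
    obtain ⟨T, hT⟩ := exists_prime_orderOf_dvd_card' 2 hdvd
    let ψ : σ.ker →* σ.ker := powMonoidHom 2
    have hne : ψ.range ≠ ⊤ := by
      intro htop
      have hinj := Finite.injective_iff_surjective.2 (MonoidHom.range_eq_top.1 htop)
      have hT1 : T = 1 := hinj (by
        show T ^ 2 = 1 ^ 2
        rw [one_pow, ← hT, pow_orderOf_eq_one])
      rw [hT1, orderOf_one] at hT
      exact Nat.prime_two.ne_one hT.symm
    have : Nontrivial (σ.ker ⧸ ψ.range) := by
      rw [← Finite.one_lt_card_iff_nontrivial]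
      show 1 < ψ.range.index
      have h0 : ψ.range.index ≠ 0 := Subgroup.index_ne_zero_of_finite
      have h1 : ψ.range.index ≠ 1 := fun h => hne (Subgroup.index_eq_one.1 h)
      omega
    obtain ⟨M₀, -, -, hq⟩ := Solvable.exists_normal_prime_index (G := σ.ker ⧸ ψ.range)
    have hpg : IsPGroup 2 (σ.ker ⧸ ψ.range) := fun x => ⟨1, by
      obtain ⟨y, rfl⟩ := QuotientGroup.mk_surjective x
      rw [pow_one, ← QuotientGroup.mk_pow, QuotientGroup.eq_one_iff]
      exact ⟨y, rfl⟩⟩
    obtain ⟨n, hn⟩ := IsPGroup.iff_card.1 hpg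
    refine ⟨M₀.comap (QuotientGroup.mk' ψ.range), ?_⟩
    rw [Subgroup.index_comap_of_surjective _ (QuotientGroup.mk'_surjective _)]
    exact (Nat.prime_dvd_prime_iff_eq hq Nat.prime_two).1
      (hq.dvd_of_dvd_pow (hn ▸ Subgroup.index_dvd_card M₀))
  set M' := M.map σ.ker.subtype with hM'
  have hn : M'.Normal := ⟨fun x hx g' => by
    have hxc : x ∈ Subgroup.center Γ := hc (Subgroup.map_subtype_le M hx)
    rw [Subgroup.mem_center_iff.1 hxc g', mul_inv_cancel_right]
    exact hx⟩
  let σ' : Γ ⧸ M' →* G := QuotientGroup.lift M' σ fun x hx => Subgroup.map_subtype_le M hx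
  have hker : σ'.ker = σ.ker.map (QuotientGroup.mk' M') := by
    ext x
    obtain ⟨y, rfl⟩ := QuotientGroup.mk'_surjective M' x
    constructor
    · intro h
      exact Subgroup.mem_map_of_mem _ h
    · rintro ⟨z, hz, e⟩
      rw [← e]
      exact hz
  refine false_of_maskCheck C mus combs rows hC hP g hrel hcard hN hNi hi σ' (fun x => ?_) ?_ ?_ ?_
  · obtain ⟨y, hy⟩ := hσ x
    exact ⟨QuotientGroup.mk' M' y, hy⟩
  · rw [hker]
    rintro _ ⟨z, hz, rfl⟩
    rw [Subgroup.mem_center_iff]
    intro q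
    obtain ⟨w, rfl⟩ := QuotientGroup.mk'_surjective M' q
    rw [← map_mul, ← map_mul, Subgroup.mem_center_iff.1 (hc hz) w]
  · rw [hker, ← CfsgLib.Schur.map_commutator_eq_of_center (QuotientGroup.mk' M') (by
      rw [MonoidHom.range_eq_top.2 (QuotientGroup.mk'_surjective M'), top_sup_eq])]
    exact Subgroup.map_mono hd
  · rw [hker, ← Subgroup.relIndex_ker, QuotientGroup.ker_mk', hM', Subgroup.relIndex]
    rw [Subgroup.subgroupOf, Subgroup.comap_map_eq_self_of_injective (Subgroup.subtype_injective _), hM]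

end SplitTwo

end CfsgLib.SchurPath
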