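import Mathlib.Algebra.Group.Hom.CompTypeclasses
import Mathlib.GroupTheory.Abelianization.Defs
import Mathlib.GroupTheory.Commutator.Basic
import Mathlib.GroupTheory.Subgroup.Center
import Mathlib.Data.Finite.Prod
import Mathlib.Tactic.Group

/-!
# Central extensions given by bilinear cocycles
-/

set_option autoImplicit false

universe u v

namespace CfsgLib.Schur

open Subgroup
open scoped commutatorElement

variable {G : Type u} [Group G] {K : Type v} [CommGroup K]

/-- The group `G × K` with product twisted by the bilinear map `β`. -/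
@[ext]
structure BilExt (β : G →* G →* K) : Type (max u v) where
  /-- The component in the quotient. -/
  fst : G
  /-- The central component. -/
  snd : K

namespace BilExt

variable {β : G →* G →* K}

instance bilExtGroup : Group (BilExt β) where
  mul x y := ⟨x.fst * y.fst, x.snd * y.snd * β x.fst y.fst⟩
  one := ⟨1, 1⟩
  inv x := ⟨x.fst⁻¹, x.snd⁻¹ * β x.fst x.fst⟩
  mul_assoc x y z := by
    refine BilExt.ext (mul_assoc _ _ _) ?_
    show x.snd * y.snd * β x.fst y.fst * z.snd * β (x.fst * y.fst) z.fst =
      x.snd * (y.snd * z.snd * β y.fst z.fst) * β x.fst (y.fst * z.fst)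
    simp only [map_mul, MonoidHom.mul_apply]
    simp [mul_comm, mul_assoc, mul_left_comm]
  one_mul x := by
    refine BilExt.ext (one_mul _) ?_
    show 1 * x.snd * β 1 x.fst = x.snd
    simp
  mul_one x := by
    refine BilExt.ext (mul_one _) ?_
    show x.snd * 1 * β x.fst 1 = x.snd
    simp
  inv_mul_cancel x := by
    refine BilExt.ext (inv_mul_cancel _) ?_
    show x.snd⁻¹ * β x.fst x.fst * x.snd * β x.fst⁻¹ x.fst = 1
    simp [mul_comm, mul_assoc, mul_left_comm]

theorem mul_fst (x y : BilExt β) : (x * y).fst = x.fst * y.fst := rfl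

theorem mul_snd (x y : BilExt β) : (x * y).snd = x.snd * y.snd * β x.fst y.fst := rfl

theorem inv_fst (x : BilExt β) : x⁻¹.fst = x.fst⁻¹ := rfl

theorem one_fst : (1 : BilExt β).fst = 1 := rfl

theorem one_snd : (1 : BilExt β).snd = 1 := rfl

/-- The projection. -/
def toBase (β : G →* G →* K) : BilExt β →* G where
  toFun x := x.fst
  map_one' := rfl
  map_mul' _ _ := rfl

/-- The central kernel. -/
def incl (β : G →* G →* K) : K →* BilExt β where
  toFun k := ⟨1, k⟩
  map_one' := rfl
  map_mul' a b := by
    refine BilExt.ext (one_mul _).symm ?_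
    show a * b = a * b * β 1 1
    simp

theorem toBase_surjective (β : G →* G →* K) : Function.Surjective (toBase β) :=
  fun g => ⟨⟨g, 1⟩, rfl⟩

theorem incl_injective (β : G →* G →* K) : Function.Injective (incl β) :=
  fun _ _ h => congrArg BilExt.snd h

theorem incl_central (β : G →* G →* K) (k : K) : incl β k ∈ center (BilExt β) := by
  rw [mem_center_iff]
  intro x
  refine BilExt.ext ?_ ?_
  · show x.fst * 1 = 1 * x.fst
    simp
  · show x.snd * k * β x.fst 1 = k * x.snd * β 1 x.fst
    simp [mul_comm]

/-- The commutator of two elements over commuting base elements. -/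
theorem commutator_of_commute (x y : BilExt β) (h : x.fst * y.fst = y.fst * x.fst) :
    ⁅x, y⁆ = incl β (β x.fst y.fst * (β y.fst x.fst)⁻¹) := by
  rw [commutatorElement_def, mul_inv_eq_iff_eq_mul, mul_inv_eq_iff_eq_mul]
  refine BilExt.ext ?_ ?_
  · show x.fst * y.fst = 1 * y.fst * x.fst
    rw [one_mul, h]
  · show x.snd * y.snd * β x.fst y.fst =
      β x.fst y.fst * (β y.fst x.fst)⁻¹ * y.snd * β 1 y.fst * x.snd * β (1 * y.fst) x.fst
    simp [mul_comm, mul_assoc, mul_left_comm]

instance bilExtFinite [Finite G] [Finite K] : Finite (BilExt β) :=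
  Finite.of_injective (fun x => (x.fst, x.snd)) fun x y h =>
    BilExt.ext (congrArg Prod.fst h) (congrArg Prod.snd h)

end BilExt

end CfsgLib.Schur
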