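import Cfsg.Agent.Lib.Schur.Splitting
import Cfsg.Agent.Lib.M24Elt.Basic

/-!
Checkable certificates, by byte codes, for the vanishing of the 2- and 3-parts of the multiplier of a
subgroup of M24.
-/

set_option autoImplicit false

namespace CfsgLib.SchurCoded

open Cfsg CfsgLib.Comp CfsgLib.M24Elt CfsgLib.Golay Subgroup
open scoped commutatorElement

/-- A test for membership in a subgroup of the permutations of the points. -/
structure Test where
  /-- The subgroup. -/
  S : Subgroup (Equiv.Perm GolayPt)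
  /-- The test. -/
  ok : ℕ → Bool
  sound : ∀ c, ok c = true → PermCode.Ok 24 c ∧ pm c ∈ S

variable (τ : Test)

/-- The element with a given code. -/
noncomputable def el (c : ℕ) : τ.S := if h : τ.ok c = true then ⟨pm c, (τ.sound c h).2⟩ else 1

theorem coe_el {c : ℕ} (h : τ.ok c = true) : (el τ c : Equiv.Perm GolayPt) = pm c := by
  rw [el, dif_pos h]

/-- The code of a product. -/
noncomputable def prodc (l : List ℕ) : ℕ :=
  l.foldr (fun a b => PermCode.mul 24 a b) (PermCode.one 24)

/-- The product of the elements with given codes. -/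
noncomputable def elw (l : List ℕ) : τ.S := (l.map (el τ)).prod

theorem prodc_nil : prodc [] = PermCode.one 24 := List.foldr_nil

theorem prodc_cons (a : ℕ) (l : List ℕ) : prodc (a :: l) = PermCode.mul 24 a (prodc l) :=
  List.foldr_cons ..

theorem prodc_spec : ∀ {l : List ℕ}, l.all τ.ok = true →
    PermCode.Ok 24 (prodc l) ∧ (elw τ l : Equiv.Perm GolayPt) = pm (prodc l)
  | [], _ => by
    rw [prodc_nil]
    refine ⟨ok_code_one, ?_⟩
    rw [elw, List.map_nil, List.prod_nil, pm_one]
    rfl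
  | a :: l, h => by
    rw [List.all_cons, Bool.and_eq_true] at h
    obtain ⟨h1, h2⟩ := prodc_spec h.2
    have ha := (τ.sound a h.1).1
    rw [prodc_cons]
    refine ⟨ok_pm_mul ha h1, ?_⟩
    rw [pm_mul ha h1, ← h2, ← coe_el τ h.1, elw, elw, List.map_cons, List.prod_cons, coe_mul]

/-- The check of an equation between products. -/
noncomputable def eqw (l r : List ℕ) : Bool :=
  l.all τ.ok && (r.all τ.ok && eqc (prodc l) (prodc r))

variable {τ}

theorem eqw_spec {l r : List ℕ} (h : eqw τ l r = true) : elw τ l = elw τ r := by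
  simp only [eqw, Bool.and_eq_true] at h
  obtain ⟨hl, hr, he⟩ := h
  obtain ⟨o1, e1⟩ := prodc_spec τ hl
  obtain ⟨o2, e2⟩ := prodc_spec τ hr
  exact Subtype.ext (by rw [e1, e2, pm_eq_of_eqc o1 o2 he])

theorem eq_two {a b c d : ℕ} (h : eqw τ [a, b] [c, d] = true) :
    el τ a * el τ b = el τ c * el τ d := by
  simpa [elw] using eqw_spec h

theorem eq_one_of {a b : ℕ} (h : eqw τ [a, b] [] = true) : el τ a * el τ b = 1 := by
  simpa [elw] using eqw_spec h

theorem build_ext : ∀ (k : ℕ) (f g : ℕ → ℕ), (∀ i, i < k → f i = g i) →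
    PermCode.build k f = PermCode.build k g
  | 0, _, _, _ => rfl
  | k + 1, f, g, h => by
    rw [PermCode.build_succ, PermCode.build_succ, build_ext k f g fun i hi => h i (by omega),
      h k (by omega)]

theorem prodc_eq_build (l : List ℕ) : ∃ f : ℕ → ℕ, prodc l = PermCode.build 24 f ∧
    (∀ _h : l.all τ.ok = true, ∀ i, i < 24 → f i < 256) := by
  cases l with
  | nil => exact ⟨fun i => i, prodc_nil, fun _ i hi => Nat.lt_of_lt_of_le hi (by norm_num)⟩
  | cons a l =>
    refine ⟨fun i => PermCode.get a (PermCode.get (prodc l) i),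
      (prodc_cons a l).trans (PermCode.mul_eq_build 24 a (prodc l)),
      fun h i hi => ?_⟩
    rw [List.all_cons, Bool.and_eq_true] at h
    exact Nat.lt_of_lt_of_le ((τ.sound a h.1).1.1 _ ((prodc_spec τ h.2).1.1 i hi)) (by norm_num)

theorem prodc_inj {l r : List ℕ} (hl : l.all τ.ok = true) (hr : r.all τ.ok = true)
    (h : elw τ l = elw τ r) : prodc l = prodc r := by
  obtain ⟨o1, e1⟩ := prodc_spec τ hl
  obtain ⟨o2, e2⟩ := prodc_spec τ hr
  obtain ⟨f, hf, hf'⟩ := prodc_eq_build (τ := τ) l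
  obtain ⟨g, hg, hg'⟩ := prodc_eq_build (τ := τ) r
  rw [hf, hg]
  refine build_ext 24 f g fun i hi => ?_
  have hp : pm (prodc l) = pm (prodc r) := by rw [← e1, ← e2, h]
  have := congrArg (fun σ : Equiv.Perm GolayPt => bit (σ (Golay.pt i))) hp
  simp only [bit_pm o1, bit_pm o2, bit_pt hi] at this
  rwa [hf, hg, PermCode.get_build 24 f (hf' hl) i hi, PermCode.get_build 24 g (hg' hr) i hi] at this

/-- Strictly increasing lists. -/
noncomputable def incr : List ℕ → Bool
  | [] => true
  | [_] => true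
  | a :: b :: l => Nat.blt a b && incr (b :: l)

theorem incr_pairwise : ∀ {l : List ℕ}, incr l = true → l.Pairwise (· < ·)
  | [], _ => List.Pairwise.nil
  | [a], _ => List.pairwise_singleton _ a
  | a :: b :: l, h => by
    simp only [incr, Bool.and_eq_true, Nat.blt_eq] at h
    have ih := incr_pairwise h.2
    refine List.pairwise_cons.2 ⟨fun x hx => ?_, ih⟩
    rcases List.mem_cons.1 hx with rfl | hx
    · exact h.1
    · exact h.1.trans ((List.pairwise_cons.1 ih).1 x hx)

/-- A word in listed codes given by indices. -/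
def word (gs : List ℕ) (w : List ℕ) : List ℕ := w.map fun i => gs.getD i 0

/-- Valid indices. -/
noncomputable def wordOk (gs : List ℕ) (w : List ℕ) : Bool := w.all fun i => Nat.blt i gs.length

theorem elw_mem {gs w : List ℕ} {H : Subgroup τ.S} (hgs : ∀ c ∈ gs, el τ c ∈ H)
    (hw : wordOk gs w = true) : elw τ (word gs w) ∈ H := by
  refine list_prod_mem fun x hx => ?_
  obtain ⟨c, hc, rfl⟩ := List.mem_map.1 hx
  obtain ⟨i, hi, rfl⟩ := List.mem_map.1 hc
  have hi' : i < gs.length := by simpa [Nat.blt_eq] using List.all_eq_true.1 hw i hi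
  rw [List.getD_eq_getElem _ _ hi']
  exact hgs _ (List.getElem_mem _)

theorem card_ge_of_words {gs : List ℕ} {L : List (List ℕ)} {H : Subgroup τ.S} [Finite H]
    (hgs : ∀ c ∈ gs, el τ c ∈ H)
    (h : (L.all fun w => wordOk gs w && (word gs w).all τ.ok) = true)
    (hi : incr (L.map fun w => prodc (word gs w)) = true) : L.length ≤ Nat.card H := by
  have hok : ∀ w ∈ L, wordOk gs w = true ∧ (word gs w).all τ.ok = true := fun w hw => by
    simpa [Bool.and_eq_true] using List.all_eq_true.1 h w hw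
  have hnd : (L.map fun w => prodc (word gs w)).Nodup :=
    (incr_pairwise hi).imp fun h => Nat.ne_of_lt h
  have := Nat.card_le_card_of_injective (α := Fin L.length)
    (fun i => (⟨elw τ (word gs L[i]), elw_mem hgs (hok _ (List.getElem_mem _)).1⟩ : H))
    fun i j e => Fin.ext (by
      have hp := prodc_inj (hok _ (List.getElem_mem (h := i.2))).2
        (hok _ (List.getElem_mem (h := j.2))).2 (congrArg Subtype.val e)
      refine (hnd.getElem_inj_iff (hi := by simpa using i.2) (hj := by simpa using j.2)).1 ?_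
      rw [List.getElem_map, List.getElem_map]
      exact hp)
  simpa using this

/-- Lifts of `x` and `y` commute, using conjugates `(x, z)` and `(x, y z)`. -/
noncomputable def pairCheck (x y z g₁ g₂ : ℕ) : Bool :=
  eqw τ [x, y] [y, x] && (eqw τ [x, z] [z, x] && (eqw τ [g₁, x] [x, g₁] &&
    (eqw τ [g₁, y] [z, g₁] && (eqw τ [g₂, x] [x, g₂] && eqw τ [g₂, y] [y, z, g₂]))))

variable {Γ : Type} [Group Γ] {σ : Γ →* τ.S}

theorem commute_of_pairCheck (hs : Function.Surjective σ) (hc : σ.ker ≤ center Γ) {x y z g₁ g₂ : ℕ}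
    (h : pairCheck (τ := τ) x y z g₁ g₂ = true) {X Y : Γ} (hX : σ X = el τ x) (hY : σ Y = el τ y) :
    Commute X Y := by
  simp only [pairCheck, Bool.and_eq_true] at h
  obtain ⟨hxy, hxz, a1, a2, b1, b2⟩ := h
  obtain ⟨Z, hZ⟩ := hs (el τ z)
  obtain ⟨T₁, hT₁⟩ := hs (el τ g₁)
  obtain ⟨T₂, hT₂⟩ := hs (el τ g₂)
  have hab : σ X * σ Y = σ Y * σ X := by rw [hX, hY]; exact eq_two hxy
  have b2' : el τ g₂ * el τ y = el τ y * el τ z * el τ g₂ := by
    simpa [elw, mul_assoc] using eqw_spec b2
  refine commutatorElement_eq_one_iff_mul_comm.1 (SchurSplit.comm_eq_one_of_pair hc (C := Z)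
    (by rw [hX, hZ]; exact eq_two hxz) ?_ ?_)
  · exact SchurTrivial.comm_conj hc hab (T := T₁) (by rw [hT₁, hX]; exact eq_two a1)
      (by rw [hT₁, hY, hZ]; exact eq_two a2)
  · exact SchurTrivial.comm_conj hc hab (T := T₂) (by rw [hT₂, hX]; exact eq_two b1)
      (by rw [map_mul, hT₂, hY, hZ]; exact b2')

theorem card_closure_involutions_le [Finite τ.S] : ∀ {B : List ℕ},
    (∀ a ∈ B, el τ a * el τ a = 1) → (∀ a ∈ B, ∀ b ∈ B, Commute (el τ a) (el τ b)) →
    Nat.card (closure (el τ '' {c | c ∈ B})) ≤ 2 ^ B.length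
  | [], _, _ => by simp
  | a :: B, h2, hcm => by
    have ih := card_closure_involutions_le (B := B) (fun x hx => h2 x (List.mem_cons_of_mem _ hx))
      fun x hx y hy => hcm x (List.mem_cons_of_mem _ hx) y (List.mem_cons_of_mem _ hy)
    have hle : closure (el τ '' {c | c ∈ a :: B}) ≤
        zpowers (el τ a) ⊔ closure (el τ '' {c | c ∈ B}) := by
      refine (closure_le _).2 ?_
      rintro _ ⟨c, hc, rfl⟩
      rcases List.mem_cons.1 hc with rfl | hc
      · exact le_sup_left (a := zpowers (el τ c)) (mem_zpowers _)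
      · exact le_sup_right (a := zpowers (el τ a)) (subset_closure ⟨c, hc, rfl⟩)
    have hn : closure (el τ '' {c | c ∈ B}) ≤ centralizer (zpowers (el τ a) : Set τ.S) := by
      refine (closure_le _).2 ?_
      rintro _ ⟨c, hc, rfl⟩
      refine mem_centralizer_iff.2 fun y hy => ?_
      obtain ⟨k, rfl⟩ := hy
      exact ((hcm a (List.mem_cons_self ..) c (List.mem_cons_of_mem _ hc)).zpow_left k).eq
    refine (card_le_of_le hle).trans ((SchurSplit.card_sup_le
      (hn.trans (centralizer_le_normalizer (zpowers (el τ a) : Set τ.S)))).trans ?_)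
    rw [List.length_cons, pow_succ']
    exact Nat.mul_le_mul (SchurSplit.card_zpowers_le (by norm_num)
      (by rw [sq]; exact h2 a (List.mem_cons_self ..))) ih

/-- Certificate for the prime 2. -/
structure Split2 where
  /-- Generators of the normal abelian subgroup. -/
  B : List ℕ
  /-- The fixed point free element. -/
  r : ℕ
  /-- A third generator commuting with the other two, or the identity. -/
  u : ℕ
  /-- The first generator of the dihedral group. -/
  s : ℕ
  /-- The second generator of the dihedral group. -/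
  v : ℕ
  /-- Preimages of the generators under commutation with `r`. -/
  pre : List (List ℕ)
  /-- Images of the generators under `r`. -/
  rConj : List (List ℕ)
  /-- Images of the generators under the inverse of `r`. -/
  rInv : List (List ℕ)
  /-- Images of the generators under `u`, `s`, `v`. -/
  dConj : List (List (List ℕ))
  /-- Conjugators of the involutions into the abelian subgroup. -/
  invConj : List (ℕ × List ℕ)
  /-- Pairs of generators with their certificates. -/
  pairs : List (ℕ × ℕ × ℕ × ℕ × ℕ)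
  /-- The elements of the Sylow subgroup as words. -/
  elts : List (List ℕ)

variable (τ) in
/-- The images of the generators under conjugation. -/
noncomputable def conjCheck (B : List ℕ) (d : ℕ) (ws : List (List ℕ)) : Bool :=
  PermCode.allLt B.length fun i => wordOk B (ws.getD i []) &&
    eqw τ [d, B.getD i 0] (word B (ws.getD i []) ++ [d])

variable (τ) in
/-- The involutions whose lifts are involutions. -/
noncomputable def invCheck (B : List ℕ) (d : List ℕ) (g : ℕ × List ℕ) : Bool :=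
  eqw τ d [] || (wordOk B g.2 && eqw τ (g.1 :: d) (word B g.2 ++ [g.1]))

/-- The elements whose lifts must be involutions. -/
def Split2.invs (D : Split2) : List (List ℕ) :=
  [[D.u], [D.s], [D.v], [D.s, D.v, D.s, D.v], [D.u, D.s], [D.u, D.v]]

variable (τ) in
/-- The check of a certificate for the prime 2. -/
noncomputable def check2 (D : Split2) : Bool :=
  (PermCode.allLt D.B.length fun i => eqw τ [D.B.getD i 0, D.B.getD i 0] []) &&
  ((PermCode.allLt D.B.length fun i => PermCode.allLt D.B.length fun j => Nat.beq i j ||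
      D.pairs.any fun c => Nat.beq c.1 (D.B.getD i 0) && Nat.beq c.2.1 (D.B.getD j 0) ||
        Nat.beq c.1 (D.B.getD j 0) && Nat.beq c.2.1 (D.B.getD i 0)) &&
  ((D.pairs.all fun c => pairCheck (τ := τ) c.1 c.2.1 c.2.2.1 c.2.2.2.1 c.2.2.2.2) &&
  ((PermCode.allLt D.B.length fun i => wordOk D.B (D.pre.getD i []) &&
      eqw τ (D.r :: word D.B (D.pre.getD i [])) (D.B.getD i 0 :: word D.B (D.pre.getD i []) ++ [D.r])) &&
  (conjCheck τ D.B D.r D.rConj &&
  ((PermCode.allLt D.B.length fun i => wordOk D.B (D.rInv.getD i []) &&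
      eqw τ [D.B.getD i 0, D.r] (D.r :: word D.B (D.rInv.getD i []))) &&
  ((PermCode.allLt 3 fun k =>
      conjCheck τ D.B ([D.u, D.s, D.v].getD k 0) (D.dConj.getD k []) &&
        (eqw τ [[D.u, D.s, D.v].getD k 0, D.r] [D.r, [D.u, D.s, D.v].getD k 0] ||
          eqw τ [D.r, [D.u, D.s, D.v].getD k 0, D.r] [[D.u, D.s, D.v].getD k 0])) &&
  ((PermCode.allLt 6 fun k => invCheck τ D.B (D.invs.getD k []) (D.invConj.getD k (0, []))) &&
  ((D.elts.all fun w => wordOk (D.B ++ [D.u, D.s, D.v]) w &&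
      (word (D.B ++ [D.u, D.s, D.v]) w).all τ.ok) &&
    incr (D.elts.map fun w => prodc (word (D.B ++ [D.u, D.s, D.v]) w))))))))))

theorem conjCheck_spec {B : List ℕ} {d : ℕ} {ws : List (List ℕ)} (h : conjCheck τ B d ws = true) :
    ∀ e ∈ closure (el τ '' {c | c ∈ B}),
      el τ d * e * (el τ d)⁻¹ ∈ closure (el τ '' {c | c ∈ B}) := by
  intro e he
  have hle : closure (el τ '' {c | c ∈ B}) ≤
      (closure (el τ '' {c | c ∈ B})).comap (MulAut.conj (el τ d)).toMonoidHom := by
    refine (closure_le _).2 ?_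
    rintro _ ⟨c, hc, rfl⟩
    obtain ⟨i, hi, rfl⟩ := List.mem_iff_getElem.1 hc
    have h' := PermCode.allLt_spec h i hi
    rw [Bool.and_eq_true, List.getD_eq_getElem _ _ hi] at h'
    have e1 : el τ d * el τ B[i] = elw τ (word B (ws.getD i [])) * el τ d := by
      simpa [elw] using eqw_spec h'.2
    show el τ d * el τ B[i] * (el τ d)⁻¹ ∈ closure (el τ '' {c | c ∈ B})
    rw [e1, mul_inv_cancel_right]
    exact elw_mem (fun c hc => subset_closure ⟨c, hc, rfl⟩) h'.1
  exact hle he

/-- A certificate excludes the prime 2. -/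
theorem not_two_dvd {D : Split2} (h : check2 τ D = true) {n : ℕ} (hlen : D.elts.length = 2 ^ n)
    (hD : 2 ^ D.B.length * (if eqw τ [D.u] [] then 8 else 16) = 2 ^ n)
    (hG : (Nat.card τ.S).factorization 2 = n)
    {Γ : Type} [Group Γ] [Finite Γ] (σ : Γ →* τ.S) (hs : Function.Surjective σ)
    (hc : σ.ker ≤ center Γ) (hd : σ.ker ≤ _root_.commutator Γ) : ¬ 2 ∣ Nat.card σ.ker := by
  have : Fact (Nat.Prime 2) := ⟨Nat.prime_two⟩
  refine SchurSplit.not_dvd_of_exponent (fun Δ _ _ σ hs hc hd hexp hdvd => ?_) σ hs hc hd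
  have hfin : Finite τ.S := Finite.of_surjective σ hs
  have hexp' : ∀ z ∈ σ.ker, z * z = 1 := fun z hz => by rw [← sq]; exact hexp z hz
  simp only [check2, Bool.and_eq_true] at h
  obtain ⟨hsq, hpairs, hpc, hpre, hrc, hri, hds, hinv, helts, hincr⟩ := h
  set E := closure (el τ '' {c | c ∈ D.B}) with hE
  have hgen : ∀ c ∈ D.B, el τ c ∈ E := fun c hc => subset_closure ⟨c, hc, rfl⟩
  have hB2 : ∀ a ∈ D.B, el τ a * el τ a = 1 := fun a ha => by
    obtain ⟨i, hi, rfl⟩ := List.mem_iff_getElem.1 ha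
    have h' := PermCode.allLt_spec hsq i hi
    rw [List.getD_eq_getElem _ _ hi] at h'
    exact eq_one_of h'
  have hlift : ∀ X Y, σ X ∈ el τ '' {c | c ∈ D.B} → σ Y ∈ el τ '' {c | c ∈ D.B} → Commute X Y := by
    rintro X Y ⟨a, ha, hX⟩ ⟨b, hb, hY⟩
    obtain ⟨i, hi, rfl⟩ := List.mem_iff_getElem.1 ha
    obtain ⟨j, hj, rfl⟩ := List.mem_iff_getElem.1 hb
    have h' := PermCode.allLt_spec (PermCode.allLt_spec hpairs i hi) j hj
    rw [List.getD_eq_getElem _ _ hi, List.getD_eq_getElem _ _ hj, Bool.or_eq_true] at h'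
    rcases h' with h' | h'
    · obtain rfl := Nat.eq_of_beq_eq_true h'
      exact commutatorElement_eq_one_iff_mul_comm.1 ((SchurTrivial.comm_congr hc rfl
        (hY.symm.trans hX)).trans (commutatorElement_self X))
    · obtain ⟨c, hcm, hc'⟩ := List.any_eq_true.1 h'
      have hp := List.all_eq_true.1 hpc c hcm
      simp only [Bool.or_eq_true, Bool.and_eq_true] at hc'
      rcases hc' with ⟨e1, e2⟩ | ⟨e1, e2⟩
      · exact commute_of_pairCheck hs hc hp (hX.symm.trans (by rw [Nat.eq_of_beq_eq_true e1]))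
          (hY.symm.trans (by rw [Nat.eq_of_beq_eq_true e2]))
      · exact (commute_of_pairCheck hs hc hp (hY.symm.trans (by rw [Nat.eq_of_beq_eq_true e1]))
          (hX.symm.trans (by rw [Nat.eq_of_beq_eq_true e2]))).symm
  have hEc := SchurSplit.commute_lifts hs hc hlift
  have hEcm : ∀ a ∈ D.B, ∀ b ∈ D.B, Commute (el τ a) (el τ b) := fun a ha b hb => by
    obtain ⟨X, hX⟩ := hs (el τ a)
    obtain ⟨Y, hY⟩ := hs (el τ b)
    rw [← hX, ← hY]
    exact (hlift X Y (hX ▸ ⟨a, ha, rfl⟩) (hY ▸ ⟨b, hb, rfl⟩)).map σ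
  obtain ⟨T, hT⟩ := hs (el τ D.r)
  have hr := conjCheck_spec hrc
  have hr' : ∀ e ∈ E, (el τ D.r)⁻¹ * e * el τ D.r ∈ E := by
    have hle : E ≤ E.comap (MulAut.conj (el τ D.r)⁻¹).toMonoidHom := by
      refine (closure_le _).2 ?_
      rintro _ ⟨c, hc, rfl⟩
      obtain ⟨i, hi, rfl⟩ := List.mem_iff_getElem.1 hc
      have h' := PermCode.allLt_spec hri i hi
      rw [Bool.and_eq_true, List.getD_eq_getElem _ _ hi] at h'
      have e1 : el τ D.B[i] * el τ D.r = el τ D.r * elw τ (word D.B (D.rInv.getD i [])) := by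
        simpa [elw] using eqw_spec h'.2
      show (el τ D.r)⁻¹ * el τ D.B[i] * ((el τ D.r)⁻¹)⁻¹ ∈ E
      rw [inv_inv, mul_assoc, e1, inv_mul_cancel_left]
      exact elw_mem hgen h'.1
    intro e he
    have := hle he
    simpa using this
  have hsurj : ∀ e ∈ el τ '' {c | c ∈ D.B}, ∃ e' ∈ E, ⁅el τ D.r, e'⁆ = e := by
    rintro _ ⟨c, hc, rfl⟩
    obtain ⟨i, hi, rfl⟩ := List.mem_iff_getElem.1 hc
    have h' := PermCode.allLt_spec hpre i hi
    rw [Bool.and_eq_true, List.getD_eq_getElem _ _ hi] at h'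
    refine ⟨_, elw_mem hgen h'.1, ?_⟩
    have e1 : el τ D.r * elw τ (word D.B (D.pre.getD i [])) =
        el τ D.B[i] * elw τ (word D.B (D.pre.getD i [])) * el τ D.r := by
      simpa [elw, mul_assoc] using eqw_spec h'.2
    rw [commutatorElement_def, e1]
    group
  have hrT : ∀ e ∈ E, σ T * e * (σ T)⁻¹ ∈ E := by rw [hT]; exact hr
  set f := SchurSplit.split hs hc E hEc T hrT
  have hEle : E ≤ f.range.map σ := by
    refine (closure_le _).2 fun e he => ?_
    obtain ⟨e', he', hee⟩ := hsurj e he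
    exact ⟨f ⟨e', he'⟩, ⟨_, rfl⟩, (SchurSplit.map_split_apply hs hc E hEc T hrT _).trans
      (by rw [hT]; exact hee)⟩
  have hE2 : ∀ x : E, x * x = 1 := fun x => Subtype.ext (show (x : τ.S) * x = 1 from by
    obtain ⟨x, hx⟩ := x
    show x * x = 1
    induction hx using closure_induction with
    | mem y hy => obtain ⟨c, hc, rfl⟩ := hy; exact hB2 c hc
    | one => exact one_mul 1
    | mul y z hy hz h1 h2 =>
      obtain ⟨Y, rfl⟩ := hs y
      obtain ⟨Z, rfl⟩ := hs z
      rw [((hEc Z Y hz hy).map σ).mul_mul_mul_comm, h1, h2, one_mul]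
    | inv y _ h1 => rw [← _root_.mul_inv_rev, h1, inv_one])
  have hinvlift : ∀ k, k < 6 → ∀ X, σ X = elw τ (D.invs.getD k []) → X * X = 1 ∨
      elw τ (D.invs.getD k []) = 1 := by
    intro k hk X hX
    have h' := PermCode.allLt_spec hinv k hk
    rw [invCheck, Bool.or_eq_true, Bool.and_eq_true] at h'
    rcases h' with h' | ⟨h1, h2⟩
    · exact Or.inr (eqw_spec h')
    · obtain ⟨Y, hY, hσY⟩ := hEle (elw_mem hgen h1)
      refine Or.inl (SchurSplit.sq_eq_one_of_conj hs hc hexp' (Y := Y) ?_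
        ⟨el τ (D.invConj.getD k (0, [])).1, ?_⟩)
      · obtain ⟨e, rfl⟩ := hY
        rw [← map_mul, hE2, map_one]
      · rw [hX, hσY]
        simpa [elw] using eqw_spec h2
  have pick : ∀ k, k < 6 → ∀ w, D.invs.getD k [] = w → ∃ X, σ X = elw τ w ∧ X * X = 1 ∧
      (elw τ w = 1 → X = 1) := by
    intro k hk w hw
    by_cases h1 : elw τ w = 1
    · exact ⟨1, by rw [map_one, h1], one_mul 1, fun _ => rfl⟩
    · obtain ⟨X, hX⟩ := hs (elw τ w)
      exact ⟨X, hX, (hinvlift k hk X (hw ▸ hX)).resolve_right (hw ▸ h1), fun h => absurd h h1⟩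
  obtain ⟨U, hU, hU2, hU1⟩ := pick 0 (by norm_num) [D.u] rfl
  obtain ⟨S, hS, hS2, hS1⟩ := pick 1 (by norm_num) [D.s] rfl
  obtain ⟨V, hV, hV2, hV1⟩ := pick 2 (by norm_num) [D.v] rfl
  simp only [elw, List.map_cons, List.map_nil, List.prod_cons, List.prod_nil, mul_one] at hU hS hV
  have sqz : ∀ k, k < 6 → ∀ w, D.invs.getD k [] = w → ∀ X, σ X = elw τ w → X * X = 1 := by
    intro k hk w hw X hX
    rcases hinvlift k hk X (hw ▸ hX) with h | h
    · exact h
    · exact hexp' X (by rw [MonoidHom.mem_ker, hX, ← hw, h])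
  have hW : (S * V) ^ 4 = 1 := by
    have h := sqz 3 (by norm_num) [D.s, D.v, D.s, D.v] rfl (S * V * (S * V))
      (by simp [elw, hS, hV, mul_assoc])
    rw [show (S * V) ^ 4 = S * V * (S * V) * (S * V * (S * V)) by simp [pow_succ, mul_assoc]]
    exact h
  have hUS : Commute U S := SchurSplit.commute_of_sq hU2 hS2
    (sqz 4 (by norm_num) [D.u, D.s] rfl (U * S) (by simp [elw, hU, hS]))
  have hUV : Commute U V := SchurSplit.commute_of_sq hU2 hV2
    (sqz 5 (by norm_num) [D.u, D.v] rfl (U * V) (by simp [elw, hU, hV]))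
  have hcardD : Nat.card (closure ({U, S, V} : Set Δ)) ≤
      (if eqw τ [D.u] [] then 8 else 16) := by
    split
    · next hu =>
      have : U = 1 := hU1 (eqw_spec hu)
      subst this
      refine (card_le_of_le ((closure_le _).2 ?_)).trans (SchurSplit.card_dihedral_le hS2 hV2 hW)
      rintro x (rfl | hx)
      exacts [one_mem _, subset_closure hx]
    · exact SchurSplit.card_closure_le hU2 hS2 hV2 hW hUS hUV
  have hnorm : ∀ k, k < 3 → ∀ X, σ X = el τ ([D.u, D.s, D.v].getD k 0) →
      (∀ e ∈ E, σ X * e * (σ X)⁻¹ ∈ E) ∧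
      (σ X * el τ D.r * (σ X)⁻¹ = el τ D.r ∨ σ X * el τ D.r * (σ X)⁻¹ = (el τ D.r)⁻¹) := by
    intro k hk X hX
    have h' := PermCode.allLt_spec hds k hk
    rw [Bool.and_eq_true, Bool.or_eq_true] at h'
    rw [hX]
    refine ⟨conjCheck_spec h'.1, h'.2.imp (fun h => ?_) (fun h => ?_)⟩
    · rw [eq_two h, mul_inv_cancel_right]
    · have h2 : el τ D.r * (el τ ([D.u, D.s, D.v].getD k 0) * el τ D.r) =
          el τ ([D.u, D.s, D.v].getD k 0) := by simpa [elw] using eqw_spec h
      rw [eq_inv_iff_mul_eq_one] at *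
      generalize el τ ([D.u, D.s, D.v].getD k 0) = d at h2
      calc d * el τ D.r * d⁻¹ * el τ D.r
          = (el τ D.r)⁻¹ * (el τ D.r * (d * el τ D.r)) * d⁻¹ * el τ D.r := by group
        _ = 1 := by rw [h2]; group
  refine SchurSplit.false_of_split hs hc hd hdvd E hEc (r := el τ D.r) hr hr'
    (el τ '' {c | c ∈ D.B}) rfl hsurj {U, S, V}
    (nD := if eqw τ [D.u] [] then 8 else 16) (n := n) ?_ hcardD ?_ ?_ hG
  · rintro X (rfl | rfl | rfl)
    exacts [hnorm 0 (by norm_num) _ hU, hnorm 1 (by norm_num) _ hS, hnorm 2 (by norm_num) _ hV]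
  · exact (Nat.mul_le_mul_right _ (card_closure_involutions_le hB2 hEcm)).trans hD.le
  · rw [← hlen]
    refine card_ge_of_words (gs := D.B ++ [D.u, D.s, D.v]) (fun c hc => ?_) helts hincr
    rw [Set.image_insert_eq, Set.image_pair, hU, hS, hV]
    rcases List.mem_append.1 hc with hc | hc
    · exact le_sup_left (a := E) (hgen c hc)
    · refine le_sup_right (a := E) (subset_closure ?_)
      simp only [List.mem_cons, List.not_mem_nil, or_false] at hc
      rcases hc with rfl | rfl | rfl <;> simp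

variable (τ) in
/-- The check of a certificate for an abelian Sylow 3-subgroup with a swap. -/
noncomputable def checkSwap (a b t : ℕ) (L : List (List ℕ)) : Bool :=
  eqw τ [a, b] [b, a] && (eqw τ [a, a, a] [] && (eqw τ [b, b, b] [] && (eqw τ [t, a] [b, t] &&
    (eqw τ [t, b] [a, t] && ((L.all fun w => wordOk [a, b] w && (word [a, b] w).all τ.ok) &&
      incr (L.map fun w => prodc (word [a, b] w)))))))

theorem not_three_dvd_swap {a b t : ℕ} {L : List (List ℕ)} (h : checkSwap τ a b t L = true)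
    (hlen : L.length = 3 ^ 2) (hG : (Nat.card τ.S).factorization 3 = 2)
    {Γ : Type} [Group Γ] [Finite Γ] (σ : Γ →* τ.S) (hs : Function.Surjective σ)
    (hc : σ.ker ≤ center Γ) (hd : σ.ker ≤ _root_.commutator Γ) : ¬ 3 ∣ Nat.card σ.ker := by
  have : Fact (Nat.Prime 3) := ⟨Nat.prime_three⟩
  have hfin : Finite τ.S := Finite.of_surjective σ hs
  simp only [checkSwap, Bool.and_eq_true] at h
  obtain ⟨hab, ha, hb, t1, t2, helts, hincr⟩ := h
  set x := el τ a
  set y := el τ b
  have hxy : Commute x y := eq_two hab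
  have hx3 : x ^ 3 = 1 := by simpa [elw, pow_succ, mul_assoc] using eqw_spec ha
  have hy3 : y ^ 3 = 1 := by simpa [elw, pow_succ, mul_assoc] using eqw_spec hb
  have hn : zpowers y ≤ normalizer (zpowers x : Set τ.S) := by
    refine le_trans ?_ (centralizer_le_normalizer (zpowers x : Set τ.S))
    refine zpowers_le.2 (mem_centralizer_iff.2 fun z hz => ?_)
    obtain ⟨k, rfl⟩ := hz
    exact (hxy.zpow_left k).eq
  have hle : closure ({x, y} : Set τ.S) ≤ zpowers x ⊔ zpowers y := by
    rw [closure_le, Set.insert_subset_iff, Set.singleton_subset_iff]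
    exact ⟨le_sup_left (b := zpowers y) (mem_zpowers x), le_sup_right (a := zpowers x) (mem_zpowers y)⟩
  have hQ : Nat.card (closure ({x, y} : Set τ.S)) = 3 ^ 2 := le_antisymm
    ((card_le_of_le hle).trans ((SchurSplit.card_sup_le hn).trans
      (Nat.mul_le_mul (SchurSplit.card_zpowers_le (by norm_num) hx3)
        (SchurSplit.card_zpowers_le (by norm_num) hy3))))
    (hlen ▸ card_ge_of_words (gs := [a, b]) (fun c hc => subset_closure (by
      simp only [List.mem_cons, List.not_mem_nil, or_false] at hc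
      rcases hc with rfl | rfl <;> simp [x, y])) helts hincr)
  let Q : Sylow 3 τ.S := Sylow.ofCard (closure {x, y}) (by rw [hG]; exact hQ)
  refine SchurTrivial.not_dvd_card_ker_of_gens hs hc hd Q {x, y} le_rfl ?_
  obtain ⟨T, hT⟩ := hs (el τ t)
  intro X Y hX hY
  simp only [Set.mem_insert_iff, Set.mem_singleton_iff] at hX hY
  have key : ∀ A B, σ A = x → σ B = y → A * B = B * A := fun A B hA hB =>
    commutatorElement_eq_one_iff_mul_comm.1 (SchurTrivial.comm_eq_one_of_swap hc (T := T)
      (by decide : Odd 3) (by rw [hA, hB]; exact hxy) (by rw [hB, hy3])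
      (by rw [hT, hA, hB]; exact eq_two t1) (by rw [hT, hA, hB]; exact eq_two t2))
  have same : σ X = σ Y → X * Y = Y * X := fun h => commutatorElement_eq_one_iff_mul_comm.1
    ((SchurTrivial.comm_congr hc rfl h.symm).trans (commutatorElement_self X))
  rcases hX with hX | hX <;> rcases hY with hY | hY
  exacts [same (hX.trans hY.symm), key X Y hX hY, (key Y X hY hX).symm, same (hX.trans hY.symm)]

variable (τ) in
/-- The check of a certificate for an extraspecial Sylow 3-subgroup. -/
noncomputable def checkExtra (a b z ta tb : ℕ) (L : List (List ℕ)) : Bool :=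
  eqw τ [a, b] [z, b, a] && (eqw τ [a, z] [z, a] && (eqw τ [b, z] [z, b] &&
    (eqw τ [a, a, a] [] && (eqw τ [b, b, b] [] && (eqw τ [z, z, z] [] &&
    (eqw τ [a, ta, a] [ta] && (eqw τ [b, tb, b] [tb] && (eqw τ [ta, z] [z, ta] &&
    (eqw τ [tb, z] [z, tb] &&
      (Bool.not (eqw τ [z] []) && ((L.all fun w => wordOk [a, b] w && (word [a, b] w).all τ.ok) &&
        incr (L.map fun w => prodc (word [a, b] w)))))))))))))

theorem not_three_dvd_extra {a b z ta tb : ℕ} {L : List (List ℕ)}
    (h : checkExtra τ a b z ta tb L = true) (hz : τ.ok z = true) (hlen : L.length = 3 ^ 3)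
    (hG : (Nat.card τ.S).factorization 3 = 3)
    {Γ : Type} [Group Γ] [Finite Γ] (σ : Γ →* τ.S) (hs : Function.Surjective σ)
    (hc : σ.ker ≤ center Γ) (hd : σ.ker ≤ _root_.commutator Γ) : ¬ 3 ∣ Nat.card σ.ker := by
  have : Fact (Nat.Prime 3) := ⟨Nat.prime_three⟩
  have hfin : Finite τ.S := Finite.of_surjective σ hs
  simp only [checkExtra, Bool.and_eq_true] at h
  obtain ⟨hab, haz, hbz, ha, hb, hz3, hta, htb, htaz, htbz, hne, helts, hincr⟩ := h
  set x := el τ a
  set y := el τ b
  set w := el τ z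
  have hxy : x * y = w * (y * x) := by simpa [elw] using eqw_spec hab
  have hcom : ⁅x, y⁆ = w := by rw [commutatorElement_def, hxy]; group
  have hxw : Commute x w := eq_two haz
  have hyw : Commute y w := eq_two hbz
  have hx3 : x ^ 3 = 1 := by simpa [elw, pow_succ, mul_assoc] using eqw_spec ha
  have hy3 : y ^ 3 = 1 := by simpa [elw, pow_succ, mul_assoc] using eqw_spec hb
  have hw3 : w ^ 3 = 1 := by simpa [elw, pow_succ, mul_assoc] using eqw_spec hz3
  have hw1 : w ≠ 1 := fun e => by
    have : eqw τ [z] [] = true := by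
      rw [eqw, Bool.and_eq_true, Bool.and_eq_true]
      refine ⟨by simp [hz], by simp, eqc_of_pm_eq (prodc_spec τ (by simp [hz])).1 ok_code_one ?_⟩
      rw [prodc_nil, pm_one, ← (prodc_spec τ (l := [z]) (by simp [hz])).2]
      simp [elw, w] at e ⊢
      rw [e]
    simp [this] at hne
  have hn1 : zpowers x ≤ normalizer (zpowers w : Set τ.S) :=
    zpowers_le.2 (SchurSplit.mem_normalizer_of_forall fun u hu => by
      obtain ⟨k, rfl⟩ := hu
      exact ⟨k, by rw [(hxw.zpow_right k).eq, mul_inv_cancel_right]⟩)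
  have hn2 : zpowers y ≤ normalizer ((zpowers w ⊔ zpowers x : Subgroup τ.S) : Set τ.S) := by
    refine zpowers_le.2 (SchurSplit.mem_normalizer_of_forall ?_)
    have hle : zpowers w ⊔ zpowers x ≤
        (zpowers w ⊔ zpowers x).comap (MulAut.conj y).toMonoidHom := by
      rw [sup_le_iff, zpowers_le, zpowers_le]
      refine ⟨?_, ?_⟩
      · show y * w * y⁻¹ ∈ zpowers w ⊔ zpowers x
        rw [hyw.eq, mul_inv_cancel_right]
        exact le_sup_left (b := zpowers x) (mem_zpowers w)
      · show y * x * y⁻¹ ∈ zpowers w ⊔ zpowers x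
        have e : y * x * y⁻¹ = w⁻¹ * x := by
          rw [show y * x = w⁻¹ * (x * y) by rw [hxy]; group]; group
        rw [e]
        exact mul_mem (inv_mem (le_sup_left (b := zpowers x) (mem_zpowers w)))
          (le_sup_right (a := zpowers w) (mem_zpowers x))
    exact fun u hu => hle hu
  have hle : closure ({x, y} : Set τ.S) ≤ zpowers w ⊔ zpowers x ⊔ zpowers y := by
    rw [closure_le, Set.insert_subset_iff, Set.singleton_subset_iff]
    exact ⟨le_sup_left (b := zpowers y) (le_sup_right (a := zpowers w) (mem_zpowers x)),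
      le_sup_right (a := zpowers w ⊔ zpowers x) (mem_zpowers y)⟩
  have hQ : Nat.card (closure ({x, y} : Set τ.S)) = 3 ^ 3 := le_antisymm
    ((card_le_of_le hle).trans ((SchurSplit.card_sup_le hn2).trans
      ((Nat.mul_le_mul ((SchurSplit.card_sup_le hn1).trans (Nat.mul_le_mul
        (SchurSplit.card_zpowers_le (by norm_num) hw3) (SchurSplit.card_zpowers_le (by norm_num) hx3)))
        (SchurSplit.card_zpowers_le (by norm_num) hy3)).trans (by norm_num))))
    (hlen ▸ card_ge_of_words (gs := [a, b]) (fun c hc => subset_closure (by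
      simp only [List.mem_cons, List.not_mem_nil, or_false] at hc
      rcases hc with rfl | rfl <;> simp [x, y])) helts hincr)
  obtain ⟨A, hA⟩ := hs x
  obtain ⟨B, hB⟩ := hs y
  have hC : σ ⁅A, B⁆ = w := by rw [map_commutatorElement, hA, hB, hcom]
  have key : ∀ (X : Γ) (c t : ℕ), σ X = el τ c → el τ c ^ 3 = 1 → Commute (el τ c) w →
      el τ c * (el τ t * el τ c) = el τ t → Commute (el τ t) w → Commute X ⁅A, B⁆ := by
    intro X c t hX h3 hcw ht htw
    obtain ⟨T, hT⟩ := hs (el τ t)
    have h0 : σ X * σ ⁅A, B⁆ = σ ⁅A, B⁆ * σ X := by rw [hX, hC]; exact hcw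
    have e1 : el τ t * el τ c = (el τ c)⁻¹ * el τ t := eq_inv_mul_of_mul_eq ht
    have hconj : ⁅X⁻¹, ⁅A, B⁆⁆ = ⁅X, ⁅A, B⁆⁆ := SchurTrivial.comm_conj hc h0 (T := T)
      (by rw [map_inv, hT, hX]; exact e1) (by rw [hT, hC]; exact htw)
    have hz : ⁅X, ⁅A, B⁆⁆ ∈ center Γ := SchurTrivial.mem_center_comm hc h0
    set c₀ := ⁅X, ⁅A, B⁆⁆ with hc₀
    have hinvX : ⁅X⁻¹, ⁅A, B⁆⁆ = c₀⁻¹ := by
      rw [show ⁅X⁻¹, ⁅A, B⁆⁆ = X⁻¹ * c₀⁻¹ * X by rw [hc₀]; simp only [commutatorElement_def]; group,
        mem_center_iff.1 ((center Γ).inv_mem hz) X⁻¹, inv_mul_cancel_right]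
    rw [hinvX] at hconj
    have h2 : c₀ ^ 2 = 1 := by rw [pow_two]; nth_rewrite 1 [← hconj]; exact inv_mul_cancel _
    have hpow : ∀ m : ℕ, ⁅⁅A, B⁆, X ^ m⁆ = ⁅⁅A, B⁆, X⁆ ^ m := fun m => by
      induction m with
      | zero => simp
      | succ m ih => rw [pow_succ, SchurTrivial.comm_mul_right hc h0.symm, ih, pow_succ]
    have h3' : c₀ ^ 3 = 1 := by
      have := hpow 3
      rw [SchurTrivial.comm_congr hc rfl (B' := 1) (by rw [map_pow, hX, h3, map_one]),
        commutatorElement_one_right, ← commutatorElement_inv X, inv_pow] at this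
      exact inv_eq_one.1 this.symm
    rw [pow_succ, h2, one_mul] at h3'
    exact commutatorElement_eq_one_iff_mul_comm.1 h3'
  let Q : Sylow 3 τ.S := Sylow.ofCard (closure {x, y}) (by rw [hG]; exact hQ)
  refine SchurSplit.not_dvd_of_extraspecial hs hc hd (A := A) (B := B) (by rw [hA, hx3])
    (key A a ta hA hx3 hxw (by simpa [elw] using eqw_spec hta) (eq_two htaz))
    (key B b tb hB hy3 hyw (by simpa [elw] using eqw_spec htb) (eq_two htbz))
    (by rw [hA, hB, hcom]; exact hw1) Q ?_
  rw [hA, hB]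
  rfl

end CfsgLib.SchurCoded
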