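import Mathlib

set_option autoImplicit false

/-! Central extensions of quotients of simply laced Coxeter groups: if the standard generators lift to
elements with a common central square, exact braid relations and a common commutator `c` for commuting
pairs, then the part of the kernel inside the derived group of the lifts is generated by `c`. -/

namespace CfsgLib.Schur.CoxeterCover

open Subgroup
open scoped commutatorElement

section lifts

variable {Γ G : Type*} [Group Γ] [Group G] (σ : Γ →* G)
  (hcen : ∀ x, σ x = 1 → ∀ g : Γ, Commute x g)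

include hcen

theorem commute_div {x y : Γ} (h : σ x = σ y) (g : Γ) : Commute (y⁻¹ * x) g :=
  hcen _ (by rw [map_mul, map_inv, h, inv_mul_cancel]) g

theorem conj_eq_of_map_eq {x y : Γ} (h : σ x = σ y) (g : Γ) : x * g * x⁻¹ = y * g * y⁻¹ := by
  have hc := commute_div σ hcen h g
  calc x * g * x⁻¹ = y * ((y⁻¹ * x) * g) * (y⁻¹ * x)⁻¹ * y⁻¹ := by group
    _ = y * (g * (y⁻¹ * x)) * (y⁻¹ * x)⁻¹ * y⁻¹ := by rw [hc.eq]
    _ = y * g * y⁻¹ := by group

/-- A lift of a neighbour with exact braid relation and the same square. -/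
theorem exists_braid_lift {t : Γ} {b : G} (hσ : Function.Surjective σ)
    (hbr : σ t * b * σ t = b * σ t * b) (ht : σ (t * t) = 1) :
    ∃ u : Γ, σ u = b ∧ t * u * t = u * t * u ∧ u * u = t * t := by
  obtain ⟨u', rfl⟩ := hσ b
  set u := t * u' * t * (t * u')⁻¹ with hu
  have hσu : σ u = σ u' := by
    rw [hu, map_mul, map_inv, map_mul, map_mul, hbr]
    group
  refine ⟨u, hσu, ?_, ?_⟩
  · have h1 : u = t * u * t * (t * u)⁻¹ := by
      conv_lhs => rw [hu]
      have h2 : σ (t * u') = σ (t * u) := by rw [map_mul, map_mul, hσu]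
      exact conj_eq_of_map_eq σ hcen h2 t
    calc t * u * t = (t * u * t * (t * u)⁻¹) * t * u := by group
      _ = u * t * u := by rw [← h1]
  · calc u * u = t * u' * (t * t) * (t * u')⁻¹ := by rw [hu]; group
      _ = (t * t) * (t * u') * (t * u')⁻¹ := by rw [(hcen _ ht (t * u')).eq]
      _ = t * t := by group

omit hcen in
/-- The commutator of two lifts of commuting elements. -/
theorem map_commutator_eq_one {x y : Γ} (h : σ x * σ y = σ y * σ x) : σ ⁅x, y⁆ = 1 := by
  rw [map_commutatorElement, commutatorElement_eq_one_iff_commute]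
  exact h

/-- Commutators of lifts travel along braid relations. -/
theorem commutator_transfer {ti tk tj : Γ} (hbr : ti * tk * ti = tk * ti * tk)
    (hij : σ ti * σ tj = σ tj * σ ti) (hkj : σ tk * σ tj = σ tj * σ tk) :
    ⁅tk, tj⁆ = ⁅ti, tj⁆ := by
  set g := ti * tk with hg
  have h1 : g * ti * g⁻¹ = tk := by
    calc g * ti * g⁻¹ = (ti * tk * ti) * (ti * tk)⁻¹ := by rw [hg]
      _ = (tk * ti * tk) * (ti * tk)⁻¹ := by rw [hbr]
      _ = tk := by group
  have h2 : σ (g * tj * g⁻¹) = σ tj := by
    have h' : Commute (σ g) (σ tj) := by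
      rw [hg, map_mul]; exact Commute.mul_left hij hkj
    rw [map_mul, map_mul, map_inv, h'.eq, mul_inv_cancel_right]
  have h3 := hcen _ (map_commutator_eq_one σ hij) g
  have h4 : ⁅tk, g * tj * g⁻¹⁆ = ⁅ti, tj⁆ := by
    rw [← h1]
    calc ⁅g * ti * g⁻¹, g * tj * g⁻¹⁆ = g * ⁅ti, tj⁆ * g⁻¹ := by
          simp only [commutatorElement_def]; group
      _ = ⁅ti, tj⁆ := by rw [← h3.eq]; group
  rw [← h4]
  have hc := commute_div σ hcen h2
  calc ⁅tk, tj⁆ = tk * tj * tk⁻¹ * tj⁻¹ := commutatorElement_def _ _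
    _ = tk * tj * ((tj⁻¹ * (g * tj * g⁻¹)) * (tj⁻¹ * (g * tj * g⁻¹))⁻¹) * tk⁻¹ * tj⁻¹ := by group
    _ = tk * tj * ((tj⁻¹ * (g * tj * g⁻¹)) * tk⁻¹ * (tj⁻¹ * (g * tj * g⁻¹))⁻¹) * tj⁻¹ := by
        rw [(hc tk⁻¹).eq]; group
    _ = ⁅tk, g * tj * g⁻¹⁆ := by simp only [commutatorElement_def]; group

end lifts

variable {ι Γ : Type*} [Group Γ] (M : CoxeterMatrix ι) (t : ι → Γ) (z c : Γ)

/-- The relations asked of the lifts. -/
structure Rels : Prop where
  laced : ∀ i j, i ≠ j → M i j = 2 ∨ M i j = 3
  z_comm : ∀ g : Γ, Commute z g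
  c_comm : ∀ g : Γ, Commute c g
  sq : ∀ i, t i * t i = z
  comm : ∀ i j, M i j = 2 → t i * t j = c * (t j * t i)
  braid : ∀ i j, M i j = 3 → t i * t j * t i = t j * t i * t j

/-- The subgroup to be divided out of `Γ × ℤ`. -/
def relSubgroup : Subgroup (Γ × Multiplicative ℤ) :=
  closure {(z, Multiplicative.ofAdd 2), (c, 1)}

variable {M t z c}

theorem relSubgroup_normal (hz : ∀ g : Γ, Commute z g) (hc : ∀ g : Γ, Commute c g) :
    (relSubgroup z c).Normal := by
  have hle : relSubgroup z c ≤ center (Γ × Multiplicative ℤ) := by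
    rw [relSubgroup, closure_le]
    rintro x (rfl | rfl) <;> refine mem_center_iff.2 fun y => Prod.ext ?_ (mul_comm _ _)
    exacts [(hz y.1).eq.symm, (hc y.1).eq.symm]
  exact ⟨fun x hx g => by rw [mem_center_iff.1 (hle hx) g, mul_inv_cancel_right]; exact hx⟩

theorem mem_zpowers_of_mem_relSubgroup (hz : ∀ g : Γ, Commute z g) {a : Γ}
    (h : (a, (1 : Multiplicative ℤ)) ∈ relSubgroup z c) : a ∈ zpowers c := by
  have key : ∀ x ∈ relSubgroup z c, ∃ k l : ℤ, x = (z ^ l * c ^ k, Multiplicative.ofAdd (2 * l)) := by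
    intro x hx
    induction hx using closure_induction with
    | mem x hx =>
      rcases hx with rfl | rfl
      · exact ⟨0, 1, by simp⟩
      · exact ⟨1, 0, by simp⟩
    | one => exact ⟨0, 0, Prod.ext (by simp) (by simp)⟩
    | mul x y _ _ hx hy =>
      obtain ⟨k, l, rfl⟩ := hx
      obtain ⟨k', l', rfl⟩ := hy
      refine ⟨k + k', l + l', Prod.ext ?_ ?_⟩
      · show z ^ l * c ^ k * (z ^ l' * c ^ k') = _
        calc z ^ l * c ^ k * (z ^ l' * c ^ k') = z ^ l * (c ^ k * z ^ l') * c ^ k' := by group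
          _ = z ^ l * (z ^ l' * c ^ k) * c ^ k' := by rw [((hz c).zpow_zpow l' k).eq]
          _ = _ := by group
      · show Multiplicative.ofAdd _ * Multiplicative.ofAdd _ = _
        rw [← ofAdd_add, mul_add]
    | inv x _ hx =>
      obtain ⟨k, l, rfl⟩ := hx
      refine ⟨-k, -l, Prod.ext ?_ ?_⟩
      · show (z ^ l * c ^ k)⁻¹ = _
        rw [((hz c).zpow_zpow l k).eq]; group
      · show (Multiplicative.ofAdd _)⁻¹ = _
        rw [← ofAdd_neg, mul_neg]
  obtain ⟨k, l, hkl⟩ := key _ h
  have hl : l = 0 := by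
    have h1 : (0 : ℤ) = 2 * l := congrArg (fun p => Multiplicative.toAdd p.2) hkl
    omega
  subst hl
  refine ⟨k, ?_⟩
  have h2 := congrArg Prod.fst hkl
  simpa using h2.symm

theorem isLiftable (h : Rels M t z c) [(relSubgroup z c).Normal] :
    M.IsLiftable fun i =>
      QuotientGroup.mk' (relSubgroup z c) (t i, Multiplicative.ofAdd (1 : ℤ)) := by
  intro i j
  rw [← map_mul, ← map_pow]
  refine (QuotientGroup.eq_one_iff _).2 ?_
  have hz : (z, Multiplicative.ofAdd (2 : ℤ)) ∈ relSubgroup z c := subset_closure (Or.inl rfl)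
  have hc : (c, (1 : Multiplicative ℤ)) ∈ relSubgroup z c := subset_closure (Or.inr rfl)
  by_cases hij : i = j
  · subst hij
    rw [M.diagonal, pow_one]
    convert hz using 1
    exact Prod.ext (h.sq i) rfl
  rcases h.laced i j hij with hm | hm <;> rw [hm]
  · have h1 : (t i * t j) * (t i * t j) = c * (z * z) := by
      calc (t i * t j) * (t i * t j) = c * (t j * t i) * (t i * t j) := by
            conv_lhs => arg 1; rw [h.comm i j hm]
        _ = c * (t j * (t i * t i) * t j) := by group
        _ = c * (z * (t j * t j)) := by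
            rw [h.sq i, show t j * z = z * t j from (h.z_comm (t j)).eq.symm]; group
        _ = c * (z * z) := by rw [h.sq j]
    convert mul_mem hc (mul_mem hz hz) using 1
    refine Prod.ext ?_ ?_
    · rw [pow_two]; exact h1
    · show (Multiplicative.ofAdd (1 : ℤ) * Multiplicative.ofAdd 1) ^ 2 = _
      rfl
  · have h1 : (t i * t j) ^ 3 = z * z * z := by
      calc (t i * t j) ^ 3 = (t i * t j * t i) * (t j * t i * t j) := by
            rw [pow_succ, pow_two]; group
        _ = t i * (t j * ((t i * t i) * t j)) * t i := by rw [← h.braid i j hm]; group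
        _ = t i * (t j * t j * z) * t i := by
            rw [h.sq i, (h.z_comm (t j)).eq, ← mul_assoc (t j)]
        _ = t i * (z * z) * t i := by rw [h.sq j]
        _ = (t i * t i) * (z * z) := by
            rw [mul_assoc (t i) (z * z), ((h.z_comm (t i)).mul_left (h.z_comm (t i))).eq]
            group
        _ = z * z * z := by rw [h.sq i, mul_assoc]
    convert mul_mem (mul_mem hz hz) hz using 1
    refine Prod.ext ?_ ?_
    · exact h1
    · rfl

/-- The kernel inside the derived group of the lifts is generated by `c`. -/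
theorem mem_zpowers_of_mem_commutator {G : Type*} [Group G] (h : Rels M t z c)
    (σ : Γ →* G) (φ : M.Group →* G) (hσt : ∀ i, σ (t i) = φ (M.simple i)) (hσz : σ z = 1)
    (hσc : σ c = 1) (hφ : ∀ w ∈ commutator M.Group, φ w = 1 → w = 1) {a : Γ}
    (ha : a ∈ ⁅closure (Set.range t), closure (Set.range t)⁆) (hσa : σ a = 1) :
    a ∈ zpowers c := by
  have hN := relSubgroup_normal h.z_comm h.c_comm
  set N := relSubgroup z c with hNdef
  set π := QuotientGroup.mk' N
  let ψ : M.Group →* (Γ × Multiplicative ℤ) ⧸ N :=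
    M.toCoxeterSystem.lift ⟨_, isLiftable h⟩
  have hψ : ∀ i, ψ (M.simple i) = π (t i, Multiplicative.ofAdd (1 : ℤ)) := fun i =>
    M.toCoxeterSystem.lift_apply_simple (isLiftable h) i
  -- the projection to `G`
  have hle : N ≤ (σ.comp (MonoidHom.fst Γ (Multiplicative ℤ))).ker := by
    rw [hNdef, relSubgroup, closure_le]
    rintro x (rfl | rfl) <;> assumption
  let q : (Γ × Multiplicative ℤ) ⧸ N →* G := QuotientGroup.lift N _ hle
  have hqψ : ∀ w, q (ψ w) = φ w := by
    intro w
    have heq : q.comp ψ = φ := M.toCoxeterSystem.ext_simple fun i => by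
      show q (ψ (M.simple i)) = φ (M.simple i)
      rw [hψ]
      exact hσt i
    exact DFunLike.congr_fun heq w
  have hcentral : ∀ (n : Multiplicative ℤ) (p : (Γ × Multiplicative ℤ) ⧸ N),
      Commute (π (1, n)) p := by
    intro n p
    obtain ⟨y, rfl⟩ := QuotientGroup.mk'_surjective N p
    exact Commute.map (show Commute ((1, n) : Γ × Multiplicative ℤ) y from
      Prod.ext (by simp) (mul_comm _ _)) π
  -- lifts of the generated subgroup
  have hgen : ∀ x ∈ closure (Set.range t), ∃ w n, π (x, n) = ψ w := by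
    intro x hx
    induction hx using closure_induction with
    | mem x hx =>
      obtain ⟨i, rfl⟩ := hx
      exact ⟨M.simple i, _, (hψ i).symm⟩
    | one => exact ⟨1, 1, by rw [map_one]; exact map_one π⟩
    | mul x y _ _ hx hy =>
      obtain ⟨w, n, hw⟩ := hx
      obtain ⟨v, m, hv⟩ := hy
      exact ⟨w * v, n * m, by rw [map_mul, ← hw, ← hv, ← map_mul]; rfl⟩
    | inv x _ hx =>
      obtain ⟨w, n, hw⟩ := hx
      exact ⟨w⁻¹, n⁻¹, by rw [map_inv, ← hw, ← map_inv]; rfl⟩
  have hcomm : ∀ y ∈ ⁅closure (Set.range t), closure (Set.range t)⁆,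
      π (y, 1) ∈ (commutator M.Group).map ψ := by
    intro y hy
    have hle2 : ⁅closure (Set.range t), closure (Set.range t)⁆ ≤
        ((commutator M.Group).map ψ).comap (π.comp (MonoidHom.inl Γ (Multiplicative ℤ))) := by
      refine commutator_le.2 fun u hu v hv => ?_
      obtain ⟨w, n, hw⟩ := hgen u hu
      obtain ⟨w', n', hw'⟩ := hgen v hv
      refine ⟨⁅w, w'⁆, commutator_mem_commutator (mem_top w) (mem_top w'), ?_⟩
      rw [map_commutatorElement, ← hw, ← hw', ← map_commutatorElement]
      show π ⁅(u, n), (v, n')⁆ = π (⁅u, v⁆, 1)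
      congr 1
      refine Prod.ext rfl ?_
      show ⁅n, n'⁆ = 1
      rw [commutatorElement_eq_one_iff_commute]
      exact Commute.all n n'
    exact hle2 hy
  obtain ⟨w, hw, hwa⟩ := hcomm a ha
  have hφw : φ w = 1 := by
    rw [← hqψ, hwa]
    exact hσa
  rw [hφ w hw hφw, map_one] at hwa
  exact mem_zpowers_of_mem_relSubgroup h.z_comm ((QuotientGroup.eq_one_iff _).1 hwa.symm)

/-- A kernel of order two not inside the derived group meets it trivially. -/
theorem eq_one_of_mem_commutator_ker {W G : Type*} [Group W] [Group G] (φ : W →* G)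
    (hcard : Nat.card φ.ker = 2) (hperf : commutator G = ⊤) (hW : commutator W ≠ ⊤)
    (hsurj : Function.Surjective φ) : ∀ w ∈ commutator W, φ w = 1 → w = 1 := by
  intro w hw hφw
  by_contra hne
  refine hW (eq_top_iff.2 fun g _ => ?_)
  have hker : ∀ k ∈ φ.ker, k ∈ commutator W := by
    intro k hk
    obtain ⟨u, v, huv, huniv⟩ := Nat.card_eq_two_iff.1 hcard
    have hmem : ∀ x : φ.ker, x = u ∨ x = v := fun x => by
      have hx : x ∈ ({u, v} : Set φ.ker) := by rw [huniv]; exact Set.mem_univ x
      exact hx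
    rcases hmem ⟨k, hk⟩ with hku | hku <;> rcases hmem ⟨w, hφw⟩ with hwu | hwu <;>
      rcases hmem 1 with h1 | h1
    all_goals
      first
      | exact absurd (congrArg Subtype.val (hwu.trans h1.symm)) hne
      | (have := congrArg Subtype.val (hku.trans hwu.symm); rw [show k = w from this]; exact hw)
      | (have := congrArg Subtype.val (hku.trans h1.symm); rw [show k = 1 from this];
         exact one_mem _)
  have hg : φ g ∈ (commutator W).map φ := by
    rw [commutator_def, map_commutator, ← MonoidHom.range_eq_map,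
      MonoidHom.range_eq_top.2 hsurj, ← commutator_def, hperf]
    exact mem_top _
  obtain ⟨d, hd, hdg⟩ := hg
  have h2 := hker (d⁻¹ * g) (by rw [MonoidHom.mem_ker, map_mul, map_inv, hdg, inv_mul_cancel])
  simpa using mul_mem hd h2

end CfsgLib.Schur.CoxeterCover
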