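import Cfsg.Agent.Lib.Schur.Bound
import Cfsg.Agent.Lib.Schur.Trivial
import Mathlib

/-!
An elementary abelian Sylow subgroup: conjugation relations cut the commutators of lifts down to one
cyclic group of order `p`, so `p²` does not divide the kernel of a stem extension.
-/

set_option autoImplicit false
set_option linter.all false

namespace CfsgLib.SchurExterior

open Subgroup
open scoped commutatorElement

/-- Certificate data. -/
structure Cert where
  /-- The number of generators. -/
  m : ℕ
  /-- Pairs of generators; the first one is distinguished. -/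
  pairs : List (ℕ × ℕ)
  /-- Images of the generators under the conjugating elements, as words. -/
  imgs : List (List (List ℕ))
  /-- For each pair: its multiple of the first and the coefficients of the equations. -/
  comb : List (ℕ × List ℕ)

/-- The index of a pair. -/
def Cert.pidx (C : Cert) (a b : ℕ) : ℕ := C.pairs.idxOf (a, b)

/-- The coordinates of the commutator of two generators. -/
def Cert.cvec (C : Cert) (p a b : ℕ) : ℕ → ℕ := fun q =>
  bif Nat.beq a b then 0
  else bif Nat.blt a b then (bif Nat.beq q (C.pidx a b) then 1 else 0)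
  else (bif Nat.beq q (C.pidx b a) then p - 1 else 0)

/-- The coordinates of the commutator of two words. -/
def Cert.wvec (C : Cert) (p : ℕ) (u v : List ℕ) (q : ℕ) : ℕ :=
  (u.flatMap fun a => v.map fun b => C.cvec p a b q).sum

/-- The equations: one for each conjugating element and pair. -/
def Cert.eqs (C : Cert) : List (List ℕ × List ℕ × ℕ) :=
  C.imgs.flatMap fun I => (List.range C.pairs.length).map fun r =>
    (I.getD (C.pairs.getD r (0, 0)).1 [], I.getD (C.pairs.getD r (0, 0)).2 [], r)

/-- The coordinates of an equation. -/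
def Cert.evec (C : Cert) (p : ℕ) (e : List ℕ × List ℕ × ℕ) (q : ℕ) : ℕ :=
  C.wvec p e.1 e.2.1 q + bif Nat.beq q e.2.2 then p - 1 else 0

/-- The check. -/
def Cert.check (C : Cert) (p : ℕ) : Bool :=
  (C.pairs.all fun q => Nat.blt q.1 q.2 && Nat.blt q.2 C.m) &&
  ((List.range C.m).all fun a => (List.range C.m).all fun b =>
    !Nat.blt a b || Nat.blt (C.pidx a b) C.pairs.length) &&
  (C.imgs.all fun I => I.all fun w => w.all fun a => Nat.blt a C.m) &&
  ((List.range C.pairs.length).all fun r =>
    (List.range C.pairs.length).all fun q =>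
      Nat.beq
        ((((C.comb.getD r (0, [])).2.zip C.eqs).map fun ce => ce.1 * C.evec p ce.2 q).sum % p)
        (((bif Nat.beq q r then 1 else 0) + (bif Nat.beq q 0 then (p - 1) * (C.comb.getD r (0, [])).1 else 0)) % p))

universe u v

variable {Γ : Type u} [Group Γ]

/-- The value of a word. -/
def wv (X : ℕ → Γ) (w : List ℕ) : Γ := (w.map X).prod

theorem commutator_mul_left {a b c : Γ} (h : ⁅b, c⁆ ∈ center Γ) : ⁅a * b, c⁆ = ⁅a, c⁆ * ⁅b, c⁆ := by
  have e : ⁅a * b, c⁆ = a * ⁅b, c⁆ * a⁻¹ * ⁅a, c⁆ := by simp only [commutatorElement_def]; group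
  rw [e, mem_center_iff.1 h a, mul_inv_cancel_right, ← mem_center_iff.1 h]

theorem commutator_mul_right {a b c : Γ} (h : ⁅a, c⁆ ∈ center Γ) : ⁅a, b * c⁆ = ⁅a, b⁆ * ⁅a, c⁆ := by
  have e : ⁅a, b * c⁆ = ⁅a, b⁆ * (b * ⁅a, c⁆ * b⁻¹) := by simp only [commutatorElement_def]; group
  rw [e, mem_center_iff.1 h b, mul_inv_cancel_right]

theorem commutator_prod_right {a : Γ} : ∀ l : List Γ, (∀ b ∈ l, ⁅a, b⁆ ∈ center Γ) →
    ⁅a, l.prod⁆ = (l.map fun b => ⁅a, b⁆).prod ∧ ⁅a, l.prod⁆ ∈ center Γ := by
  intro l
  induction l with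
  | nil => intro _; simp [commutatorElement_one_right, one_mem]
  | cons b t ih =>
    intro h
    obtain ⟨e, hm⟩ := ih fun c hc => h c (List.mem_cons_of_mem _ hc)
    rw [List.prod_cons, commutator_mul_right hm, List.map_cons, List.prod_cons, ← e]
    exact ⟨rfl, mul_mem (h b (List.mem_cons_self ..)) hm⟩

theorem commutator_prod_left {v : Γ} : ∀ l : List Γ, (∀ b ∈ l, ⁅b, v⁆ ∈ center Γ) →
    ⁅l.prod, v⁆ = (l.map fun b => ⁅b, v⁆).prod ∧ ⁅l.prod, v⁆ ∈ center Γ := by
  intro l
  induction l with
  | nil => intro _; simp [commutatorElement_one_left, one_mem]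
  | cons b t ih =>
    intro h
    obtain ⟨e, hm⟩ := ih fun c hc => h c (List.mem_cons_of_mem _ hc)
    rw [List.prod_cons, commutator_mul_left hm, List.map_cons, List.prod_cons, ← e]
    exact ⟨rfl, mul_mem (h b (List.mem_cons_self ..)) hm⟩

section eval

variable {A : Type*} [CommGroup A] (f : ℕ → A) (n : ℕ)

/-- The element with given coordinates. -/
def evl (w : ℕ → ℕ) : A := ∏ q ∈ Finset.range n, f q ^ w q

theorem evl_add (w w' : ℕ → ℕ) : evl f n (fun q => w q + w' q) = evl f n w * evl f n w' := by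
  simp only [evl, pow_add, Finset.prod_mul_distrib]

theorem evl_smul (k : ℕ) (w : ℕ → ℕ) : evl f n (fun q => k * w q) = evl f n w ^ k := by
  simp only [evl, ← Finset.prod_pow, mul_comm k, pow_mul]

theorem evl_zero : evl f n (fun _ => 0) = 1 := by simp [evl]

theorem evl_single {r : ℕ} (hr : r < n) (k : ℕ) :
    evl f n (fun q => bif Nat.beq q r then k else 0) = f r ^ k := by
  rw [evl, Finset.prod_eq_single r]
  · simp
  · intro q _ hq
    rw [show Nat.beq q r = false by rw [Bool.eq_false_iff, ne_eq, Nat.beq_eq]; exact hq, cond_false, pow_zero]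
  · intro h; exact absurd (Finset.mem_range.2 hr) h

theorem evl_sum {ι : Type*} (g : ι → ℕ → ℕ) : ∀ l : List ι,
    evl f n (fun q => (l.map fun i => g i q).sum) = (l.map fun i => evl f n (g i)).prod := by
  intro l
  induction l with
  | nil => simp [evl]
  | cons i t ih => simp only [List.map_cons, List.sum_cons, List.prod_cons, evl_add, ih]

theorem evl_congr {p : ℕ} (hf : ∀ q < n, f q ^ p = 1) (w w' : ℕ → ℕ) (h : ∀ q < n, w q % p = w' q % p) :
    evl f n w = evl f n w' := by
  refine Finset.prod_congr rfl fun q hq => ?_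
  rw [Finset.mem_range] at hq
  rw [pow_eq_pow_mod (w q) (hf q hq), pow_eq_pow_mod (w' q) (hf q hq), h q hq]

end eval

variable {G : Type v} [Group G]

/-- The centre is commutative. -/
local instance centre_comm : CommGroup (center Γ) :=
  { (inferInstance : Group (center Γ)) with
    mul_comm := fun a b => Subtype.ext (mem_center_iff.1 b.2 a) }

/-- The bound. -/
theorem sq_not_dvd_of_check [Finite Γ] {p : ℕ} [hp : Fact p.Prime] (C : Cert) (hC : C.check p = true)
    (x : ℕ → G) (t : ℕ → G)
    (hcomm : ∀ i < C.m, ∀ j < C.m, x i * x j = x j * x i)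
    (hpow : ∀ i < C.m, x i ^ p = 1)
    (hconj : ∀ k < C.imgs.length, ∀ i < C.m, t k * x i = wv x ((C.imgs.getD k []).getD i []) * t k)
    {a : ℕ} (hcard : Nat.card (closure {y | ∃ i < C.m, x i = y}) = p ^ a)
    (hG : ¬ p ^ (a + 1) ∣ Nat.card G)
    (σ : Γ →* G) (hs : Function.Surjective σ) (hc : σ.ker ≤ center Γ) (hd : σ.ker ≤ _root_.commutator Γ) :
    ¬ p ^ 2 ∣ Nat.card σ.ker := by
  classical
  have : Finite G := Finite.of_surjective σ hs
  simp only [Cert.check, Bool.and_eq_true, List.all_eq_true, List.mem_range, Nat.blt_eq,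
    Bool.or_eq_true, Nat.beq_eq, Bool.not_eq_true', Prod.forall] at hC
  obtain ⟨⟨⟨hpairs, hidx⟩, himg⟩, hlin⟩ := hC
  choose X hX using fun i => hs (x i)
  choose T hT using fun k => hs (t k)
  have hσw : ∀ w, σ (wv X w) = wv x w := fun w => by
    rw [wv, wv, map_list_prod, List.map_map]
    exact congrArg List.prod (List.map_congr_left fun i _ => hX i)
  have hcen : ∀ i < C.m, ∀ j < C.m, ⁅X i, X j⁆ ∈ center Γ := fun i hi j hj =>
    SchurTrivial.mem_center_comm hc (by rw [hX, hX]; exact hcomm i hi j hj)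
  have hp3 : ∀ i < C.m, ∀ j < C.m, ⁅X i, X j⁆ ^ p = 1 := by
    intro i hi j hj
    have h1 := (commutator_prod_left (v := X j) (List.replicate p (X i)) fun b hb => by
      rw [List.eq_of_mem_replicate hb]; exact hcen i hi j hj).1
    rw [List.map_replicate, List.prod_replicate, List.prod_replicate] at h1
    rw [← h1]
    have hz : X i ^ p ∈ center Γ := hc (by rw [MonoidHom.mem_ker, map_pow, hX, hpow i hi])
    rw [commutatorElement_def, ← mem_center_iff.1 hz (X j)]
    group
  let f : ℕ → center Γ := fun q =>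
    if h : ⁅X (C.pairs.getD q (0, 0)).1, X (C.pairs.getD q (0, 0)).2⁆ ∈ center Γ then ⟨_, h⟩ else 1
  set n := C.pairs.length with hn
  have hpq : ∀ q < n, (C.pairs.getD q (0, 0)).1 < C.m ∧ (C.pairs.getD q (0, 0)).2 < C.m := by
    intro q hq
    rw [List.getD_eq_getElem _ _ hq]
    obtain ⟨h1, h2⟩ := hpairs (C.pairs[q]).1 (C.pairs[q]).2 (List.getElem_mem hq)
    exact ⟨h1.trans h2, h2⟩
  have hfval : ∀ q < n, (f q : Γ) = ⁅X (C.pairs.getD q (0, 0)).1, X (C.pairs.getD q (0, 0)).2⁆ := by
    intro q hq
    simp only [f, dif_pos (hcen _ (hpq q hq).1 _ (hpq q hq).2)]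
  have hfp : ∀ q < n, f q ^ p = 1 := fun q hq => Subtype.ext (by
    rw [Subgroup.coe_pow, hfval q hq]; exact hp3 _ (hpq q hq).1 _ (hpq q hq).2)
  have hcv : ∀ i < C.m, ∀ j < C.m, ((evl f n (C.cvec p i j) : center Γ) : Γ) = ⁅X i, X j⁆ := by
    intro i hi j hj
    have hlt : ∀ u v : ℕ, u < C.m → v < C.m → u < v →
        ((f (C.pidx u v) : center Γ) : Γ) = ⁅X u, X v⁆ ∧ C.pidx u v < n := by
      intro u v hu hv huv
      rcases hidx u hu v hv with h | h
      · rw [show Nat.blt u v = true by rw [Nat.blt_eq]; exact huv] at h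
        exact absurd h (by simp)
      · have hg : C.pairs.getD (C.pidx u v) (0, 0) = (u, v) := by
          rw [List.getD_eq_getElem _ _ h]; exact List.idxOf_get h
        rw [hfval _ h, hg]
        exact ⟨rfl, h⟩
    unfold Cert.cvec
    rcases lt_trichotomy i j with h | rfl | h
    · obtain ⟨e, hr⟩ := hlt i j hi hj h
      have h1 : Nat.beq i j = false := by rw [Bool.eq_false_iff, ne_eq, Nat.beq_eq]; omega
      have h2 : Nat.blt i j = true := by rw [Nat.blt_eq]; exact h
      simp only [h1, h2, cond_false, cond_true]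
      rw [evl_single f n hr, pow_one, e]
    · simp [evl_zero, commutatorElement_self]
    · obtain ⟨e, hr⟩ := hlt j i hj hi h
      have h1 : Nat.beq i j = false := by rw [Bool.eq_false_iff, ne_eq, Nat.beq_eq]; omega
      have h2 : Nat.blt i j = false := by
        rw [Bool.eq_false_iff]; intro h'; rw [Nat.blt_eq] at h'; omega
      simp only [h1, h2, cond_false]
      rw [evl_single f n hr, Subgroup.coe_pow, e]
      have hinv : ⁅X j, X i⁆⁻¹ = ⁅X i, X j⁆ := commutatorElement_inv _ _
      rw [← hinv]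
      refine (inv_eq_of_mul_eq_one_left ?_).symm
      rw [← pow_succ, Nat.sub_add_cancel hp.out.one_le]
      exact hp3 j hj i hi
  have hwc : ∀ u v : List ℕ, (∀ a ∈ u, a < C.m) → (∀ b ∈ v, b < C.m) →
      ((evl f n (C.wvec p u v) : center Γ) : Γ) = ⁅wv X u, wv X v⁆ := by
    intro u v hu hv
    have hmem : ∀ a ∈ u, ∀ b ∈ v.map X, ⁅X a, b⁆ ∈ center Γ := fun a ha b hb => by
      obtain ⟨c, hc', rfl⟩ := List.mem_map.1 hb
      exact hcen a (hu a ha) c (hv c hc')
    have h1 : ∀ a ∈ u, ⁅X a, wv X v⁆ = ((evl f n (fun q => (v.map fun b => C.cvec p a b q).sum) : center Γ) : Γ) ∧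
        ⁅X a, wv X v⁆ ∈ center Γ := by
      intro a ha
      obtain ⟨e, hm⟩ := commutator_prod_right (v.map X) (hmem a ha)
      refine ⟨?_, hm⟩
      rw [wv, e, evl_sum f n (fun b q => C.cvec p a b q), Subgroup.val_list_prod, List.map_map, List.map_map]
      exact congrArg List.prod (List.map_congr_left fun b hb => (hcv a (hu a ha) b (hv b hb)).symm)
    have h2 := (commutator_prod_left (v := wv X v) (u.map X) fun b hb => by
      obtain ⟨c, hc', rfl⟩ := List.mem_map.1 hb
      exact (h1 c hc').2).1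
    rw [show wv X u = (u.map X).prod from rfl, h2,
      show C.wvec p u v = fun q => (u.map fun a => (v.map fun b => C.cvec p a b q).sum).sum from
        funext fun q => by simp only [Cert.wvec, List.flatMap, List.sum_flatten, List.map_map, Function.comp_def],
      evl_sum f n (fun a q => (v.map fun b => C.cvec p a b q).sum), Subgroup.val_list_prod, List.map_map, List.map_map]
    exact congrArg List.prod (List.map_congr_left fun a ha => (h1 a ha).1.symm)
  have heq : ∀ e ∈ C.eqs, evl f n (C.evec p e) = 1 := by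
    intro e he
    simp only [Cert.eqs, List.mem_flatMap, List.mem_map, List.mem_range] at he
    obtain ⟨I, hI, r, hr, rfl⟩ := he
    obtain ⟨k, hk, rfl⟩ := List.getElem_of_mem hI
    obtain ⟨hi, hj⟩ := hpq r hr
    set i := (C.pairs.getD r (0, 0)).1 with hidef
    set j := (C.pairs.getD r (0, 0)).2 with hjdef
    have hw : ∀ s, ∀ a ∈ C.imgs[k].getD s [], a < C.m := by
      intro s a ha
      rcases Nat.lt_or_ge s C.imgs[k].length with h | h
      · rw [List.getD_eq_getElem _ _ h] at ha
        exact himg _ (List.getElem_mem hk) _ (List.getElem_mem h) _ ha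
      · rw [List.getD_eq_default _ _ h] at ha
        simp at ha
    have hh : ∀ s < C.m, σ (wv X (C.imgs[k].getD s [])) = σ (T k * X s * (T k)⁻¹) := by
      intro s hs'
      have := hconj k hk s hs'
      rw [List.getD_eq_getElem _ _ hk] at this
      rw [hσw, map_mul, map_mul, map_inv, hT, hX, this, mul_inv_cancel_right]
    have key : ⁅wv X (C.imgs[k].getD i []), wv X (C.imgs[k].getD j [])⁆ = ⁅X i, X j⁆ := by
      rw [SchurTrivial.comm_congr hc (hh i hi) (hh j hj), ← conjugate_commutatorElement]
      rw [mem_center_iff.1 (hcen i hi j hj) (T k), mul_inv_cancel_right]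
    have e1 : evl f n (C.wvec p (C.imgs[k].getD i []) (C.imgs[k].getD j [])) = f r := Subtype.ext (by
      rw [hwc _ _ (hw i) (hw j), key, hfval r hr])
    show evl f n (fun q => C.wvec p _ _ q + bif Nat.beq q r then p - 1 else 0) = 1
    rw [evl_add, e1, evl_single f n hr, ← pow_succ', Nat.sub_add_cancel hp.out.one_le, hfp r hr]
  have hgen : ∀ r < n, f r ∈ zpowers (f 0) := by
    intro r hr
    have hn0 : 0 < n := by omega
    set cm := C.comb.getD r (0, []) with hcm
    have e1 : evl f n (fun q => ((cm.2.zip C.eqs).map fun ce => ce.1 * C.evec p ce.2 q).sum) = 1 := by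
      rw [evl_sum f n (fun (ce : ℕ × _) q => ce.1 * C.evec p ce.2 q)]
      refine List.prod_eq_one fun y hy => ?_
      obtain ⟨ce, hce, rfl⟩ := List.mem_map.1 hy
      rw [evl_smul, heq _ (List.of_mem_zip hce).2, one_pow]
    have e2 := evl_congr f n hfp _ (fun q => (bif Nat.beq q r then 1 else 0) +
      bif Nat.beq q 0 then (p - 1) * cm.1 else 0) (fun q hq => by
        exact hlin r hr q hq)
    rw [e1, evl_add, evl_single f n hr, evl_single f n hn0, pow_one, eq_comm, mul_eq_one_iff_eq_inv] at e2
    rw [e2]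
    exact inv_mem (pow_mem (mem_zpowers _) _)
  set S := closure {y | ∃ i < C.m, x i = y} with hSdef
  let Q : Sylow p G := Sylow.ofCard S (by
    rw [hcard]
    congr 1
    have h1 : p ^ a ∣ Nat.card G := hcard ▸ S.card_subgroup_dvd_card
    have h0 : Nat.card G ≠ 0 := Nat.card_pos.ne'
    have h2 := (hp.out.pow_dvd_iff_le_factorization h0).1 h1
    have h3 : ¬ a + 1 ≤ (Nat.card G).factorization p := fun h => hG ((hp.out.pow_dvd_iff_le_factorization h0).2 h)
    omega)
  obtain ⟨P, hP⟩ := SchurBound.exists_sylow_map_eq σ hs Q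
  set U := closure {y | ∃ i < C.m, X i = y} with hUdef
  have hmap : U.map σ = S := by
    rw [hUdef, MonoidHom.map_closure, hSdef]
    congr 1
    ext y
    constructor
    · rintro ⟨_, ⟨i, hi, rfl⟩, rfl⟩; exact ⟨i, hi, (hX i).symm⟩
    · rintro ⟨i, hi, rfl⟩; exact ⟨_, ⟨i, hi, rfl⟩, hX i⟩
  have hPle : (P : Subgroup Γ) ≤ U ⊔ σ.ker := by
    rw [← comap_map_eq, hmap]
    intro y hy
    show σ y ∈ S
    have : σ y ∈ (P : Subgroup Γ).map σ := mem_map_of_mem σ hy
    rwa [hP] at this
  set Z : Subgroup Γ := zpowers (f 0 : Γ) with hZdef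
  have hZc : Z ≤ center Γ := zpowers_le.2 (f 0).2
  have : Z.Normal := ⟨fun z hz g => by rw [mem_center_iff.1 (hZc hz) g, mul_inv_cancel_right]; exact hz⟩
  have hgens : ∀ i < C.m, ∀ j < C.m, ⁅X i, X j⁆ ∈ Z := by
    intro i hi j hj
    rw [← hcv i hi j hj]
    have : evl f n (C.cvec p i j) ∈ zpowers (f 0) :=
      prod_mem fun q hq => pow_mem (hgen q (Finset.mem_range.1 hq)) _
    obtain ⟨k, hk⟩ := this
    exact ⟨k, by rw [← hk, Subgroup.coe_zpow]⟩
  have hUU : ⁅U, U⁆ ≤ Z := by
    rw [hUdef]
    let q := QuotientGroup.mk' Z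
    have hq : ∀ a ∈ closure {y | ∃ i < C.m, X i = y}, ∀ b ∈ closure {y | ∃ i < C.m, X i = y}, Commute (q a) (q b) := by
      intro a ha b hb
      induction ha, hb using closure_induction₂ with
      | mem u w hu hw =>
        obtain ⟨i, hi, rfl⟩ := hu
        obtain ⟨j, hj, rfl⟩ := hw
        rw [← commutatorElement_eq_one_iff_commute, ← map_commutatorElement]
        exact (QuotientGroup.eq_one_iff _).2 (hgens i hi j hj)
      | one_left => simp
      | one_right => simp
      | mul_left _ _ _ _ _ _ h1 h2 => rw [map_mul]; exact h1.mul_left h2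
      | mul_right _ _ _ _ _ _ h1 h2 => rw [map_mul]; exact h1.mul_right h2
      | inv_left _ _ _ _ h => rw [map_inv]; exact h.inv_left
      | inv_right _ _ _ _ h => rw [map_inv]; exact h.inv_right
    refine Subgroup.commutator_le.2 fun a ha b hb => (QuotientGroup.eq_one_iff _).1 ?_
    show q ⁅a, b⁆ = 1
    rw [map_commutatorElement, commutatorElement_eq_one_iff_commute]
    exact hq a ha b hb
  refine SchurBound.sq_not_dvd_card_ker σ hc hd P (Z.subgroupOf (P : Subgroup Γ)) ?_ ?_
  · refine (card_dvd_of_injective ((inclusion (le_refl Z)).comp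
      ((Subgroup.subtype (P : Subgroup Γ)).subgroupComap Z)) ?_).trans ?_
    · intro u w h
      exact Subtype.ext (Subtype.ext (congrArg (fun z : Z => (z : Γ)) h))
    · rw [hZdef, Nat.card_zpowers]
      refine orderOf_dvd_of_pow_eq_one ?_
      by_cases hn0 : 0 < n
      · have := congrArg Subtype.val (hfp 0 hn0)
        simpa using this
      · have hnil : C.pairs = [] := List.eq_nil_of_length_eq_zero (by omega)
        have : (f 0 : Γ) = 1 := by simp [f, hnil, commutatorElement_self]
        rw [this, one_pow]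
  · intro y hy _
    show (y : Γ) ∈ Z
    have hy' : (y : Γ) ∈ ⁅(P : Subgroup Γ), (P : Subgroup Γ)⁆ := by
      have := mem_map_of_mem (P : Subgroup Γ).subtype hy
      rwa [_root_.commutator_def, map_commutator, ← MonoidHom.range_eq_map, range_subtype] at this
    refine (Subgroup.commutator_le.2 fun a ha b hb => ?_) hy'
    have ha' := hPle ha
    have hb' := hPle hb
    have : σ.ker.Normal := inferInstance
    obtain ⟨a0, ha0, a1, ha1, rfl⟩ := (mem_sup_of_normal_right).1 ha'
    obtain ⟨b0, hb0, b1, hb1, rfl⟩ := (mem_sup_of_normal_right).1 hb'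
    rw [Schur.commutatorElement_mul_center (hc ha1) (hc hb1)]
    exact hUU (commutator_mem_commutator ha0 hb0)

end CfsgLib.SchurExterior
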