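import Cfsg.Agent.Lib.Schur.TailPacked

/-!
Lifting a Sylow subgroup given by relations to a stem extension: if all good tails vanish by the
linear algebra, the prime does not divide the kernel.
-/

set_option autoImplicit false

namespace CfsgLib.SchurTail

open Subgroup
open scoped commutatorElement

/-- The definitions refer to earlier letters and are unique. -/
def TailData.defsOk (D : TailData) : Bool :=
  D.defs.all fun d => Nat.blt d.2.1 d.1 && (Nat.blt d.2.2 d.1 &&
    D.defs.all fun d' => !Nat.beq d.1 d'.1 || decide (d = d'))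

variable {Γ G : Type*} [Group Γ] [Group G] {σ : Γ →* G}

/-- Lifts satisfying the rules, the conjugations and the definitions up to tails in the kernel. -/
theorem exists_lift (hs : Function.Surjective σ) (hc : σ.ker ≤ center Γ) (D : TailData)
    (hord : D.defsOk = true) (x c : ℕ → G)
    (hrules : ∀ r ∈ D.rules, x r.1 * x r.2.1 = evW x r.2.2)
    (hconj : ∀ q ∈ D.conjs, c q.1 * evW x q.2.1 = evW x q.2.2 * c q.1)
    (hdefs : ∀ d ∈ D.defs, x d.2.1 * x d.2.2 = x d.1 * x d.2.2 * x d.2.1) :
    ∃ (L : ℕ → Γ) (κ : ℕ → center Γ), Holds D.rules L κ ∧ ConjHolds D.rules D.conjs L κ ∧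
      (∀ j, σ (κ j : Γ) = 1) ∧ (∀ d ∈ D.defs, L d.1 = ⁅L d.2.1, L d.2.2⁆) ∧ ∀ i, σ (L i) = x i := by
  classical
  simp only [TailData.defsOk, List.all_eq_true, Bool.and_eq_true, Nat.blt_eq, Bool.or_eq_true,
    Bool.not_eq_true', decide_eq_true_eq] at hord
  choose lift hlift using hs
  let F : ℕ → ℕ → Γ := fun f => Nat.rec (fun i => lift (x i))
    (fun _ prev i => match D.defs.find? (fun d : ℕ × ℕ × ℕ => Nat.beq d.1 i) with
      | some d => ⁅prev d.2.1, prev d.2.2⁆
      | none => lift (x i)) f
  have hF : ∀ f i, F (f + 1) i = match D.defs.find? (fun d : ℕ × ℕ × ℕ => Nat.beq d.1 i) with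
      | some d => ⁅F f d.2.1, F f d.2.2⁆
      | none => lift (x i) := fun f i => rfl
  have hfind : ∀ d ∈ D.defs,
      D.defs.find? (fun d' : ℕ × ℕ × ℕ => Nat.beq d'.1 d.1) = some d := by
    intro d hd
    cases h : D.defs.find? (fun d' : ℕ × ℕ × ℕ => Nat.beq d'.1 d.1) with
    | none => simpa using List.find?_eq_none.1 h d hd
    | some d' =>
      have hm := List.mem_of_find?_eq_some h
      have hb : Nat.beq d'.1 d.1 = true :=
        List.find?_some (p := fun d' : ℕ × ℕ × ℕ => Nat.beq d'.1 d.1) h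
      rcases (hord d' hm).2.2 d hd with h' | h'
      · rw [hb] at h'; exact Bool.noConfusion h'
      · rw [h']
  have hstable : ∀ i f, i < f → ∀ g, i < g → F f i = F g i := by
    intro i
    induction i using Nat.strong_induction_on with
    | _ i ih =>
      intro f hf g hg
      obtain ⟨f, rfl⟩ : ∃ q, f = q + 1 := ⟨f - 1, by omega⟩
      obtain ⟨g, rfl⟩ : ∃ q, g = q + 1 := ⟨g - 1, by omega⟩
      rw [hF, hF]
      split
      · next d hd =>
        have hm := List.mem_of_find?_eq_some hd
        obtain rfl := Nat.eq_of_beq_eq_true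
          (List.find?_some (p := fun d : ℕ × ℕ × ℕ => Nat.beq d.1 i) hd)
        obtain ⟨h1, h2, -⟩ := hord d hm
        rw [ih _ h1 f (by omega) g (by omega), ih _ h2 f (by omega) g (by omega)]
      · rfl
  let L : ℕ → Γ := fun i => F (i + 1) i
  have hdefL : ∀ d ∈ D.defs, L d.1 = ⁅L d.2.1, L d.2.2⁆ := by
    intro d hd
    obtain ⟨h1, h2, -⟩ := hord d hd
    show F (d.1 + 1) d.1 = _
    rw [hF, hfind d hd]
    show ⁅F d.1 d.2.1, F d.1 d.2.2⁆ = _
    rw [hstable _ _ h1 (d.2.1 + 1) (by omega), hstable _ _ h2 (d.2.2 + 1) (by omega)]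
  have hσL : ∀ i, σ (L i) = x i := by
    intro i
    induction i using Nat.strong_induction_on with
    | _ i ih =>
      show σ (F (i + 1) i) = _
      rw [hF]
      split
      · next d hd =>
        have hm := List.mem_of_find?_eq_some hd
        obtain rfl := Nat.eq_of_beq_eq_true
          (List.find?_some (p := fun d : ℕ × ℕ × ℕ => Nat.beq d.1 i) hd)
        obtain ⟨h1, h2, -⟩ := hord d hm
        rw [map_commutatorElement, hstable _ _ h1 (d.2.1 + 1) (by omega),
          hstable _ _ h2 (d.2.2 + 1) (by omega)]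
        show ⁅σ (L d.2.1), σ (L d.2.2)⁆ = _
        rw [ih _ h1, ih _ h2, commutatorElement_def, hdefs d hm]
        group
      · exact hlift _
  have hσW : ∀ w : List ℕ, σ (evW L w) = evW x w := fun w => by
    simp [evW, map_list_prod, hσL, Function.comp_def]
  let κf : ℕ → Γ := fun k =>
    if k < D.rules.length then
      (evW L (D.rules.getD k (0, 0, [])).2.2)⁻¹ *
        (L (D.rules.getD k (0, 0, [])).1 * L (D.rules.getD k (0, 0, [])).2.1)
    else if k - D.rules.length < D.conjs.length then
      (evW L (D.conjs.getD (k - D.rules.length) (0, [], [])).2.2)⁻¹ *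
        (lift (c (D.conjs.getD (k - D.rules.length) (0, [], [])).1) *
          evW L (D.conjs.getD (k - D.rules.length) (0, [], [])).2.1 *
          (lift (c (D.conjs.getD (k - D.rules.length) (0, [], [])).1))⁻¹)
    else 1
  have hκ : ∀ k, σ (κf k) = 1 := by
    intro k
    simp only [κf]
    split_ifs with h1 h2
    · have hmem : D.rules.getD k (0, 0, []) ∈ D.rules := by
        rw [List.getD_eq_getElem _ _ h1]; exact List.getElem_mem _
      simp only [map_mul, map_inv, hσL, hσW]
      rw [hrules _ hmem, inv_mul_cancel]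
    · set q := D.conjs.getD (k - D.rules.length) (0, [], []) with hqdef
      have hmem : q ∈ D.conjs := by
        rw [hqdef, List.getD_eq_getElem _ _ h2]; exact List.getElem_mem _
      simp only [map_mul, map_inv, hσW, hlift]
      rw [hconj _ hmem, mul_inv_cancel_right, inv_mul_cancel]
    · exact map_one σ
  refine ⟨L, fun k => ⟨κf k, hc (hκ k)⟩, ?_, ⟨fun i => lift (c i), ?_⟩, hκ, hdefL, hσL⟩
  · intro k a b W hk
    obtain ⟨hk', e⟩ := List.getElem?_eq_some_iff.1 hk
    show L a * L b = evW L W * κf k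
    simp only [κf, hk', if_true, List.getD_eq_getElem _ _ hk', e]
    rw [mul_inv_cancel_left]
  · intro p i U W hp
    obtain ⟨hp', e⟩ := List.getElem?_eq_some_iff.1 hp
    show lift (c i) * evW L U * (lift (c i))⁻¹ = evW L W * κf (D.rules.length + p)
    have h1 : ¬ D.rules.length + p < D.rules.length := by omega
    simp only [κf, h1, if_false, Nat.add_sub_cancel_left, hp', if_true,
      List.getD_eq_getElem _ _ hp', e]
    rw [mul_inv_cancel_left]

/-- A certificate in which the good tails vanish excludes the prime from the kernel. -/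
theorem not_dvd_card_ker [Finite Γ] {p : ℕ} [hp : Fact p.Prime] (hs : Function.Surjective σ)
    (hc : σ.ker ≤ center Γ) (hd : σ.ker ≤ _root_.commutator Γ) (D : TailData)
    (hord : D.defsOk = true) (x c : ℕ → G)
    (hrules : ∀ r ∈ D.rules, x r.1 * x r.2.1 = evW x r.2.2)
    (hconj : ∀ q ∈ D.conjs, c q.1 * evW x q.2.1 = evW x q.2.2 * c q.1)
    (hdefs : ∀ d ∈ D.defs, x d.2.1 * x d.2.2 = x d.1 * x d.2.2 * x d.2.1)
    {E : List (List ℕ × List ℕ)} {M : ℕ} (hpack : D.packedCheck E M = true) (hforms : D.checkForms = true)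
    (hderived : ∀ d ∈ D.derived, d < D.n) (hdnil : [] ∈ D.forms ∧ [] ∈ D.dforms)
    (hinj : (D.forms.map fun w => evW x w).Nodup) (hsub : ∀ w ∈ D.dforms, w ∈ D.forms)
    {m : ℕ} (hlen : D.forms.length = p ^ m) (hG : (Nat.card G).factorization p = m) :
    ¬ p ∣ Nat.card σ.ker := by
  obtain ⟨L, κ, hR, hC, hκ, hdef, hσL⟩ := exists_lift hs hc D hord x c hrules hconj hdefs
  have hDefs : ∀ d ∈ D.defEqs, evW L d.1 = evW L d.2 := by
    intro d hd
    obtain ⟨⟨k, a, b⟩, he, rfl⟩ := List.mem_map.1 hd
    simp only [evW_cons, evW_nil, mul_one]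
    rw [hdef _ he, commutatorElement_def]
    group
  have hgood : ∀ j, D.isGood j = true → (κ j : Γ) ∈ (⊥ : Subgroup Γ) := by
    intro j hj
    rw [eq_one_of_packed hpack hR hC hDefs hj, Subgroup.coe_one]
    exact one_mem _
  have hσ : (fun a => σ (L a)) = x := funext hσL
  intro hdvd
  obtain ⟨z, hz⟩ := exists_prime_orderOf_dvd_card' (G := σ.ker) p hdvd
  have hzp : (z : Γ) ^ p ^ 1 = 1 := by
    have h := pow_orderOf_eq_one z
    rw [hz] at h
    rw [pow_one]
    exact congrArg Subtype.val h
  have h1 := p_part_core hs hc hd D hR hκ hforms hderived hdnil (by rw [hσ]; exact hinj) hsub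
    hlen hG ⊥ bot_le hgood bot_le z z.2 1 hzp
  rw [mem_bot, OneMemClass.coe_eq_one] at h1
  rw [h1, orderOf_one] at hz
  exact hp.out.one_lt.ne hz

end CfsgLib.SchurTail
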