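import Cfsg.Agent.Lib.Schur.Perfect

/-!
A perfect central extension with trivial multiplier gives the multiplier of its quotient.
-/

set_option autoImplicit false

universe u v

namespace CfsgLib.Schur

open Subgroup

/-- If a finite perfect group without proper stem extensions covers `Q` centrally, then the kernel is
the multiplier of `Q`. -/
theorem hasSchurMultiplier_of_universal {E Q : Type u} [Group E] [Group Q] [Finite E]
    (hE : Group.IsPerfect E) (π : E →* Q) (hπs : Function.Surjective π) (hπ : π.ker ≤ center E)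
    (htriv : ∀ (Δ : Type u) [Group Δ] [Finite Δ] (τ : Δ →* E), Cfsg.IsStemExtension τ → τ.ker = ⊥)
    {A : Type v} [CommGroup A] (e : π.ker ≃* A) : Cfsg.HasSchurMultiplier Q A := by
  refine ⟨⟨E, inferInstance, inferInstance, π,
    ⟨hπs, hπ, by rw [hE.commutator_eq_top]; exact le_top⟩, ⟨e⟩⟩, fun Γ _ _ σ hσ => ?_⟩
  obtain ⟨hσs, hσc, hσd⟩ := hσ
  let P := fibre σ π
  let snd : P →* E := fibreSnd σ π
  have hsnd : Function.Surjective snd := fibreSnd_surjective π hσs
  have hker : snd.ker ≤ center P := by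
    intro p hp
    have h1 : p.1.2 = 1 := hp
    have h2 : p.1.1 ∈ σ.ker := by
      rw [MonoidHom.mem_ker, mem_fibre.mp p.2, h1, map_one]
    rw [mem_center_iff]
    intro q
    apply Subtype.ext
    apply Prod.ext
    · exact mem_center_iff.mp (hσc h2) q.1.1
    · simp [h1]
  have hD : Group.IsPerfect (commutator P) :=
    isPerfect_commutator (commutator_sup_center_eq_top hE snd hsnd hker)
  let τ : commutator P →* E := snd.comp (commutator P).subtype
  have hτs : Function.Surjective τ := by
    intro x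
    have hx : x ∈ (commutator P).map snd := by
      rw [map_commutator_eq_of_center _ (by rw [MonoidHom.range_eq_top.mpr hsnd, top_sup_eq]),
        hE.commutator_eq_top]
      trivial
    obtain ⟨w, hw, rfl⟩ := hx
    exact ⟨⟨w, hw⟩, rfl⟩
  have hτc : τ.ker ≤ center (commutator P) := fun p hp =>
    mem_center_iff.2 fun q => Subtype.ext (mem_center_iff.1 (hker (show (p : P) ∈ snd.ker from hp)) q)
  have hτ : τ.ker = ⊥ := htriv _ τ ⟨hτs, hτc, by rw [hD.commutator_eq_top]; exact le_top⟩
  let iso : commutator P ≃* E :=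
    MulEquiv.ofBijective τ ⟨(MonoidHom.ker_eq_bot_iff τ).1 hτ, hτs⟩
  let φ : E →* Γ := ((fibreFst σ π).comp (commutator P).subtype).comp iso.symm.toMonoidHom
  have hφ : ∀ x, σ (φ x) = π x := by
    intro x
    have h := mem_fibre.1 ((iso.symm x : commutator P) : P).2
    exact h.trans (congrArg π (iso.apply_symm_apply x))
  have hφs : Function.Surjective φ := by
    have hsup : φ.range ⊔ center Γ = ⊤ := by
      rw [eq_top_iff]
      intro g _
      obtain ⟨x, hx⟩ := hπs (σ g)
      have hg : (φ x)⁻¹ * g ∈ σ.ker := by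
        rw [MonoidHom.mem_ker, map_mul, map_inv, hφ, hx, inv_mul_cancel]
      rw [show g = φ x * ((φ x)⁻¹ * g) by rw [mul_inv_cancel_left]]
      exact mul_mem_sup ⟨x, rfl⟩ (hσc hg)
    have himg := map_commutator_eq_of_center φ hsup
    intro g
    have hg : g ∈ commutator Γ ⊔ φ.range := by
      obtain ⟨x, hx⟩ := hπs (σ g)
      have hg : (φ x)⁻¹ * g ∈ σ.ker := by
        rw [MonoidHom.mem_ker, map_mul, map_inv, hφ, hx, inv_mul_cancel]
      rw [show g = φ x * ((φ x)⁻¹ * g) by rw [mul_inv_cancel_left]]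
      exact mul_mem (mem_sup_right ⟨x, rfl⟩) (mem_sup_left (hσd hg))
    rw [← himg, sup_eq_right.2 (map_le_range φ _)] at hg
    exact hg
  let r : π.ker →* σ.ker := (φ.comp π.ker.subtype).codRestrict σ.ker fun k => by
    rw [MonoidHom.mem_ker]
    exact (hφ k).trans (MonoidHom.mem_ker.1 k.2)
  refine ⟨r.comp e.symm.toMonoidHom, fun k => ?_⟩
  obtain ⟨x, hx⟩ := hφs k
  have hxk : x ∈ π.ker := by
    rw [MonoidHom.mem_ker, ← hφ, hx]; exact k.2
  exact ⟨e ⟨x, hxk⟩, Subtype.ext (by simp [r, hx])⟩

end CfsgLib.Schur
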