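import Cfsg.Agent.Lib.Schur.J3Data
import Cfsg.Agent.Lib.Schur.TailLift
import Cfsg.Agent.Lib.Schur.Universal
import Cfsg.Agent.Lib.Schur.Bound
import Cfsg.Agent.Lib.Sporadic.J3.Main

/-!
The triple cover of J3 is perfect and has trivial multiplier; hence J3 has multiplier of order 3.
-/

set_option autoImplicit false

namespace CfsgLib.J3Schur

open CfsgLib.J3 CfsgLib.SchurTail Cfsg.Spor Matrix Subgroup
open scoped commutatorElement

universe u

/-- A coded element with its decomposition. -/
abbrev Dec : Type := M2 × (ℕ × ℕ × ℕ)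

/-- The check of a decomposition. -/
def decOk (e : Dec) : Bool := okb e.1 && (tripleOk e.2 && beq e.1 (triple e.2))

/-- The coded product of letters. -/
def codeW (ls : List Dec) (w : List ℕ) : M2 := lprod (w.map fun i => (ls.getD i (one, (0, 0, 0))).1)

/-- Strictly increasing lists. -/
noncomputable def incr : List ℕ → Bool
  | [] => true
  | [_] => true
  | a :: b :: l => Nat.blt a b && incr (b :: l)

theorem incr_pairwise : ∀ {l : List ℕ}, incr l = true → l.Pairwise (· < ·)
  | [], _ => List.Pairwise.nil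
  | [_], _ => List.pairwise_singleton _ _
  | a :: b :: l, h => by
    simp only [incr, Bool.and_eq_true, Nat.blt_eq] at h
    have hp := incr_pairwise h.2
    rw [List.pairwise_cons]
    refine ⟨fun x hx => ?_, hp⟩
    rcases List.mem_cons.1 hx with rfl | hx
    · exact h.1
    · exact lt_trans h.1 ((List.pairwise_cons.1 hp).1 x hx)

/-- The relations of a certificate. -/
noncomputable def relCheck (D : TailData) (ls gs : List Dec) : Bool :=
  (ls.all decOk && gs.all decOk) &&
  ((D.rules.all fun r =>
    beq (codeW ls [r.1, r.2.1]) (codeW ls r.2.2)) &&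
  ((D.conjs.all fun c => beq (mul (gs.getD c.1 (one, (0, 0, 0))).1 (codeW ls c.2.1))
    (mul (codeW ls c.2.2) (gs.getD c.1 (one, (0, 0, 0))).1)) &&
  ((D.defs.all fun d => beq (codeW ls [d.2.1, d.2.2]) (codeW ls [d.1, d.2.2, d.2.1])) &&
  ((D.forms.all fun w => okb (codeW ls w)) &&
  (incr (D.forms.map fun w => key (codeW ls w)) &&
  ((D.derived.all fun d => decide (d < D.n)) && (D.forms.contains [] && (D.dforms.contains [] &&
  D.dforms.all fun w => D.forms.contains w))))))))

theorem two_rel : relCheck two twoLetters twoConjugators = true := by decide +kernel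

theorem two_packed : two.packedCheck twoEqs twoLen = true := by decide +kernel

theorem two_forms : two.checkFormsFast twoForms twoPos twoWt = true := by decide +kernel

theorem two_rest : two.defsOk = true ∧ two.forms.length = 2 ^ 7 := by decide +kernel

theorem three_rel : relCheck three threeLetters threeConjugators = true := by decide +kernel

theorem three_packed : three.packedCheck threeEqs threeLen = true := by decide +kernel

theorem three_forms : three.checkFormsFast threeForms threePos threeWt = true := by decide +kernel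

theorem three_rest : three.defsOk = true ∧ three.forms.length = 3 ^ 6 := by decide +kernel

theorem pair_check : (decOk pair.1 && decOk pair.2 &&
    beq (mul pair.1.1 pair.2.1) (mul omCode (mul pair.2.1 pair.1.1))) = true := by decide +kernel

variable {F : Type u} [Field F] [Fintype F] {ω : F} (hF : Fintype.card F = 4)
  (hω : ω ^ 2 + ω + 1 = 0)

include hF hω

theorem two_zero : (2 : F) = 0 := by
  have h4 : ((4 : ℕ) : F) = 0 := by rw [← hF]; exact Nat.cast_card_eq_zero F
  have h : (2 : F) * 2 = 0 := by rw [← h4]; norm_num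
  exact mul_self_eq_zero.1 h

theorem exists_el (e : Dec) (h : decOk e = true) :
    ∃ g : threeJ3 F ω, ((g : GL F9 F) : Matrix F9 F9 F) = toM F ω e.1 := by
  simp only [decOk, Bool.and_eq_true] at h
  have hm : toM F ω e.1 ∈ GS F ω := by
    rw [beq_eq h.2.2]; exact triple_mem (two_zero hF hω) hω h.2.1
  obtain ⟨g, hg, he⟩ := (mem_GS_iff_exists (two_zero hF hω) hω).1 hm
  exact ⟨⟨g, hg⟩, he⟩

theorem exists_letters (ls : List Dec) (h : ls.all decOk = true) :
    ∃ x : ℕ → threeJ3 F ω, ∀ i, ((x i : GL F9 F) : Matrix F9 F9 F) =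
      toM F ω (ls.getD i (one, (0, 0, 0))).1 := by
  have : ∀ i, ∃ g : threeJ3 F ω, ((g : GL F9 F) : Matrix F9 F9 F) =
      toM F ω (ls.getD i (one, (0, 0, 0))).1 := by
    intro i
    by_cases hi : i < ls.length
    · rw [List.getD_eq_getElem _ _ hi]
      exact exists_el hF hω _ (List.all_eq_true.1 h _ (List.getElem_mem hi))
    · rw [List.getD_eq_default _ _ (Nat.le_of_not_lt hi)]
      exact ⟨1, by rw [toM_one]; rfl⟩
  choose x hx using this
  exact ⟨x, hx⟩

theorem coe_evW (ls : List Dec) (x : ℕ → threeJ3 F ω)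
    (hx : ∀ i, ((x i : GL F9 F) : Matrix F9 F9 F) = toM F ω (ls.getD i (one, (0, 0, 0))).1) :
    ∀ w : List ℕ, (((evW x w : threeJ3 F ω) : GL F9 F) : Matrix F9 F9 F) = toM F ω (codeW ls w)
  | [] => by simp [evW, codeW, lprod, toM_one]
  | a :: w => by
    rw [evW_cons, Subgroup.coe_mul, Units.val_mul, hx, coe_evW ls x hx w,
      ← toM_mul (two_zero hF hω) hω]
    rfl

theorem not_dvd (D : TailData) (ls gs : List Dec) {p m : ℕ} [Fact p.Prime]
    (hrel : relCheck D ls gs = true) (hord : D.defsOk = true) {E : List (List ℕ × List ℕ)} {M : ℕ}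
    (hpack : D.packedCheck E M = true) (hforms : D.checkForms = true) (hlen : D.forms.length = p ^ m)
    (hG : (Nat.card (threeJ3 F ω)).factorization p = m) {Γ : Type u} [Group Γ] [Finite Γ]
    (σ : Γ →* threeJ3 F ω) (hσ : Cfsg.IsStemExtension σ) : ¬ p ∣ Nat.card σ.ker := by
  have h2 := two_zero hF hω
  simp only [relCheck, Bool.and_eq_true, List.all_eq_true, List.contains_iff_mem,
    decide_eq_true_eq] at hrel
  obtain ⟨⟨hls, hgs⟩, hrules, hconj, hdefs, hok, hincr, hder, hnil, hnil', hsub⟩ := hrel
  obtain ⟨x, hx⟩ := exists_letters hF hω ls (List.all_eq_true.2 hls)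
  obtain ⟨c, hc⟩ := exists_letters hF hω gs (List.all_eq_true.2 hgs)
  have hw := coe_evW hF hω ls x hx
  refine not_dvd_card_ker hσ.1 hσ.2.1 hσ.2.2 D hord x c ?_ ?_ ?_ hpack hforms hder
    ⟨hnil, hnil'⟩ ?_ hsub hlen hG
  · intro r hr
    apply Subtype.ext; apply Units.ext
    rw [hw, show x r.1 * x r.2.1 = evW x [r.1, r.2.1] by simp [evW], hw, beq_eq (hrules r hr)]
  · intro q hq
    apply Subtype.ext; apply Units.ext
    rw [Subgroup.coe_mul, Subgroup.coe_mul, Units.val_mul, Units.val_mul, hc, hw, hw,
      ← toM_mul h2 hω, ← toM_mul h2 hω, beq_eq (hconj q hq)]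
  · intro d hd
    apply Subtype.ext; apply Units.ext
    rw [show x d.2.1 * x d.2.2 = evW x [d.2.1, d.2.2] by simp [evW],
      show x d.1 * x d.2.2 * x d.2.1 = evW x [d.1, d.2.2, d.2.1] by simp [evW, mul_assoc],
      hw, hw, beq_eq (hdefs d hd)]
  · have hnd : (D.forms.map fun w => key (codeW ls w)).Nodup :=
      (incr_pairwise hincr).imp fun h => Nat.ne_of_lt h
    rw [List.Nodup, List.pairwise_map] at hnd ⊢
    refine List.Pairwise.imp_of_mem (fun {v w} hv hw' hne e => hne ?_) hnd
    have e' := congrArg (fun g : threeJ3 F ω => ((g : GL F9 F) : Matrix F9 F9 F)) e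
    rw [hw, hw] at e'
    rw [toM_injective h2 hω (hok v hv) (hok w hw') e']

theorem finite_threeJ3 : Finite (threeJ3 F ω) :=
  Nat.finite_of_card_ne_zero (by rw [card_threeJ3 (two_zero hF hω) hω]; norm_num)

theorem card_eq : Nat.card (threeJ3 F ω) = 2 ^ 7 * (3 ^ 6 * (5 * (17 * 19))) := by
  rw [card_threeJ3 (two_zero hF hω) hω]; norm_num

/-- The triple cover has no proper stem extension. -/
theorem stem_ker_eq_bot (Γ : Type u) [Group Γ] [Finite Γ] (σ : Γ →* threeJ3 F ω)
    (hσ : Cfsg.IsStemExtension σ) : σ.ker = ⊥ := by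
  have := finite_threeJ3 hF hω
  have hc := card_eq hF hω
  apply Subgroup.eq_bot_of_card_eq
  by_contra hne
  obtain ⟨p, hp, hdvd⟩ := Nat.exists_prime_and_dvd hne
  have := Fact.mk hp
  by_cases h2 : p = 2
  · subst h2
    refine not_dvd hF hω two twoLetters twoConjugators two_rel two_rest.1 two_packed
      (checkForms_of_fast two_forms) two_rest.2 ?_ σ hσ hdvd
    rw [hc, Nat.factorization_mul (by norm_num) (by norm_num),
      Nat.Prime.factorization_pow Nat.prime_two]
    rw [Finsupp.add_apply, Finsupp.single_eq_same,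
      Nat.factorization_eq_zero_of_not_dvd (show ¬ 2 ∣ 3 ^ 6 * (5 * (17 * 19)) by norm_num)]
  by_cases h3 : p = 3
  · subst h3
    refine not_dvd hF hω three threeLetters threeConjugators three_rel three_rest.1 three_packed
      (checkForms_of_fast three_forms) three_rest.2 ?_ σ hσ hdvd
    rw [hc, show 2 ^ 7 * (3 ^ 6 * (5 * (17 * 19))) = 3 ^ 6 * (2 ^ 7 * (5 * (17 * 19))) by norm_num,
      Nat.factorization_mul (by norm_num) (by norm_num), Nat.Prime.factorization_pow Nat.prime_three]
    rw [Finsupp.add_apply, Finsupp.single_eq_same,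
      Nat.factorization_eq_zero_of_not_dvd (show ¬ 3 ∣ 2 ^ 7 * (5 * (17 * 19)) by norm_num)]
  refine SchurBound.not_dvd_card_ker_of_sq_not_dvd σ hσ.1 hσ.2.1 hσ.2.2 (fun hsq => ?_) hdvd
  rw [hc] at hsq
  have c2 := Nat.Coprime.pow 2 7 ((Nat.coprime_primes hp Nat.prime_two).2 h2)
  have c3 := Nat.Coprime.pow 2 6 ((Nat.coprime_primes hp Nat.prime_three).2 h3)
  have h' := c3.dvd_of_dvd_mul_left (c2.dvd_of_dvd_mul_left hsq)
  have hsf : Squarefree (5 * (17 * 19) : ℕ) := by decide +kernel
  exact hp.ne_one (Nat.isUnit_iff.1 (hsf p (by rwa [← sq])))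

/-- The multiplier of J3. -/
theorem hasCyclic_three : Cfsg.HasCyclicSchurMultiplier (J3 F ω) 3 := by
  have := finite_threeJ3 hF hω
  have h2 := two_zero hF hω
  let π := QuotientGroup.mk' (center (threeJ3 F ω))
  have hπ : π.ker = center (threeJ3 F ω) := QuotientGroup.ker_mk' _
  have hcard : Nat.card π.ker = 3 := by rw [hπ]; exact card_center hF hω
  have hJ : _root_.commutator (J3 F ω) = ⊤ := by
    have hsimple := isSimple_J3 hF hω
    rcases hsimple.eq_bot_or_eq_top_of_normal (_root_.commutator (J3 F ω)) inferInstance with h | h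
    · exfalso
      have hcomm : ∀ x y : J3 F ω, x * y = y * x := fun x y =>
        commutatorElement_eq_one_iff_mul_comm.1 (Subgroup.mem_bot.1 (h ▸ (by
          rw [_root_.commutator_def]
          exact commutator_mem_commutator (mem_top x) (mem_top y))))
      let instC : CommGroup (J3 F ω) :=
        { (inferInstance : Group (J3 F ω)) with mul_comm := hcomm }
      exact Nat.not_prime_mul (a := 2) (b := 25116480) (by norm_num) (by norm_num)
        (by rw [show 2 * 25116480 = Nat.card (J3 F ω) by rw [card_J3 hF hω]]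
            exact IsSimpleGroup.prime_card)
    · exact h
  have hperf : Group.IsPerfect (threeJ3 F ω) := by
    rw [Group.isPerfect_def]
    have hsup : _root_.commutator (threeJ3 F ω) ⊔ center (threeJ3 F ω) = ⊤ :=
      Schur.commutator_sup_center_eq_top (Group.isPerfect_def.2 hJ) π
        (QuotientGroup.mk'_surjective _) hπ.le
    refine eq_top_iff.2 (hsup ▸ sup_le le_rfl ?_)
    -- the scalar is a commutator and generates the centre
    have hp := pair_check
    simp only [Bool.and_eq_true] at hp
    obtain ⟨⟨hpa, hpb⟩, he⟩ := hp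
    obtain ⟨a, ha⟩ := exists_el hF hω pair.1 hpa
    obtain ⟨b, hb⟩ := exists_el hF hω pair.2 hpb
    set z := ⁅a, b⁆ with hz
    have hzm : ((z : GL F9 F) : Matrix F9 F9 F) = ω • 1 := by
      have e : ((a * b : threeJ3 F ω) : GL F9 F) = (z * (b * a) : threeJ3 F ω) := by
        rw [hz, commutatorElement_def]; group
      have e' := congrArg (fun g : GL F9 F => (g : Matrix F9 F9 F)) e
      simp only [Subgroup.coe_mul, Units.val_mul, ha, hb] at e'
      rw [← toM_mul h2 hω, beq_eq he, toM_mul h2 hω, toM_omCode, toM_mul h2 hω, ← hb, ← ha,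
        ← Units.val_mul] at e'
      exact ((Units.mul_left_inj _).1 e').symm
    have hzc : z ∈ center (threeJ3 F ω) := (mem_center_iff_scalar hF hω z).2 ⟨ω, hzm⟩
    have hne : z ≠ 1 := by
      intro e
      rw [e] at hzm
      have := congrFun (congrFun hzm (0, 0)) (0, 0)
      simp at this
      rw [← this] at hω
      have h3 : (3 : F) = 0 := by linear_combination hω
      exact one_ne_zero (α := F) (by linear_combination h3 - h2)
    intro y hy
    have hgen : zpowers (⟨z, hzc⟩ : center (threeJ3 F ω)) = ⊤ := by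
      have := Fact.mk Nat.prime_three
      exact zpowers_eq_top_of_prime_card (card_center hF hω) (by simpa using hne)
    obtain ⟨k, hk⟩ := mem_zpowers_iff.1 (hgen.ge (mem_top (⟨y, hy⟩ : center (threeJ3 F ω))))
    have hk' : z ^ k = y := by
      have := congrArg Subtype.val hk
      simpa using this
    rw [← hk']
    refine zpow_mem ?_ k
    rw [hz, _root_.commutator_def]
    exact commutator_mem_commutator (mem_top a) (mem_top b)
  have := Fact.mk Nat.prime_three
  have hcyc : IsCyclic π.ker := isCyclic_of_prime_card hcard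
  exact Schur.hasSchurMultiplier_of_universal hperf π (QuotientGroup.mk'_surjective _) hπ.le
    (fun Δ _ _ τ hτ => stem_ker_eq_bot hF hω Δ τ hτ)
    (mulEquivOfCyclicCardEq (hcard.trans (by rw [Nat.card_congr Multiplicative.toAdd, Nat.card_zmod])))

end CfsgLib.J3Schur
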