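import Cfsg.Agent.Lib.Schur.TailPacked
import Cfsg.Agent.Lib.Sporadic.J3.Code

/-!
Certificates for the multiplier of the triple cover of J3 (generated).
-/

set_option autoImplicit false
set_option maxRecDepth 100000
set_option maxHeartbeats 2000000

namespace CfsgLib.J3Schur

open CfsgLib.J3 CfsgLib.SchurTail

/-- A part of a table. -/
def twoForms_0 : Table (List ℕ) := (.node 32 (.node 16 (.node 8 (.node 4 (.node 2 (.node 1 (.leaf []) (.leaf [0, 1, 3, 4, 5])) (.node 3 (.leaf [5]) (.leaf [0, 1, 4, 6]))) (.node 6 (.node 5 (.leaf [0, 1, 2, 6]) (.leaf [1, 3, 4, 6])) (.node 7 (.leaf [0, 3, 4, 6]) (.leaf [0, 2, 3, 5])))) (.node 12 (.node 10 (.node 9 (.leaf [1]) (.leaf [0, 1, 4, 5])) (.node 11 (.leaf [3, 4, 6]) (.leaf [1, 3, 5, 6]))) (.node 14 (.node 13 (.leaf [4]) (.leaf [1, 5])) (.node 15 (.leaf [1, 2, 3, 4, 6]) (.leaf [1, 6]))))) (.node 24 (.node 20 (.node 18 (.node 17 (.leaf [6]) (.leaf [0, 1, 4, 5, 6])) (.node 19 (.leaf [0, 2,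 4, 5, 6]) (.leaf [1, 2, 3, 4, 5]))) (.node 22 (.node 21 (.leaf [2]) (.leaf [1, 3])) (.node 23 (.leaf [1, 2, 3, 4]) (.leaf [0, 1, 3, 4])))) (.node 28 (.node 26 (.node 25 (.leaf [2, 4]) (.leaf [0, 1, 3, 5, 6])) (.node 27 (.leaf [1, 4, 5]) (.leaf [0, 2, 3, 5, 6]))) (.node 30 (.node 29 (.leaf [0, 2, 5, 6]) (.leaf [3, 4])) (.node 31 (.leaf [1, 3, 6]) (.leaf [1, 2])))))) (.node 48 (.node 40 (.node 36 (.node 34 (.node 33 (.leaf [1, 2, 4, 5, 6]) (.leaf [2, 3, 4, 5])) (.node 35 (.leaf [0, 2, 4]) (.leaf [0, 2, 4, 5]))) (.node 38 (.node 37 (.leaf [1, 2, 4]) (.leaf [0, 1, 2, 5, 6])) (.node 39 (.leaf [0, 2, 3, 4, 6]) (.leaf [1, 2, 5, 6])))) (.node 44 (.node 42 (.node 41 (.leaf [2, 3, 4]) (.leaf [0, 3, 5])) (.node 43 (.leaf [1, 3, 4, 5]) (.leaf [0, 1, 3, 6]))) (.node 46 (.node 45 (.leaf [2, 6]) (.leaf [0, 2, 4, 6])) (.node 47 (.leaf [2, 5, 6]) (.leaf [1, 2, 5]))))) (.node 56 (.node 52 (.node 50 (.node 49 (.leaf [2, 5]) (.leaf [0, 1, 2, 3, 5]))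 (.node 51 (.leaf [4, 6]) (.leaf [2, 3, 5]))) (.node 54 (.node 53 (.leaf [0, 3, 4, 5]) (.leaf [1, 2, 6])) (.node 55 (.leaf [0, 3]) (.leaf [0, 2, 3, 4])))) (.node 60 (.node 58 (.node 57 (.leaf [1, 2, 3, 5, 6]) (.leaf [2, 4, 5, 6])) (.node 59 (.leaf [3, 5, 6]) (.leaf [0, 1, 6]))) (.node 62 (.node 61 (.leaf [1, 3, 5]) (.leaf [2, 4, 5])) (.node 63 (.leaf [1, 5, 6]) (.leaf [2, 3, 6])))))))

/-- A part of a table. -/
def twoForms_64 : Table (List ℕ) := (.node 96 (.node 80 (.node 72 (.node 68 (.node 66 (.node 65 (.leaf [0, 1, 5]) (.leaf [0, 1, 4])) (.node 67 (.leaf [0, 2, 5]) (.leaf [1, 2, 3, 4, 5, 6]))) (.node 70 (.node 69 (.leaf [2, 4, 6]) (.leaf [0, 1, 3])) (.node 71 (.leaf [1, 2, 3, 6]) (.leaf [1, 4])))) (.node 76 (.node 74 (.node 73 (.leaf [0, 1, 2, 3, 6]) (.leaf [5, 6])) (.node 75 (.leaf [0, 1, 3, 5]) (.leaf [3, 5]))) (.node 78 (.node 77 (.leaf [0, 1, 2]) (.leaf [3, 4, 5])) (.node 79 (.leaf [1, 3, 4]) (.leaf [0, 1, 2, 4, 5])))))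 (.node 88 (.node 84 (.node 82 (.node 81 (.leaf [3, 6]) (.leaf [2, 3, 5, 6])) (.node 83 (.leaf [0, 1, 2, 3, 4, 5]) (.leaf [0, 1, 5, 6]))) (.node 86 (.node 85 (.leaf [0, 3, 6]) (.leaf [1, 3, 4, 5, 6])) (.node 87 (.leaf [1, 2, 4, 6]) (.leaf [0, 1, 3, 4, 5, 6])))) (.node 92 (.node 90 (.node 89 (.leaf [0, 2, 3, 4, 5]) (.leaf [0, 5])) (.node 91 (.leaf [0, 1, 2, 3, 5, 6]) (.leaf [0, 4, 5, 6]))) (.node 94 (.node 93 (.leaf [1, 2, 3]) (.leaf [0, 2, 3])) (.node 95 (.leaf [2, 3, 4, 5, 6]) (.leaf [3, 4, 5, 6])))))) (.node 112 (.node 104 (.node 100 (.node 98 (.node 97 (.leaf [1, 2, 4, 5]) (.leaf [0, 6])) (.node 99 (.leaf [1, 4, 5, 6]) (.leaf [0, 3, 4]))) (.node 102 (.node 101 (.leaf [2, 3]) (.leaf [0, 1, 2, 3, 4, 6])) (.node 103 (.leaf [0, 2, 6]) (.leaf [0, 2, 3, 4, 5, 6])))) (.node 108 (.node 106 (.node 105 (.leaf [4, 5, 6]) (.leaf [0, 4])) (.node 107 (.leaf [0, 1, 2, 5]) (.leaf [0, 4, 6]))) (.node 110 (.node 109 (.leaf [0, 3, 5, 6]) (.leaf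 [2, 3, 4, 6])) (.node 111 (.leaf [0, 4, 5]) (.leaf [0, 1, 2, 3, 4]))))) (.node 120 (.node 116 (.node 114 (.node 113 (.leaf [0, 1, 2, 4, 5, 6]) (.leaf [0, 1, 3, 4, 6])) (.node 115 (.leaf [0, 1, 2, 4]) (.leaf [0, 1, 2, 3, 4, 5, 6]))) (.node 118 (.node 117 (.leaf [3]) (.leaf [0, 2])) (.node 119 (.leaf [0, 5, 6]) (.leaf [0, 3, 4, 5, 6])))) (.node 124 (.node 122 (.node 121 (.leaf [1, 4, 6]) (.leaf [0, 1, 2, 3])) (.node 123 (.leaf [4, 5]) (.leaf [0, 1]))) (.node 126 (.node 125 (.leaf [1, 2, 3, 5]) (.leaf [0, 1, 2, 4, 6])) (.node 127 (.leaf [0]) (.leaf [0, 2, 3, 6])))))))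

/-- A table. -/
def twoForms : Table (List ℕ) := (.node 64 twoForms_0 twoForms_64)

/-- A part of a table. -/
def twoPos_0 : Table ℕ := (.node 32 (.node 16 (.node 8 (.node 4 (.node 2 (.node 1 (.leaf 0) (.leaf 126)) (.node 3 (.leaf 8) (.leaf 123))) (.node 6 (.node 5 (.leaf 20) (.leaf 117)) (.node 7 (.leaf 31) (.leaf 76)))) (.node 12 (.node 10 (.node 9 (.leaf 116) (.leaf 54)) (.node 11 (.leaf 21) (.leaf 69))) (.node 14 (.node 13 (.leaf 100) (.leaf 93)) (.node 15 (.leaf 92) (.leaf 121))))) (.node 24 (.node 20 (.node 18 (.node 17 (.leaf 12) (.leaf 105)) (.node 19 (.leaf 71) (.leaf 65))) (.node 22 (.node 21 (.leaf 24) (.leaf 34)) (.node 23 (.leaf 36) (.leaf 114)))) (.node 28 (.node 26 (.node 25 (.leaf 29) (.leaf 99)) (.node 27 (.leaf 78) (.leaf 23))) (.node 30 (.node 29 (.leaf 40) (.leaf 55)) (.node 31 (.leaf 22) (.leaf 111)))))) (.node 48 (.node 40 (.node 36 (.node 34 (.node 33 (.leaf 2) (.leaf 89)) (.node 35 (.leaf 13) (.leaf 64)))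 (.node 38 (.node 37 (.leaf 48) (.leaf 66)) (.node 39 (.leaf 47) (.leaf 106)))) (.node 44 (.node 42 (.node 41 (.leaf 75) (.leaf 41)) (.node 43 (.leaf 60) (.leaf 74))) (.node 46 (.node 45 (.leaf 51) (.leaf 7)) (.node 47 (.leaf 124) (.leaf 49))))) (.node 56 (.node 52 (.node 50 (.node 49 (.leaf 122) (.leaf 110)) (.node 51 (.leaf 26) (.leaf 9))) (.node 54 (.node 53 (.leaf 61) (.leaf 35)) (.node 55 (.leaf 96) (.leaf 79)))) (.node 60 (.node 58 (.node 57 (.leaf 77) (.leaf 52)) (.node 59 (.leaf 42) (.leaf 1))) (.node 62 (.node 61 (.leaf 33) (.leaf 88)) (.node 63 (.leaf 19) (.leaf 82)))))))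

/-- A part of a table. -/
def twoPos_64 : Table ℕ := (.node 96 (.node 80 (.node 72 (.node 68 (.node 66 (.node 65 (.leaf 16) (.leaf 97)) (.node 67 (.leaf 15) (.leaf 59))) (.node 70 (.node 69 (.leaf 44) (.leaf 102)) (.node 71 (.leaf 53) (.leaf 4)))) (.node 76 (.node 74 (.node 73 (.leaf 80) (.leaf 84)) (.node 75 (.leaf 30) (.leaf 43))) (.node 78 (.node 77 (.leaf 63) (.leaf 127)) (.node 79 (.leaf 70) (.leaf 72))))) (.node 88 (.node 84 (.node 82 (.node 81 (.leaf 50) (.leaf 107)) (.node 83 (.leaf 120) (.leaf 3))) (.node 86 (.node 85 (.leaf 68) (.leaf 45)) (.node 87 (.leaf 86) (.leaf 125)))) (.node 92 (.node 90 (.node 89 (.leaf 10) (.leaf 6)) (.node 91 (.leaf 5) (.leaf 113))) (.node 94 (.node 93 (.leaf 109) (.leaf 38)) (.node 95 (.leaf 14) (.leaf 101)))))) (.node 112 (.node 104 (.node 100 (.node 98 (.node 97 (.leaf 73) (.leaf 118)) (.node 99 (.leaf 62) (.leaf 83))) (.node 102 (.node 101 (.leaf 46) (.leaf 28)) (.node 103 (.leaf 39) (.leaf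 37)))) (.node 108 (.node 106 (.node 105 (.leaf 58) (.leaf 108)) (.node 107 (.leaf 11) (.leaf 25))) (.node 110 (.node 109 (.leaf 81) (.leaf 27)) (.node 111 (.leaf 56) (.leaf 90))))) (.node 120 (.node 116 (.node 114 (.node 113 (.leaf 104) (.leaf 91)) (.node 115 (.leaf 98) (.leaf 17))) (.node 118 (.node 117 (.leaf 57) (.leaf 18)) (.node 119 (.leaf 32) (.leaf 112)))) (.node 124 (.node 122 (.node 121 (.leaf 95) (.leaf 119)) (.node 123 (.leaf 85) (.leaf 87))) (.node 126 (.node 125 (.leaf 94) (.leaf 103)) (.node 127 (.leaf 67) (.leaf 115)))))))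

/-- A table. -/
def twoPos : Table ℕ := (.node 64 twoPos_0 twoPos_64)

/-- The weights. -/
def twoWt : List ℕ := [1, 2, 4, 8, 16, 32, 64]

/-- A combination. -/
def twoT_3 : List (ℕ × ℤ) := [(1, 2), (3, -1), (4, -4), (5, 4), (6, -1), (7, 1), (8, 1), (9, 1), (10, 1), (11, -2), (12, 6), (13, -1), (15, 5), (16, -2), (19, 1), (21, -3), (22, -3), (24, 2)]

/-- A combination. -/
def twoT_4 : List (ℕ × ℤ) := [(0, -1), (2, 1), (4, -1), (5, 2), (9, 2), (10, 1), (13, -2), (14, 1), (15, 4), (17, -2), (19, 1), (20, 1), (21, -1), (24, 1)]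

/-- A combination. -/
def twoT_5 : List (ℕ × ℤ) := [(3, -1), (4, -4), (5, -2), (9, 5), (10, 3), (11, -2), (12, -1), (14, 3), (15, 7), (18, -2), (20, 2), (21, -2), (22, -2), (24, 2)]

/-- A combination. -/
def twoT_6 : List (ℕ × ℤ) := [(5, -2), (6, 1), (12, -2), (15, -1), (19, -2)]

/-- A combination. -/
def twoT_7 : List (ℕ × ℤ) := [(1, -1), (3, 1), (4, 4), (5, 1), (9, -3), (10, -2), (11, 2), (14, -2), (15, -6), (16, 1), (18, 1), (19, 1), (20, -1), (21, 2), (22, 2), (24, -2)]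

/-- A combination. -/
def twoT_8 : List (ℕ × ℤ) := [(0, 1), (2, -1), (5, -1), (17, 1)]

/-- A combination. -/
def twoT_9 : List (ℕ × ℤ) := [(4, 1), (5, 1), (9, -1), (12, 1), (15, -2), (23, -1)]

/-- A combination. -/
def twoT_10 : List (ℕ × ℤ) := [(3, 1), (4, 4), (5, 1), (9, -4), (10, -2), (11, 2), (14, -2), (15, -6), (18, 1), (19, 1), (20, -1), (21, 2), (22, 2), (24, -2)]

/-- A combination. -/
def twoT_11 : List (ℕ × ℤ) := [(1, -1), (4, -1), (5, -3), (6, -1), (7, -1), (8, -1), (9, 2), (10, 1), (12, -4), (13, 1), (14, 2), (15, 2), (19, 1), (20, 1), (21, 1), (22, 1)]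

/-- A combination. -/
def twoT_12 : List (ℕ × ℤ) := [(4, 2), (9, -2), (10, -1), (11, 1), (12, -1), (14, -1), (15, -4), (18, 1), (21, 1), (22, 1), (24, -1)]

/-- A combination. -/
def twoT_13 : List (ℕ × ℤ) := [(0, 1), (5, -1), (12, -1)]

/-- A combination. -/
def twoT_14 : List (ℕ × ℤ) := [(4, 1), (5, 1), (8, -1), (9, -1), (10, -1), (11, 2), (13, -1), (14, -1), (15, -2), (18, 1), (19, 1), (20, -1), (21, 1), (22, 1)]

/-- A combination. -/
def twoT_15 : List (ℕ × ℤ) := [(0, -1), (4, 1), (5, 1), (6, -1), (9, -2), (10, -1), (12, 2), (13, 2), (14, -1), (15, -3), (19, 1), (20, -1), (21, 1), (24, -1)]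

/-- A combination. -/
def twoT_16 : List (ℕ × ℤ) := [(4, -1), (5, -1), (6, -1), (9, 1), (10, 1), (11, -1), (12, -1), (13, 1), (14, 1), (15, 2), (19, 1), (20, 1)]

/-- A combination. -/
def twoT_17 : List (ℕ × ℤ) := [(5, 1), (6, -1), (12, 1), (19, 1)]

/-- A combination. -/
def twoT_18 : List (ℕ × ℤ) := [(10, 1), (12, -1), (15, -1), (20, 1)]

/-- A combination. -/
def twoT_19 : List (ℕ × ℤ) := [(4, -1), (5, -1), (9, 1), (12, 1), (15, 3), (20, -2), (24, 1)]

/-- A combination. -/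
def twoT_20 : List (ℕ × ℤ) := [(5, 2), (9, -1), (10, -1), (12, 2), (14, -1), (15, -1), (20, -1)]

/-- A combination. -/
def twoT_21 : List (ℕ × ℤ) := [(5, -2), (12, -1), (13, 1), (15, 1)]

/-- A combination. -/
def twoT_22 : List (ℕ × ℤ) := [(5, 1), (12, 1)]

/-- A combination. -/
def twoT_23 : List (ℕ × ℤ) := [(4, 1), (5, 1), (9, -1), (10, -1), (12, 2), (15, -1), (20, -1)]

/-- A combination. -/
def twoT_24 : List (ℕ × ℤ) := [(12, -1), (20, 1)]

/-- A combination. -/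
def twoT_25 : List (ℕ × ℤ) := [(4, 1)]

/-- A combination. -/
def twoT_26 : List (ℕ × ℤ) := [(5, 1)]

/-- A combination. -/
def twoT_27 : List (ℕ × ℤ) := [(15, 1)]

/-- The equations. -/
def twoEqs : List (List ℕ × List ℕ) := [([0, 22, 13], [0]), ([1], [7, 7, 23, 18, 11, 1, 27, 6, 20, 3, 27, 27, 5, 6]), ([2], [8, 8, 15, 2, 26, 4, 6]), ([3, 24], [12, 12, 20, 3, 27, 27, 5]), ([3, 25], [3]), ([4, 26], [4]), ([5], [17, 17, 27, 5, 6]), ([7, 22, 17, 10, 7, 0, 23, 14, 6, 20, 16, 27, 27, 5, 6, 16, 3, 26, 6, 27, 5, 6], [0]), ([9, 8, 7, 24, 19, 12, 5, 26], [7, 8, 14, 9, 25, 20, 16, 27, 6, 5]), ([11, 22, 10, 7, 25, 20, 3, 27, 6, 5, 6], [7, 10, 23, 18, 11, 27, 6, 20, 3, 27, 27, 5, 6]), ([12, 18, 11, 9, 27], [9, 11, 24, 12]), ([14, 22, 17, 13, 7, 26, 21, 27, 5, 6], [7, 13, 14, 25, 20, 16, 27, 6, 5]), ([15, 22, 13, 8, 4, 6], [8, 13, 15, 26, 4, 6]), ([16, 22, 13, 10, 26, 21, 6], [10, 13, 16, 27, 6]), ([16, 23, 14, 11, 26, 27, 6], [11, 14, 25,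 20, 16, 27, 6]), ([20, 18, 11, 27], [11, 18, 20]), ([], [11, 22, 10, 7, 25, 20, 3, 27, 6, 5, 6]), ([], [15, 22, 13, 8, 4, 6]), ([], [20, 17, 10, 27, 5, 6]), ([], [27, 22, 17, 6]), ([45, 42, 22, 24, 25], [25, 26, 42, 45]), ([13, 10, 26, 21, 24, 19, 15, 12, 21, 27, 5, 6, 4, 22, 10, 8, 0, 24, 15, 6, 4, 25, 27, 6, 24, 19, 12, 2, 5, 27, 45, 46, 44, 13, 10, 8, 0, 24, 15, 6, 4, 25, 27, 6, 21, 19, 15, 12, 2, 21, 27, 5, 25, 16, 3, 26, 6, 22, 13, 24, 15, 6, 4, 6], [20, 21, 17, 13, 10, 8, 0, 24, 15, 6, 4, 25, 27, 6, 21, 5, 24, 15, 12, 2, 21, 6, 21, 4, 27, 44, 45, 46, 10, 8, 0, 24, 15, 6, 4, 25, 27, 6, 19, 12, 2, 5, 22, 13, 10, 26, 21, 6, 19, 15, 12, 21, 27, 5, 25, 16, 3, 26, 6, 26, 4, 6]), ([17, 8, 0, 24, 15, 6, 4, 27, 6, 19, 2, 20, 5, 22, 10, 6, 19, 12, 5, 16, 3, 26, 6, 4, 44, 43, 46, 45, 22, 17, 10, 8, 0, 24, 15, 6, 4, 25, 27, 6, 5, 6, 12, 2, 20, 3, 27, 26, 21, 22, 17, 13, 6, 19, 15, 27, 25, 20, 16, 27, 6, 17, 13, 10, 8, 0, 24, 15, 6, 4,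 25, 27, 6, 21, 5, 24, 15, 12, 2, 21, 6, 21, 4, 27, 6], [22, 17, 10, 8, 0, 24, 15, 6, 4, 25, 27, 6, 5, 6, 12, 2, 5, 3, 26, 22, 13, 24, 15, 6, 4, 43, 44, 45, 46, 13, 10, 8, 0, 24, 15, 6, 4, 25, 27, 6, 21, 19, 15, 12, 2, 21, 27, 5, 25, 16, 3, 26, 6, 27, 6, 17, 13, 24, 19, 15, 27, 6, 21, 4, 27, 6, 17, 8, 0, 24, 15, 6, 4, 27, 6, 19, 2, 20]), ([2, 50, 49, 23, 18, 27, 5, 6], [9, 2, 49, 50, 27, 5, 6]), ([24, 19, 23, 18, 9, 1, 24, 19, 2, 23, 18, 6, 48, 49, 50, 47, 18, 9, 19, 2, 5, 23, 1, 27, 6], [23, 1, 27, 6, 19, 18, 9, 19, 2, 47, 48, 49, 50, 23, 18, 9, 1, 27, 5, 6, 2])]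

/-- The length of the equations. -/
def twoLen : ℕ := 163

/-- The letters of the Sylow 2-subgroup. -/
def twoLetters : List (M2 × (ℕ × ℕ × ℕ)) := [(⟨106981569205682199829635, 2354921950603320635429427⟩, (3964, 78, 56)), (⟨53118487384433922135267, 137578682671752137458514⟩, (4315, 252, 76)), (⟨18987176245239205609473, 358960383469794105565184⟩, (5897, 175, 55)), (⟨1374169226929315606525250, 2239840717323917889810156⟩, (934, 61, 58)), (⟨1390970973167320721225141, 188101605023316739261720⟩, (4493, 139, 77)), (⟨1967211331403242404390739, 43564729011741273950640⟩, (315, 169, 41)), (⟨336209222175835806973183, 269249499025472307604330⟩, (1616, 9, 15))]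

/-- The conjugating elements. -/
def twoConjugators : List (M2 × (ℕ × ℕ × ℕ)) := [(⟨443151087200036212882671, 715872097748090209399734⟩, (5602, 120, 8)), (⟨2236717913228557781272676, 437023254659861618756187⟩, (3759, 157, 50)), (⟨108276413377547474173170, 730159877949711155112514⟩, (5319, 191, 37)), (⟨558365657516971730291971, 2011061150710321663900026⟩, (5691, 226, 21)), (⟨1917724542561053434778321, 692297881130578393379458⟩, (821, 73, 70)), (⟨2075285360887643850137442, 1022913685575836533286972⟩, (3453, 240, 43)), (⟨976764816282655946819503, 2177440016005954766898223⟩, (124, 169, 54)), (⟨1978186784544990208137608, 5202871338503634434400⟩, (4814, 152, 31)), (⟨301994542284747778813003, 744215789859226171781982⟩, (762, 43, 58))]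

/-- The certificate for the prime 2. -/
def two : TailData where
  n := 7
  derived := [3, 4, 5, 6]
  defs := [(3, 0, 1), (4, 0, 2), (5, 0, 3), (6, 0, 5)]
  rules := [(0, 0, [4, 6]), (1, 1, []), (2, 2, []), (3, 3, [6]), (4, 4, [6]), (5, 5, []), (6, 6, []), (1, 0, [0, 1, 3, 5, 6]), (2, 0, [0, 2, 4]), (2, 1, [1, 2]), (3, 0, [0, 3, 5, 6]), (3, 1, [1, 3, 6]), (3, 2, [2, 3, 5]), (4, 0, [0, 4]), (4, 1, [1, 4, 5, 6]), (4, 2, [2, 4, 6]), (4, 3, [3, 4, 6]), (5, 0, [0, 5, 6]), (5, 1, [1, 5]), (5, 2, [2, 5]), (5, 3, [3, 5]), (5, 4, [4, 5]), (6, 0, [0, 6]), (6, 1, [1, 6]), (6, 2, [2, 6]), (6, 3, [3, 6]), (6, 4, [4, 6]), (6, 5, [5, 6])]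
  conjs := [(0, [2, 5, 6], [2, 5, 6]), (0, [1, 2, 5, 6], [1]), (1, [2, 5], [2, 5]), (1, [1, 5, 6], [1, 2, 6]), (2, [1, 6], [1, 6]), (2, [2, 6], [1, 2]), (3, [0, 2, 3, 4, 6], [6]), (3, [0, 2, 3, 4], [0, 2, 3, 4]), (4, [1, 6], [2, 6]), (4, [1, 2], [1, 2]), (5, [2, 5, 6], [1, 2, 5, 6]), (5, [1, 2, 5, 6], [2, 5, 6]), (6, [1, 5], [1, 5]), (6, [2], [1, 2, 5]), (7, [6], [6]), (7, [0, 2, 3, 5, 6], [0, 2, 3, 5, 6]), (7, [0, 2, 3, 4], [0, 2, 5]), (7, [0, 2, 3], [3, 4]), (7, [0, 2, 4, 6], [0, 2, 4]), (8, [2, 5], [1, 6]), (8, [1, 2], [1, 5, 6]), (8, [5, 6], [2]), (8, [1, 5, 6], [1, 2])]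
  srcs := [.word [[0, 0], [0]] [[0], [0, 0]], .word [[1, 1], [0]] [[1], [1, 0]], .word [[2, 2], [0]] [[2], [2, 0]], .word [[3, 3], [2]] [[3], [3, 2]], .word [[3, 3], [3]] [[3], [3, 3]], .word [[4, 4], [4]] [[4], [4, 4]], .word [[5, 5], [0]] [[5], [5, 0]], .word [[1, 0], [0]] [[1], [0, 0]], .word [[2, 1], [0]] [[2], [1, 0]], .word [[3, 1], [0]] [[3], [1, 0]], .word [[3, 2], [1]] [[3], [2, 1]], .word [[4, 1], [0]] [[4], [1, 0]], .word [[4, 2], [0]] [[4], [2, 0]], .word [[4, 3], [0]] [[4], [3, 0]], .word [[4, 3], [1]] [[4], [3, 1]], .word [[5, 3], [1]] [[5], [3, 1]], .word [[0, 1]] [[3, 1, 0]], .word [[0, 2]] [[4, 2, 0]], .word [[0, 3]] [[5, 3, 0]], .word [[0, 5]] [[6, 5, 0]], .conj 7 [17, 14] [14, 17], .conj 7 [17, 18, 16] [16, 17, 18], .conj 7 [16, 15, 18, 17] [15, 16, 17, 18], .conj 8 [22, 21] [21, 22], .conj 8 [20, 21, 22, 19] [19, 20, 21, 22]]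
  k := 0
  targets := [(3, 0, twoT_3), (4, 0, twoT_4), (5, 0, twoT_5), (6, 0, twoT_6), (7, 0, twoT_7), (8, 0, twoT_8), (9, 0, twoT_9), (10, 0, twoT_10), (11, 0, twoT_11), (12, 0, twoT_12), (13, 0, twoT_13), (14, 0, twoT_14), (15, 0, twoT_15), (16, 0, twoT_16), (17, 0, twoT_17), (18, 0, twoT_18), (19, 0, twoT_19), (20, 0, twoT_20), (21, 0, twoT_21), (22, 0, twoT_22), (23, 0, twoT_23), (24, 0, twoT_24), (25, 0, twoT_25), (26, 0, twoT_26), (27, 0, twoT_27)]
  four := []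
  forms := (List.range 128).map twoForms.get
  dforms := [[], [5], [3, 4, 6], [4], [6], [3, 4], [4, 6], [3, 5, 6], [5, 6], [3, 5], [3, 4, 5], [3, 6], [3, 4, 5, 6], [4, 5, 6], [3], [4, 5]]

/-- A part of a table. -/
def threeForms_0 : Table (List ℕ) := (.node 22 (.node 11 (.node 5 (.node 2 (.node 1 (.leaf []) (.leaf [2, 10])) (.node 3 (.leaf [0, 10]) (.node 4 (.leaf [1, 5, 6, 9]) (.leaf [3, 4, 9, 11])))) (.node 8 (.node 6 (.leaf [1, 3, 4, 9]) (.node 7 (.leaf [1, 2, 4, 11]) (.leaf [0, 3, 8, 10]))) (.node 9 (.leaf [0, 2, 4, 7, 8, 11]) (.node 10 (.leaf [2, 7, 9, 10]) (.leaf [2, 6, 8]))))) (.node 16 (.node 13 (.node 12 (.leaf [0, 6, 8]) (.leaf [0, 7, 9, 10])) (.node 14 (.leaf [1, 3, 4, 6]) (.node 15 (.leaf [1, 3, 4, 7, 8, 11]) (.leaf [0, 3, 7, 10])))) (.node 19 (.node 17 (.leaf [0, 3, 6, 9]) (.node 18 (.leaf [1, 2, 4, 7, 9, 10]) (.leaf [1, 2, 4, 6, 8, 11]))) (.node 20 (.leaf [7, 9, 11]) (.node 21 (.leaf [6, 8]) (.leaf [1, 5, 8]))))))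 (.node 33 (.node 27 (.node 24 (.node 23 (.leaf [1, 5, 7, 11]) (.leaf [3, 4, 6, 10])) (.node 25 (.leaf [3, 4, 7, 8, 11]) (.node 26 (.leaf [0, 2, 4, 9, 11]) (.leaf [0, 2, 4, 6, 10])))) (.node 30 (.node 28 (.leaf [0, 2, 5, 7, 10]) (.node 29 (.leaf [0, 2, 7, 8]) (.leaf [0, 2, 9]))) (.node 31 (.leaf [0, 2, 5, 8, 11]) (.node 32 (.leaf [0, 2, 5, 6, 9, 11]) (.leaf [0, 2, 6, 11]))))) (.node 39 (.node 36 (.node 34 (.leaf [1, 8, 10]) (.node 35 (.leaf [1, 4, 7, 9]) (.leaf [1, 4, 11]))) (.node 37 (.leaf [1, 6, 9, 10]) (.node 38 (.leaf [1, 4, 6, 8]) (.leaf [1, 7])))) (.node 42 (.node 40 (.leaf [3, 7]) (.node 41 (.leaf [3, 5, 6]) (.leaf [3, 5, 9, 10]))) (.node 43 (.leaf [3, 5, 7, 8, 10]) (.node 44 (.leaf [3, 6, 9, 10]) (.leaf [3, 8, 10])))))))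

/-- A part of a table. -/
def threeForms_45 : Table (List ℕ) := (.node 68 (.node 56 (.node 50 (.node 47 (.node 46 (.leaf [1, 3, 5, 7, 11]) (.leaf [1, 3, 6])) (.node 48 (.leaf [1, 3, 7, 8, 11]) (.node 49 (.leaf [1, 3, 5, 8, 10]) (.leaf [1, 3, 9])))) (.node 53 (.node 51 (.leaf [1, 3, 5, 6, 9, 11]) (.node 52 (.leaf [2, 4, 6]) (.leaf [2, 5, 7, 9, 10]))) (.node 54 (.leaf [2, 5, 10]) (.node 55 (.leaf [2, 4, 7, 8, 11]) (.leaf [2, 4, 9]))))) (.node 62 (.node 59 (.node 57 (.leaf [2, 5, 6, 8]) (.node 58 (.leaf [0, 5, 8, 11]) (.leaf [0, 4, 8]))) (.node 60 (.leaf [0, 4, 7, 10]) (.node 61 (.leaf [0, 5, 6, 9]) (.leaf [0, 5, 7])))) (.node 65 (.node 63 (.leaf [0, 4, 6, 9, 10]) (.node 64 (.leaf [4, 6, 8, 11]) (.leaf [5, 7, 8, 10]))) (.node 66 (.leaf [4, 7, 9, 10]) (.node 67 (.leaf [5, 6, 10]) (.leaf [4, 11])))))) (.node 79 (.node 73 (.node 70 (.node 69 (.leaf [5, 9]) (.leaf [0, 3, 5, 8, 10])) (.node 71 (.leaf [0, 3, 4, 10]) (.node 72 (.leaf [0,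 3, 5, 7, 10]) (.leaf [0, 3, 4, 7, 9])))) (.node 76 (.node 74 (.leaf [0, 3, 4, 6, 8, 10]) (.node 75 (.leaf [0, 3, 5, 6, 9]) (.leaf [1, 2, 5, 7, 9, 10]))) (.node 77 (.leaf [1, 2, 6, 11]) (.node 78 (.leaf [1, 2, 9, 10]) (.leaf [1, 2, 5, 6, 8, 11]))))) (.node 85 (.node 82 (.node 80 (.leaf [1, 2, 7, 8, 11]) (.node 81 (.leaf [1, 2, 5, 11]) (.leaf [3, 9]))) (.node 83 (.leaf [3, 5, 8, 11]) (.node 84 (.leaf [3, 5, 6, 9, 11]) (.leaf [3, 7, 8])))) (.node 88 (.node 86 (.leaf [3, 6, 11]) (.node 87 (.leaf [3, 5, 7, 10]) (.leaf [3, 4, 7, 11]))) (.node 89 (.leaf [3, 5, 7, 9]) (.node 90 (.leaf [3, 6, 8, 11]) (.leaf [3, 4, 6, 8, 10])))))))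

/-- A part of a table. -/
def threeForms_91 : Table (List ℕ) := (.node 113 (.node 102 (.node 96 (.node 93 (.node 92 (.leaf [3, 4]) (.leaf [3, 7, 9, 11])) (.node 94 (.leaf [3, 4, 8]) (.node 95 (.leaf [3, 5, 6, 8]) (.leaf [3, 10])))) (.node 99 (.node 97 (.leaf [3, 5, 11]) (.node 98 (.leaf [3, 4, 6, 9]) (.leaf [3, 4, 7, 9, 10]))) (.node 100 (.leaf [0, 2, 11]) (.node 101 (.leaf [0, 2, 5, 6, 8, 11]) (.leaf [0, 2, 5, 10]))))) (.node 107 (.node 104 (.node 103 (.leaf [0, 2, 7, 9]) (.leaf [0, 2, 5, 7, 9, 11])) (.node 105 (.leaf [0, 2, 6, 8]) (.node 106 (.leaf [0, 2, 4, 10]) (.leaf [0, 2, 5, 9, 11])))) (.node 110 (.node 108 (.leaf [0, 2, 6, 9]) (.node 109 (.leaf [0, 2, 4, 6, 9, 11]) (.leaf [0, 2, 4, 8, 11]))) (.node 111 (.leaf [0, 2, 8]) (.node 112 (.leaf [0, 2, 5, 6, 10]) (.leaf [0, 2, 4, 7, 10])))))) (.node 124 (.node 118 (.node 115 (.node 114 (.leaf [0, 2, 4, 7, 9, 11]) (.leaf [0, 2, 5, 7, 8, 11])) (.node 116 (.leaf [0, 2, 4, 6, 8, 11])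 (.node 117 (.leaf [0, 2, 7, 11]) (.leaf [1, 4, 8, 10])))) (.node 121 (.node 119 (.leaf [1, 7, 9]) (.node 120 (.leaf [1, 4, 7]) (.leaf [1, 11]))) (.node 122 (.leaf [1, 6, 8]) (.node 123 (.leaf [1, 4, 6, 9, 10]) (.leaf [1, 4, 6, 10]))))) (.node 130 (.node 127 (.node 125 (.leaf [1, 5, 7, 8, 10]) (.node 126 (.leaf [1, 5, 10]) (.leaf [1, 6, 10]))) (.node 128 (.leaf [1, 5, 6, 8, 11]) (.node 129 (.leaf [1, 5, 6]) (.leaf [1, 4, 7, 8, 11])))) (.node 133 (.node 131 (.leaf [1, 9, 11]) (.node 132 (.leaf [1, 7, 8, 11]) (.leaf [1, 5, 7, 9, 11]))) (.node 134 (.leaf [1, 4, 9, 11]) (.node 135 (.leaf [1, 5, 9, 10]) (.leaf [0, 5, 6])))))))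

/-- A part of a table. -/
def threeForms_136 : Table (List ℕ) := (.node 159 (.node 147 (.node 141 (.node 138 (.node 137 (.leaf [0, 4, 7, 9, 10]) (.leaf [0, 4, 10])) (.node 139 (.leaf [0, 5, 9]) (.node 140 (.leaf [0, 5, 7, 8, 11]) (.leaf [0, 4, 6, 8])))) (.node 144 (.node 142 (.leaf [0, 7, 8]) (.node 143 (.leaf [0, 4, 6, 10]) (.leaf [0, 6, 9, 10]))) (.node 145 (.leaf [0, 5, 7, 9]) (.node 146 (.leaf [0, 8]) (.leaf [0, 5]))))) (.node 153 (.node 150 (.node 148 (.leaf [0, 4, 9, 10]) (.node 149 (.leaf [0, 9, 10]) (.leaf [0, 5, 6, 8, 11]))) (.node 151 (.leaf [0, 4, 7, 8]) (.node 152 (.leaf [0, 6, 10]) (.leaf [0, 7, 10])))) (.node 156 (.node 154 (.leaf [1, 3, 7, 9, 10]) (.node 155 (.leaf [1, 3, 5, 6, 8]) (.leaf [1, 3, 5, 10]))) (.node 157 (.leaf [1, 3, 6, 8]) (.node 158 (.leaf [1, 3, 5, 7, 9, 10]) (.leaf [1, 3, 10])))))) (.node 170 (.node 164 (.node 161 (.node 160 (.leaf [1, 3, 4, 6, 8]) (.leaf [1, 3, 5, 9])) (.node 162 (.leaf [1, 3,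 8, 10]) (.node 163 (.leaf [1, 3, 4, 7, 11]) (.leaf [1, 3, 7, 11])))) (.node 167 (.node 165 (.leaf [1, 3, 4, 6, 9, 11]) (.node 166 (.leaf [1, 3, 4, 8, 10]) (.leaf [1, 3, 5, 6]))) (.node 168 (.leaf [1, 3, 4, 7, 9, 10]) (.node 169 (.leaf [1, 3, 5, 7, 8, 11]) (.leaf [1, 3, 6, 9, 11]))))) (.node 176 (.node 173 (.node 171 (.leaf [1, 3, 4, 10]) (.node 172 (.leaf [2, 5, 8, 11]) (.leaf [2, 4, 8]))) (.node 174 (.leaf [2, 5, 7]) (.node 175 (.leaf [2, 4, 6, 9, 10]) (.leaf [2, 4, 7, 10])))) (.node 179 (.node 177 (.leaf [2, 5, 6, 9]) (.node 178 (.leaf [2, 5, 6, 11]) (.leaf [2, 6, 9]))) (.node 180 (.leaf [2, 4, 7, 9, 11]) (.node 181 (.leaf [2, 7, 8, 10]) (.leaf [2, 9, 11])))))))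

/-- A part of a table. -/
def threeForms_182 : Table (List ℕ) := (.node 204 (.node 193 (.node 187 (.node 184 (.node 183 (.leaf [2, 8, 11]) (.leaf [2, 5, 7, 8, 10])) (.node 185 (.leaf [2, 4, 6, 8, 10]) (.node 186 (.leaf [2, 4, 11]) (.leaf [2, 6, 11])))) (.node 190 (.node 188 (.leaf [2, 7]) (.node 189 (.leaf [2, 5, 9, 11]) (.leaf [1, 2, 5, 6, 10]))) (.node 191 (.leaf [1, 2, 7, 9, 11]) (.node 192 (.leaf [1, 2]) (.leaf [1, 2, 6, 8]))))) (.node 198 (.node 195 (.node 194 (.leaf [1, 2, 5, 9]) (.leaf [1, 2, 5, 7, 8, 10])) (.node 196 (.leaf [1, 2, 8, 10]) (.node 197 (.leaf [1, 2, 4, 7, 8, 10]) (.leaf [1, 2, 4, 6, 9, 11])))) (.node 201 (.node 199 (.leaf [1, 2, 5, 8]) (.node 200 (.leaf [1, 2, 5, 6, 9, 11]) (.leaf [1, 2, 4, 7]))) (.node 202 (.leaf [1, 2, 4, 9]) (.node 203 (.leaf [1, 2, 7, 10]) (.leaf [1, 2, 4, 6, 10])))))) (.node 215 (.node 209 (.node 206 (.node 205 (.leaf [1, 2, 4, 8]) (.leaf [1, 2, 6, 9])) (.node 207 (.leaf [1, 2, 5, 7])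 (.node 208 (.leaf [4, 9, 11]) (.leaf [5])))) (.node 212 (.node 210 (.leaf [4, 6]) (.node 211 (.leaf [5, 7, 9, 11]) (.leaf [4, 7, 8]))) (.node 213 (.leaf [5, 6, 8]) (.node 214 (.leaf [7, 8, 10]) (.leaf [6, 9, 10]))))) (.node 221 (.node 218 (.node 216 (.leaf [5, 6, 9, 10]) (.node 217 (.leaf [4, 7, 10]) (.leaf [5, 7, 11]))) (.node 219 (.leaf [4, 6, 9]) (.node 220 (.leaf [9]) (.leaf [8, 11])))) (.node 224 (.node 222 (.leaf [6, 10]) (.node 223 (.leaf [7, 11]) (.leaf [5, 8, 11]))) (.node 225 (.leaf [4, 8, 10]) (.node 226 (.leaf [0, 3, 4, 7, 8, 10]) (.leaf [0, 3, 5, 6, 10])))))))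

/-- A part of a table. -/
def threeForms_227 : Table (List ℕ) := (.node 250 (.node 238 (.node 232 (.node 229 (.node 228 (.leaf [0, 3, 5, 7, 8, 10]) (.leaf [0, 3, 4, 9])) (.node 230 (.leaf [0, 3, 4, 6, 10]) (.node 231 (.leaf [0, 3, 5, 9]) (.leaf [0, 3, 5, 7, 9])))) (.node 235 (.node 233 (.leaf [0, 3, 7, 9]) (.node 234 (.leaf [0, 3, 6, 10]) (.leaf [0, 3, 4, 6, 9]))) (.node 236 (.leaf [0, 3, 7, 8, 10]) (.node 237 (.leaf [0, 3, 4, 7, 10]) (.leaf [0, 3, 6, 8, 10]))))) (.node 244 (.node 241 (.node 239 (.leaf [0, 3, 5, 10]) (.node 240 (.leaf [0, 3, 4, 8, 10]) (.leaf [0, 3, 9]))) (.node 242 (.leaf [0, 3, 5, 6, 8, 10]) (.node 243 (.leaf [0, 3, 10]) (.leaf [1, 4, 9])))) (.node 247 (.node 245 (.leaf [1, 7, 8, 10]) (.node 246 (.leaf [1, 6]) (.leaf [1, 4, 6, 11]))) (.node 248 (.leaf [1, 9, 10]) (.node 249 (.leaf [1, 4, 7, 8]) (.leaf [1, 5, 9])))))) (.node 261 (.node 255 (.node 252 (.node 251 (.leaf [1, 6, 8, 10]) (.leaf [1, 4, 6, 9])) (.node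 253 (.leaf [1, 5, 7, 9]) (.node 254 (.leaf [1, 5, 11]) (.leaf [1, 4, 8])))) (.node 258 (.node 256 (.leaf [1, 7, 9, 10]) (.node 257 (.leaf [1, 5, 7, 8]) (.leaf [1]))) (.node 259 (.leaf [1, 4, 7, 11]) (.node 260 (.leaf [1, 5, 6, 8]) (.leaf [1, 5, 6, 11]))))) (.node 267 (.node 264 (.node 262 (.leaf [1, 7, 10]) (.node 263 (.leaf [1, 4, 10]) (.leaf [1, 5, 6, 10]))) (.node 265 (.leaf [1, 5, 6, 8, 10]) (.node 266 (.leaf [1, 5, 7, 9, 10]) (.leaf [1, 5, 9, 11])))) (.node 270 (.node 268 (.leaf [1, 4, 6, 8, 11]) (.node 269 (.leaf [1, 5, 7, 8, 11]) (.leaf [1, 6, 9, 11]))) (.node 271 (.leaf [1, 4, 7, 9, 11]) (.node 272 (.leaf [1, 5]) (.leaf [1, 8, 11])))))))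

/-- A part of a table. -/
def threeForms_273 : Table (List ℕ) := (.node 295 (.node 284 (.node 278 (.node 275 (.node 274 (.leaf [1, 6, 9]) (.leaf [1, 5, 7, 10])) (.node 276 (.leaf [1, 5, 8, 10]) (.node 277 (.leaf [1, 4, 6, 8, 10]) (.leaf [1, 4, 7, 8, 10])))) (.node 281 (.node 279 (.leaf [1, 9]) (.node 280 (.leaf [1, 10]) (.leaf [1, 4, 7, 10]))) (.node 282 (.leaf [1, 4, 6, 9, 11]) (.node 283 (.leaf [1, 4, 9, 10]) (.leaf [1, 6, 8, 11]))))) (.node 289 (.node 286 (.node 285 (.leaf [1, 7, 8]) (.leaf [1, 7, 9, 11])) (.node 287 (.leaf [1, 5, 6, 9, 11]) (.node 288 (.leaf [1, 4, 7, 9, 10]) (.leaf [1, 6, 11])))) (.node 292 (.node 290 (.leaf [1, 5, 7]) (.node 291 (.leaf [1, 5, 6, 9, 10]) (.leaf [1, 8]))) (.node 293 (.leaf [1, 4]) (.node 294 (.leaf [1, 7, 11]) (.leaf [1, 4, 6])))))) (.node 306 (.node 300 (.node 297 (.node 296 (.leaf [1, 5, 8, 11]) (.leaf [1, 4, 8, 11])) (.node 298 (.leaf [3, 5, 10]) (.node 299 (.leaf [3, 11]) (.leaf [3, 5,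 7, 9, 11])))) (.node 303 (.node 301 (.leaf [3, 6, 8]) (.node 302 (.leaf [3, 7, 9]) (.leaf [3, 5, 6, 8, 11]))) (.node 304 (.leaf [3, 4, 6, 9, 10]) (.node 305 (.leaf [3, 4, 7, 9]) (.leaf [3, 5, 7, 11]))))) (.node 312 (.node 309 (.node 307 (.leaf [3, 6, 10]) (.node 308 (.leaf [3, 5, 8]) (.leaf [3, 4, 6, 8]))) (.node 310 (.leaf [3, 4, 7]) (.node 311 (.leaf [3, 9, 11]) (.leaf [3, 7, 8, 11])))) (.node 315 (.node 313 (.leaf [3, 4, 8, 10]) (.node 314 (.leaf [3, 4, 11]) (.leaf [3, 5, 6, 9]))) (.node 316 (.leaf [3, 8]) (.node 317 (.leaf [3, 5, 9, 11]) (.leaf [3, 4, 8, 11])))))))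

/-- A part of a table. -/
def threeForms_318 : Table (List ℕ) := (.node 341 (.node 329 (.node 323 (.node 320 (.node 319 (.leaf [3, 4, 10]) (.leaf [3, 4, 7, 9, 11])) (.node 321 (.leaf [3, 4, 6, 9, 11]) (.node 322 (.leaf [3, 5, 7, 8, 11]) (.leaf [3, 4, 6, 8, 11])))) (.node 326 (.node 324 (.leaf [3, 6, 9]) (.node 325 (.leaf [3, 5, 6, 10]) (.leaf [3, 7, 11]))) (.node 327 (.leaf [3, 4, 7, 10]) (.node 328 (.leaf [3, 6, 9, 11]) (.leaf [3, 4, 6]))))) (.node 335 (.node 332 (.node 330 (.leaf [3, 4, 7, 8]) (.node 331 (.leaf [3, 5, 7, 8]) (.leaf [3, 5, 6, 8, 10]))) (.node 333 (.leaf [3, 5, 6, 9, 10]) (.node 334 (.leaf [3, 7, 9, 10]) (.leaf [3, 7, 8, 10])))) (.node 338 (.node 336 (.leaf [3, 5, 7]) (.node 337 (.leaf [3, 6]) (.leaf [3]))) (.node 339 (.leaf [3, 5]) (.node 340 (.leaf [3, 5, 6, 11]) (.leaf [3, 4, 9])))))) (.node 352 (.node 346 (.node 343 (.node 342 (.leaf [3, 6, 8, 10]) (.leaf [3, 9, 10])) (.node 344 (.leaf [3, 4, 7, 8, 10]) (.node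 345 (.leaf [3, 8, 11]) (.leaf [3, 5, 8, 10])))) (.node 349 (.node 347 (.leaf [3, 4, 9, 10]) (.node 348 (.leaf [3, 5, 9]) (.leaf [3, 7, 10]))) (.node 350 (.leaf [3, 5, 7, 9, 10]) (.node 351 (.leaf [3, 4, 6, 11]) (.leaf [0, 2, 5, 6]))))) (.node 358 (.node 355 (.node 353 (.leaf [0, 2, 8, 10]) (.node 354 (.leaf [0, 2, 7]) (.leaf [0, 2, 5, 7, 8, 10]))) (.node 356 (.leaf [0, 2, 5, 9, 10]) (.node 357 (.leaf [0, 2, 6, 9, 10]) (.leaf [0, 2, 4, 6, 8, 10])))) (.node 361 (.node 359 (.leaf [0, 2, 6, 8, 11]) (.node 360 (.leaf [0, 2, 5, 11]) (.leaf [0, 2, 4, 8]))) (.node 362 (.leaf [0, 2, 5, 7, 9]) (.node 363 (.leaf [0, 2, 4, 7, 11]) (.leaf [0, 2, 4, 6, 9])))))))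

/-- A part of a table. -/
def threeForms_364 : Table (List ℕ) := (.node 386 (.node 375 (.node 369 (.node 366 (.node 365 (.leaf [0, 2, 10]) (.leaf [0, 2, 7, 9, 11])) (.node 367 (.leaf [0, 2, 4, 7, 9, 10]) (.node 368 (.leaf [0, 2, 4]) (.leaf [0, 2, 5, 6, 8])))) (.node 372 (.node 370 (.leaf [0, 2, 4, 7, 9]) (.node 371 (.leaf [0, 2, 5, 6, 9]) (.leaf [0, 2, 4, 7]))) (.node 373 (.leaf [0, 2, 9, 11]) (.node 374 (.leaf [0, 2, 6, 10]) (.leaf [0, 2, 4, 6, 9, 10]))))) (.node 380 (.node 377 (.node 376 (.leaf [0, 2, 5, 7, 11]) (.leaf [0, 2, 4, 8, 10])) (.node 378 (.leaf [0, 2, 4, 11]) (.node 379 (.leaf [0, 2, 4, 6, 8]) (.leaf [0, 2, 7, 8, 11])))) (.node 383 (.node 381 (.leaf [0, 2, 5, 8]) (.node 382 (.leaf [0, 2, 5, 7, 8]) (.leaf [0, 2, 7, 9, 10]))) (.node 384 (.leaf [0, 2, 7, 10]) (.node 385 (.leaf [0, 2, 5, 8, 10]) (.leaf [0, 2, 4, 9, 10])))))) (.node 397 (.node 391 (.node 388 (.node 387 (.leaf [0, 2, 6]) (.leaf [0, 2, 5, 7, 9, 10])) (.node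 389 (.leaf [0, 2, 4, 6, 11]) (.node 390 (.leaf [0, 2, 5, 6, 8, 10]) (.leaf [0, 2, 7, 8, 10])))) (.node 394 (.node 392 (.leaf [0, 2, 4, 7, 8]) (.node 393 (.leaf [0, 2, 5, 6, 9, 10]) (.leaf [0, 2, 4, 6]))) (.node 395 (.leaf [0, 2, 6, 9, 11]) (.node 396 (.leaf [0, 2, 6, 8, 10]) (.leaf [0, 2, 5, 9]))))) (.node 403 (.node 400 (.node 398 (.leaf [0, 2, 4, 7, 8, 10]) (.node 399 (.leaf [0, 2, 4, 9]) (.leaf [0, 2, 5, 7]))) (.node 401 (.leaf [0, 2, 9, 10]) (.node 402 (.leaf [0, 2, 8, 11]) (.leaf [0, 2, 5])))) (.node 406 (.node 404 (.leaf [0, 2, 5, 6, 11]) (.node 405 (.leaf [0, 2]) (.leaf [2, 5, 9]))) (.node 407 (.leaf [2, 4, 10]) (.node 408 (.leaf [2, 4, 7, 9, 10]) (.leaf [2, 5, 6])))))))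

/-- A part of a table. -/
def threeForms_409 : Table (List ℕ) := (.node 432 (.node 420 (.node 414 (.node 411 (.node 410 (.leaf [2, 4, 6, 8]) (.leaf [2, 5, 7, 8, 11])) (.node 412 (.leaf [2, 7, 11]) (.node 413 (.leaf [2, 4, 7, 11]) (.leaf [2, 5, 6, 9, 11])))) (.node 417 (.node 415 (.leaf [2, 6]) (.node 416 (.leaf [2, 7, 8, 11]) (.leaf [2, 5, 8, 10]))) (.node 418 (.leaf [2, 6, 9, 11]) (.node 419 (.leaf [2, 4, 8, 10]) (.leaf [2, 4, 6, 9, 11]))))) (.node 426 (.node 423 (.node 421 (.leaf [2, 5, 7, 11]) (.node 422 (.leaf [2, 8, 10]) (.leaf [2, 9]))) (.node 424 (.leaf [2, 4, 9, 10]) (.node 425 (.leaf [2, 5]) (.leaf [2, 8])))) (.node 429 (.node 427 (.leaf [2, 9, 10]) (.node 428 (.leaf [2, 6, 10]) (.leaf [2, 7, 10]))) (.node 430 (.leaf [2, 5, 6, 8, 11]) (.node 431 (.leaf [2, 6, 9, 10]) (.leaf [2, 5, 7, 9])))))) (.node 443 (.node 437 (.node 434 (.node 433 (.leaf [2, 4, 6, 10]) (.leaf [2, 7, 8])) (.node 435 (.leaf [2, 4, 7, 8]) (.node 436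 (.leaf [2, 4, 7, 8, 10]) (.leaf [2, 6, 8, 11])))) (.node 440 (.node 438 (.leaf [2, 5, 6, 8, 10]) (.node 439 (.leaf [2, 7, 9, 11]) (.leaf [2, 5, 7, 8]))) (.node 441 (.leaf [2, 4, 6, 8, 11]) (.node 442 (.leaf [2, 4, 6, 9]) (.leaf [2, 5, 7, 10]))))) (.node 449 (.node 446 (.node 444 (.leaf [2, 5, 6, 9, 10]) (.node 445 (.leaf [2, 5, 9, 10]) (.leaf [2, 4]))) (.node 447 (.leaf [2, 4, 7]) (.node 448 (.leaf [2, 4, 8, 11]) (.leaf [2, 6, 8, 10])))) (.node 452 (.node 450 (.leaf [2, 5, 7, 9, 11]) (.node 451 (.leaf [2]) (.leaf [2, 4, 7, 9]))) (.node 453 (.leaf [2, 4, 6, 11]) (.node 454 (.leaf [2, 5, 11]) (.leaf [2, 11])))))))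

/-- A part of a table. -/
def threeForms_455 : Table (List ℕ) := (.node 477 (.node 466 (.node 460 (.node 457 (.node 456 (.leaf [2, 7, 9]) (.leaf [2, 5, 8])) (.node 458 (.leaf [2, 4, 9, 11]) (.node 459 (.leaf [2, 5, 6, 10]) (.leaf [0, 4, 7, 8, 11])))) (.node 463 (.node 461 (.leaf [0, 5, 6, 8]) (.node 462 (.leaf [0, 4, 6]) (.leaf [0, 5, 7, 9, 10]))) (.node 464 (.leaf [0, 5, 10]) (.node 465 (.leaf [0, 4, 9]) (.leaf [0, 6, 11]))))) (.node 471 (.node 468 (.node 467 (.leaf [0, 7]) (.leaf [0, 5, 7, 8, 10])) (.node 469 (.leaf [0, 4, 6, 8, 10]) (.node 470 (.leaf [0, 4, 7, 9, 11]) (.leaf [0, 6, 9])))) (.node 474 (.node 472 (.leaf [0, 5, 6, 11]) (.node 473 (.leaf [0, 7, 8, 10]) (.leaf [0, 5, 9, 11]))) (.node 475 (.leaf [0, 9, 11]) (.node 476 (.leaf [0, 8, 11]) (.leaf [0, 4, 11])))))) (.node 488 (.node 482 (.node 479 (.node 478 (.leaf [0, 5, 6, 9, 11]) (.leaf [0, 4, 7, 11])) (.node 480 (.leaf [0, 9]) (.node 481 (.leaf [0, 8, 10]) (.leaf [0,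 7, 11])))) (.node 485 (.node 483 (.leaf [0, 6]) (.node 484 (.leaf [0, 4, 6, 9, 11]) (.leaf [0, 5, 8, 10]))) (.node 486 (.leaf [0, 4, 8, 10]) (.node 487 (.leaf [0, 6, 9, 11]) (.leaf [0, 7, 8, 11]))))) (.node 494 (.node 491 (.node 489 (.leaf [0, 5, 7, 11]) (.node 490 (.leaf [0, 5, 7, 10]) (.leaf [0, 4, 6, 9]))) (.node 492 (.leaf [0, 7, 9, 11]) (.node 493 (.leaf [0, 6, 8, 11]) (.leaf [0, 4, 9, 11])))) (.node 497 (.node 495 (.leaf [0, 4]) (.node 496 (.leaf [0, 5, 9, 10]) (.leaf [0, 5, 11]))) (.node 498 (.leaf [0, 4, 6, 8, 11]) (.node 499 (.leaf [0, 5, 7, 8]) (.leaf [0, 5, 6, 8, 10])))))))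

/-- A part of a table. -/
def threeForms_500 : Table (List ℕ) := (.node 523 (.node 511 (.node 505 (.node 502 (.node 501 (.leaf [0, 4, 7, 8, 10]) (.leaf [0, 5, 7, 9, 11])) (.node 503 (.leaf [0, 7, 9]) (.node 504 (.leaf [0, 4, 8, 11]) (.leaf [0, 5, 6, 10])))) (.node 508 (.node 506 (.leaf [0, 11]) (.node 507 (.leaf [0, 6, 8, 10]) (.leaf [0, 4, 6, 11]))) (.node 509 (.leaf [0, 5, 8]) (.node 510 (.leaf [0]) (.leaf [0, 4, 7]))))) (.node 517 (.node 514 (.node 512 (.leaf [0, 4, 7, 9]) (.node 513 (.leaf [0, 5, 6, 9, 10]) (.leaf [1, 3, 5, 6, 11]))) (.node 515 (.leaf [1, 3, 7]) (.node 516 (.leaf [1, 3, 6, 9]) (.leaf [1, 3, 5, 7, 8, 10])))) (.node 520 (.node 518 (.leaf [1, 3, 8, 11]) (.node 519 (.leaf [1, 3, 5, 9, 11]) (.leaf [1, 3, 4, 7, 9]))) (.node 521 (.leaf [1, 3]) (.node 522 (.leaf [1, 3, 4, 6, 9]) (.leaf [1, 3, 5, 11])))))) (.node 534 (.node 528 (.node 525 (.node 524 (.leaf [1, 3, 5, 7, 9, 11]) (.leaf [1, 3, 4, 8, 11])) (.node 526 (.leaf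 [1, 3, 4, 7]) (.node 527 (.leaf [1, 3, 7, 9]) (.leaf [1, 3, 4, 6, 8, 11])))) (.node 531 (.node 529 (.leaf [1, 3, 6, 8, 11]) (.node 530 (.leaf [1, 3, 4]) (.leaf [1, 3, 5, 6, 8, 10]))) (.node 532 (.leaf [1, 3, 4, 11]) (.node 533 (.leaf [1, 3, 5, 6, 9]) (.leaf [1, 3, 7, 8, 10]))))) (.node 540 (.node 537 (.node 535 (.leaf [1, 3, 4, 8]) (.node 536 (.leaf [1, 3, 9, 11]) (.leaf [1, 3, 4, 7, 10]))) (.node 538 (.leaf [1, 3, 5, 7]) (.node 539 (.leaf [1, 3, 4, 6, 9, 10]) (.leaf [1, 3, 5, 8, 11])))) (.node 543 (.node 541 (.leaf [1, 3, 6, 11]) (.node 542 (.leaf [1, 3, 4, 7, 9, 11]) (.leaf [1, 3, 4, 6, 8, 10]))) (.node 544 (.leaf [1, 3, 5, 7, 8]) (.node 545 (.leaf [1, 3, 6, 8, 10]) (.leaf [1, 3, 6, 9, 10])))))))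

/-- A part of a table. -/
def threeForms_546 : Table (List ℕ) := (.node 568 (.node 557 (.node 551 (.node 548 (.node 547 (.leaf [1, 3, 5, 8]) (.leaf [1, 3, 4, 7, 8])) (.node 549 (.leaf [1, 3, 9, 10]) (.node 550 (.leaf [1, 3, 4, 6, 11]) (.leaf [1, 3, 5, 7, 9])))) (.node 554 (.node 552 (.leaf [1, 3, 6, 10]) (.node 553 (.leaf [1, 3, 5, 6, 8, 11]) (.leaf [1, 3, 5, 6, 9, 10]))) (.node 555 (.leaf [1, 3, 4, 7, 8, 10]) (.node 556 (.leaf [1, 3, 4, 9, 10]) (.leaf [1, 3, 8]))))) (.node 562 (.node 559 (.node 558 (.leaf [1, 3, 4, 9, 11]) (.leaf [1, 3, 4, 6, 10])) (.node 560 (.leaf [1, 3, 5, 9, 10]) (.node 561 (.leaf [1, 3, 11]) (.leaf [1, 3, 5, 6, 10])))) (.node 565 (.node 563 (.leaf [1, 3, 7, 9, 11]) (.node 564 (.leaf [1, 3, 5]) (.leaf [1, 3, 7, 10]))) (.node 566 (.leaf [1, 3, 5, 7, 10]) (.node 567 (.leaf [1, 3, 7, 8]) (.leaf [0, 3, 5, 6, 8, 11])))))) (.node 579 (.node 573 (.node 570 (.node 569 (.leaf [0, 3, 4, 7]) (.leaf [0, 3, 4, 8])) (.node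 571 (.leaf [0, 3, 4, 6, 9, 11]) (.node 572 (.leaf [0, 3, 5, 7, 9, 10]) (.leaf [0, 3, 5, 11])))) (.node 576 (.node 574 (.leaf [0, 3, 4, 6, 11]) (.node 575 (.leaf [0, 3, 6, 8, 11]) (.leaf [0, 3, 5, 7, 8]))) (.node 577 (.leaf [0, 3, 7, 8]) (.node 578 (.leaf [0, 3, 9, 11]) (.leaf [0, 3, 5, 9, 11]))))) (.node 585 (.node 582 (.node 580 (.leaf [0, 3, 11]) (.node 581 (.leaf [0, 3, 7, 9, 10]) (.leaf [0, 3, 4, 7, 8, 11]))) (.node 583 (.leaf [0, 3, 6]) (.node 584 (.leaf [0, 3, 5, 6]) (.leaf [0, 3, 4, 9, 10])))) (.node 588 (.node 586 (.leaf [0, 3]) (.node 587 (.leaf [0, 3, 4, 7, 9, 10]) (.leaf [0, 3, 5, 6, 9, 11]))) (.node 589 (.leaf [0, 3, 9, 10]) (.node 590 (.leaf [0, 3, 6, 11]) (.leaf [0, 3, 5, 8])))))))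

/-- A part of a table. -/
def threeForms_591 : Table (List ℕ) := (.node 614 (.node 602 (.node 596 (.node 593 (.node 592 (.leaf [0, 3, 4, 6, 8, 11]) (.leaf [0, 3, 7, 9, 11])) (.node 594 (.leaf [0, 3, 4, 11]) (.node 595 (.leaf [0, 3, 5, 7]) (.leaf [0, 3, 6, 8])))) (.node 599 (.node 597 (.leaf [0, 3, 7, 8, 11]) (.node 598 (.leaf [0, 3, 4, 9, 11]) (.leaf [0, 3, 5]))) (.node 600 (.leaf [0, 3, 6, 9, 11]) (.node 601 (.leaf [0, 3, 7, 11]) (.leaf [0, 3, 5, 9, 10]))))) (.node 608 (.node 605 (.node 603 (.leaf [0, 3, 4, 8, 11]) (.node 604 (.leaf [0, 3, 5, 7, 11]) (.leaf [0, 3, 4, 6, 8]))) (.node 606 (.leaf [0, 3, 5, 6, 9, 10]) (.node 607 (.leaf [0, 3, 4]) (.leaf [0, 3, 8])))) (.node 611 (.node 609 (.leaf [0, 3, 4, 6, 9, 10]) (.node 610 (.leaf [0, 3, 5, 6, 11]) (.leaf [0, 3, 6, 9, 10]))) (.node 612 (.leaf [0, 3, 5, 6, 8]) (.node 613 (.leaf [0, 3, 4, 7, 9, 11]) (.leaf [0, 3, 4, 7, 11])))))) (.node 625 (.node 619 (.node 616 (.node 615 (.leaf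 [0, 3, 5, 7, 8, 11]) (.leaf [0, 3, 4, 7, 8])) (.node 617 (.leaf [0, 3, 8, 11]) (.node 618 (.leaf [0, 3, 5, 7, 9, 11]) (.leaf [0, 3, 5, 8, 11])))) (.node 622 (.node 620 (.leaf [0, 3, 7]) (.node 621 (.leaf [0, 3, 4, 6]) (.leaf [1, 2, 7, 11]))) (.node 623 (.leaf [1, 2, 5, 6, 9, 10]) (.node 624 (.leaf [1, 2, 5, 7, 11]) (.leaf [1, 2, 8, 11]))))) (.node 631 (.node 628 (.node 626 (.leaf [1, 2, 6, 9, 10]) (.node 627 (.leaf [1, 2, 5, 8, 11]) (.leaf [1, 2, 4, 6, 11]))) (.node 629 (.leaf [1, 2, 5, 9, 10]) (.node 630 (.leaf [1, 2, 4, 7, 11]) (.leaf [1, 2, 11])))) (.node 634 (.node 632 (.leaf [1, 2, 6, 8, 11]) (.node 633 (.leaf [1, 2, 4, 8, 11]) (.leaf [1, 2, 5, 7, 8, 11]))) (.node 635 (.leaf [1, 2, 4, 7, 8, 11]) (.node 636 (.leaf [1, 2, 7, 9, 10]) (.leaf [1, 2, 4, 6, 9, 10])))))))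

/-- A part of a table. -/
def threeForms_637 : Table (List ℕ) := (.node 660 (.node 648 (.node 642 (.node 639 (.node 638 (.leaf [1, 2, 5, 6, 11]) (.leaf [1, 2, 4, 9, 10])) (.node 640 (.leaf [1, 2, 4, 9, 11]) (.node 641 (.leaf [1, 2, 4, 8, 10]) (.leaf [1, 2, 5, 6, 8])))) (.node 645 (.node 643 (.leaf [1, 2, 7, 8, 10]) (.node 644 (.leaf [1, 2, 5]) (.leaf [1, 2, 6, 10]))) (.node 646 (.leaf [1, 2, 4, 6, 9]) (.node 647 (.leaf [1, 2, 9]) (.leaf [1, 2, 4, 6]))))) (.node 654 (.node 651 (.node 649 (.leaf [1, 2, 4, 7, 8]) (.node 650 (.leaf [1, 2, 5, 7, 9, 11]) (.leaf [1, 2, 4, 7, 10]))) (.node 652 (.leaf [1, 2, 6, 9, 11]) (.node 653 (.leaf [1, 2, 5, 7, 8]) (.leaf [1, 2, 5, 10])))) (.node 657 (.node 655 (.leaf [1, 2, 4, 7, 9, 11]) (.node 656 (.leaf [1, 2, 9, 11]) (.leaf [1, 2, 6, 8, 10]))) (.node 658 (.leaf [1, 2, 4, 6, 8, 10]) (.node 659 (.leaf [1, 2, 5, 7, 10]) (.leaf [1, 2, 4, 10])))))) (.node 671 (.node 665 (.node 662 (.node 661 (.leaf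 [1, 2, 4, 6, 8]) (.leaf [1, 2, 5, 8, 10])) (.node 663 (.leaf [1, 2, 7, 9]) (.node 664 (.leaf [1, 2, 5, 7, 9]) (.leaf [1, 2, 7, 8])))) (.node 668 (.node 666 (.leaf [1, 2, 6]) (.node 667 (.leaf [1, 2, 5, 6]) (.leaf [1, 2, 10]))) (.node 669 (.leaf [1, 2, 5, 6, 9]) (.node 670 (.leaf [1, 2, 5, 6, 8, 10]) (.leaf [1, 2, 5, 9, 11]))))) (.node 677 (.node 674 (.node 672 (.leaf [1, 2, 4, 7, 9]) (.node 673 (.leaf [1, 2, 7]) (.leaf [1, 2, 8]))) (.node 675 (.leaf [1, 2, 4]) (.node 676 (.leaf [4, 8]) (.leaf [5, 8])))) (.node 680 (.node 678 (.leaf [4, 7]) (.node 679 (.leaf [5, 6, 9, 11]) (.leaf [4, 6, 9, 11]))) (.node 681 (.leaf [5, 7]) (.node 682 (.leaf [5, 6, 8, 11]) (.leaf [4, 7, 8, 10])))))))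

/-- A part of a table. -/
def threeForms_683 : Table (List ℕ) := (.node 706 (.node 694 (.node 688 (.node 685 (.node 684 (.leaf [7, 10]) (.leaf [6, 11])) (.node 686 (.leaf [5, 11]) (.node 687 (.leaf [4, 9]) (.leaf [6, 9])))) (.node 691 (.node 689 (.leaf [7, 8, 11]) (.node 690 (.leaf [8, 10]) (.leaf [9, 10]))) (.node 692 (.leaf [5, 7, 9, 10]) (.node 693 (.leaf [4, 6, 10]) (.leaf [5, 9, 11]))))) (.node 700 (.node 697 (.node 695 (.leaf [4]) (.node 696 (.leaf [9, 11]) (.leaf [8]))) (.node 698 (.leaf [6]) (.node 699 (.leaf [7]) (.leaf [5, 7, 8])))) (.node 703 (.node 701 (.leaf [4, 6, 8]) (.node 702 (.leaf [7, 8]) (.leaf [6, 9, 11]))) (.node 704 (.leaf [5, 6]) (.node 705 (.leaf [4, 7, 9, 11]) (.leaf [6, 8, 11])))))) (.node 717 (.node 711 (.node 708 (.node 707 (.leaf [7, 9]) (.leaf [4, 7, 9])) (.node 709 (.leaf [5, 6, 11]) (.node 710 (.leaf [4, 6, 11]) (.leaf [5, 7, 9])))) (.node 714 (.node 712 (.leaf [5, 7, 10]) (.node 713 (.leaf [4,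 6, 9, 10]) (.leaf [5, 8, 10]))) (.node 715 (.leaf [4, 8, 11]) (.node 716 (.leaf [4, 7, 8, 11]) (.leaf [5, 6, 8, 10]))))) (.node 723 (.node 720 (.node 718 (.leaf [4, 10]) (.node 719 (.leaf [5, 9, 10]) (.leaf [7, 9, 10]))) (.node 721 (.leaf [6, 8, 10]) (.node 722 (.leaf [5, 6, 9]) (.leaf [4, 7, 11])))) (.node 726 (.node 724 (.leaf [4, 9, 10]) (.node 725 (.leaf [5, 10]) (.leaf [4, 6, 8, 10]))) (.node 727 (.leaf [5, 7, 8, 11]) (.node 728 (.leaf [11]) (.leaf [10])))))))

/-- A table. -/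
def threeForms : Table (List ℕ) := (.node 364 (.node 182 (.node 91 (.node 45 threeForms_0 threeForms_45) (.node 136 threeForms_91 threeForms_136)) (.node 273 (.node 227 threeForms_182 threeForms_227) (.node 318 threeForms_273 threeForms_318))) (.node 546 (.node 455 (.node 409 threeForms_364 threeForms_409) (.node 500 threeForms_455 threeForms_500)) (.node 637 (.node 591 threeForms_546 threeForms_591) (.node 683 threeForms_637 threeForms_683))))

/-- A part of a table. -/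
def threePos_0 : Table ℕ := (.node 22 (.node 11 (.node 5 (.node 2 (.node 1 (.leaf 0) (.leaf 509)) (.node 3 (.leaf 257) (.node 4 (.leaf 450) (.leaf 404)))) (.node 8 (.node 6 (.leaf 191) (.node 7 (.leaf 337) (.leaf 585))) (.node 9 (.leaf 520) (.node 10 (.leaf 694) (.leaf 494))))) (.node 16 (.node 13 (.node 12 (.leaf 292) (.leaf 445)) (.node 14 (.leaf 367) (.node 15 (.leaf 674) (.leaf 91)))) (.node 19 (.node 17 (.leaf 606) (.node 18 (.leaf 529) (.leaf 208))) (.node 20 (.leaf 146) (.node 21 (.leaf 271) (.leaf 424)))))) (.node 33 (.node 27 (.node 24 (.node 23 (.leaf 402) (.leaf 643)) (.node 25 (.leaf 338) (.node 26 (.leaf 598) (.leaf 563)))) (.node 30 (.node 28 (.leaf 697) (.node 29 (.leaf 482) (.leaf 245))) (.node 31 (.leaf 414) (.node 32 (.leaf 386) (.leaf 665))))) (.node 39 (.node 36 (.node 34 (.leaf 336) (.node 35 (.leaf 582) (.leaf 46))) (.node 37 (.leaf 209) (.node 38 (.leaf 461) (.leaf 294)))) (.node 42 (.node 40 (.leaf 51) (.node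 41 (.leaf 393) (.leaf 647))) (.node 43 (.leaf 328) (.node 44 (.leaf 620) (.leaf 13)))))))

/-- A part of a table. -/
def threePos_45 : Table ℕ := (.node 68 (.node 56 (.node 50 (.node 47 (.node 46 (.leaf 703) (.leaf 135)) (.node 48 (.leaf 128) (.node 49 (.leaf 408) (.leaf 351)))) (.node 53 (.node 51 (.leaf 666) (.node 52 (.leaf 40) (.leaf 583))) (.node 54 (.leaf 166) (.node 55 (.leaf 698) (.leaf 466))))) (.node 62 (.node 59 (.node 57 (.leaf 38) (.node 58 (.leaf 187) (.leaf 353))) (.node 60 (.leaf 672) (.node 61 (.leaf 39) (.leaf 619)))) (.node 65 (.node 63 (.leaf 514) (.node 64 (.leaf 677) (.leaf 510))) (.node 66 (.leaf 119) (.node 67 (.leaf 446) (.leaf 371)))))) (.node 79 (.node 73 (.node 70 (.node 69 (.leaf 200) (.leaf 309)) (.node 71 (.leaf 568) (.node 72 (.leaf 525) (.leaf 680)))) (.node 76 (.node 74 (.leaf 61) (.node 75 (.leaf 289) (.leaf 173))) (.node 77 (.leaf 399) (.node 78 (.leaf 206) (.leaf 335))))) (.node 85 (.node 82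 (.node 80 (.leaf 594) (.node 81 (.leaf 537) (.leaf 696))) (.node 83 (.leaf 145) (.node 84 (.leaf 291) (.leaf 425)))) (.node 88 (.node 86 (.leaf 110) (.node 87 (.leaf 673) (.leaf 315))) (.node 89 (.leaf 607) (.node 90 (.leaf 556) (.leaf 675)))))))

/-- A part of a table. -/
def threePos_91 : Table ℕ := (.node 113 (.node 102 (.node 96 (.node 93 (.node 92 (.leaf 58) (.leaf 254)) (.node 94 (.leaf 172) (.node 95 (.leaf 360) (.leaf 204)))) (.node 99 (.node 97 (.leaf 93) (.node 98 (.leaf 569) (.leaf 534))) (.node 100 (.leaf 676) (.node 101 (.leaf 508) (.leaf 21))))) (.node 107 (.node 104 (.node 103 (.leaf 456) (.leaf 380)) (.node 105 (.leaf 198) (.node 106 (.leaf 307) (.leaf 590)))) (.node 110 (.node 108 (.leaf 546) (.node 109 (.leaf 20) (.leaf 11))) (.node 111 (.leaf 121) (.node 112 (.leaf 10) (.leaf 104)))))) (.node 124 (.node 118 (.node 115 (.node 114 (.leaf 192) (.leaf 300)) (.node 116 (.leaf 595) (.node 117 (.leaf 156) (.leaf 700))))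 (.node 121 (.node 119 (.leaf 140) (.node 120 (.leaf 37) (.leaf 409))) (.node 122 (.leaf 378) (.node 123 (.leaf 660) (.leaf 308))))) (.node 130 (.node 127 (.node 125 (.leaf 604) (.node 126 (.leaf 159) (.leaf 212))) (.node 128 (.leaf 460) (.node 129 (.leaf 259) (.leaf 56)))) (.node 133 (.node 131 (.leaf 368) (.node 132 (.leaf 641) (.leaf 94))) (.node 134 (.leaf 611) (.node 135 (.leaf 154) (.leaf 701)))))))

/-- A part of a table. -/
def threePos_136 : Table ℕ := (.node 159 (.node 147 (.node 141 (.node 138 (.node 137 (.leaf 141) (.leaf 284)) (.node 139 (.leaf 433) (.node 140 (.leaf 28) (.leaf 664)))) (.node 144 (.node 142 (.leaf 84) (.node 143 (.leaf 576) (.leaf 566))) (.node 145 (.leaf 211) (.node 146 (.leaf 150) (.leaf 248))))) (.node 153 (.node 150 (.node 148 (.leaf 434) (.node 149 (.leaf 391) (.leaf 648))) (.node 151 (.leaf 329) (.node 152 (.leaf 615) (.leaf 547)))) (.node 156 (.node 154 (.leaf 699) (.node 155 (.leaf 498) (.leaf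 256))) (.node 157 (.leaf 439) (.node 158 (.leaf 381) (.leaf 652)))))) (.node 170 (.node 164 (.node 161 (.node 160 (.leaf 330) (.leaf 575)) (.node 162 (.leaf 543) (.node 163 (.leaf 219) (.leaf 479)))) (.node 167 (.node 165 (.leaf 278) (.node 166 (.leaf 422) (.leaf 29))) (.node 168 (.leaf 646) (.node 169 (.leaf 81) (.leaf 240))))) (.node 176 (.node 173 (.node 171 (.leaf 49) (.node 172 (.leaf 686) (.leaf 464))) (.node 174 (.leaf 243) (.node 175 (.leaf 55) (.leaf 398)))) (.node 179 (.node 177 (.leaf 201) (.node 178 (.leaf 340) (.leaf 228))) (.node 180 (.leaf 5) (.node 181 (.leaf 68) (.leaf 138)))))))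

/-- A part of a table. -/
def threePos_182 : Table ℕ := (.node 204 (.node 193 (.node 187 (.node 184 (.node 183 (.leaf 249) (.leaf 405)) (.node 185 (.leaf 396) (.node 186 (.leaf 193) (.leaf 347)))) (.node 190 (.node 188 (.leaf 230) (.node 189 (.leaf 160) (.leaf 687))) (.node 191 (.leaf 470) (.node 192 (.leaf 273) (.leaf 178))))) (.node 198 (.node 195 (.node 194 (.leaf 107) (.leaf 205)) (.node 196 (.leaf 323) (.node 197 (.leaf 16) (.leaf 515)))) (.node 201 (.node 199 (.leaf 218) (.node 200 (.leaf 490) (.leaf 251))) (.node 202 (.leaf 441) (.node 203 (.leaf 363) (.leaf 645)))))) (.node 215 (.node 209 (.node 206 (.node 205 (.leaf 97) (.leaf 234)) (.node 207 (.leaf 521) (.node 208 (.leaf 721) (.leaf 60)))) (.node 212 (.node 210 (.leaf 3) (.node 211 (.leaf 176) (.leaf 370))) (.node 213 (.leaf 668) (.node 214 (.leaf 314) (.leaf 74))))) (.node 221 (.node 218 (.node 216 (.leaf 532) (.node 217 (.leaf 706) (.leaf 502))) (.node 219 (.leaf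 118) (.node 220 (.leaf 455) (.leaf 102)))) (.node 224 (.node 222 (.leaf 662) (.node 223 (.leaf 301) (.leaf 232))) (.node 225 (.leaf 526) (.node 226 (.leaf 707) (.leaf 511)))))))

/-- A part of a table. -/
def threePos_227 : Table ℕ := (.node 250 (.node 238 (.node 232 (.node 229 (.node 228 (.leaf 34) (.leaf 451)) (.node 230 (.leaf 369) (.node 231 (.leaf 671) (.leaf 304)))) (.node 235 (.node 233 (.leaf 72) (.node 234 (.leaf 519) (.leaf 710))) (.node 236 (.leaf 144) (.node 237 (.leaf 252) (.leaf 431))))) (.node 244 (.node 241 (.node 239 (.leaf 361) (.node 240 (.leaf 663) (.leaf 88))) (.node 242 (.leaf 231) (.node 243 (.leaf 550) (.leaf 728)))) (.node 247 (.node 245 (.leaf 2) (.node 246 (.leaf 279) (.leaf 1))) (.node 248 (.leaf 364) (.node 249 (.leaf 667) (.leaf 95)))))) (.node 261 (.node 255 (.node 252 (.node 251 (.leaf 242) (.leaf 158)) (.node 253 (.leaf 717) (.node 254 (.leaf 137) (.leaf 262)))) (.node 258 (.node 256 (.leaf 406)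 (.node 257 (.leaf 105) (.leaf 659))) (.node 259 (.leaf 318) (.node 260 (.leaf 70) (.leaf 170))))) (.node 267 (.node 264 (.node 262 (.leaf 724) (.node 263 (.leaf 463) (.leaf 125))) (.node 265 (.leaf 53) (.node 266 (.leaf 101) (.leaf 653)))) (.node 270 (.node 268 (.leaf 297) (.node 269 (.leaf 238) (.leaf 155))) (.node 271 (.leaf 221) (.node 272 (.leaf 151) (.leaf 126)))))))

/-- A part of a table. -/
def threePos_273 : Table ℕ := (.node 295 (.node 284 (.node 278 (.node 275 (.node 274 (.leaf 427) (.leaf 373)) (.node 276 (.leaf 644) (.node 277 (.leaf 306) (.leaf 233)))) (.node 281 (.node 279 (.leaf 551) (.node 280 (.leaf 692) (.leaf 142))) (.node 282 (.leaf 123) (.node 283 (.leaf 432) (.leaf 26))))) (.node 289 (.node 286 (.node 285 (.leaf 203) (.leaf 23)) (.node 287 (.leaf 229) (.node 288 (.leaf 558) (.leaf 66)))) (.node 292 (.node 290 (.leaf 504) (.node 291 (.leaf 263) (.leaf 458))) (.node 293 (.leaf 111) (.node 294 (.leaf 189) (.leaf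 324)))))) (.node 306 (.node 300 (.node 297 (.node 296 (.leaf 226) (.leaf 561)) (.node 298 (.leaf 683) (.node 299 (.leaf 152) (.leaf 261)))) (.node 303 (.node 301 (.leaf 428) (.node 302 (.leaf 383) (.leaf 202))) (.node 304 (.leaf 348) (.node 305 (.leaf 15) (.leaf 564))))) (.node 312 (.node 309 (.node 307 (.leaf 216) (.node 308 (.leaf 59) (.leaf 280))) (.node 310 (.leaf 175) (.node 311 (.leaf 112) (.leaf 650)))) (.node 315 (.node 313 (.leaf 326) (.node 314 (.leaf 236) (.leaf 536))) (.node 316 (.leaf 711) (.node 317 (.leaf 489) (.leaf 274)))))))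

/-- A part of a table. -/
def threePos_318 : Table ℕ := (.node 341 (.node 329 (.node 323 (.node 320 (.node 319 (.leaf 442) (.leaf 27)) (.node 321 (.leaf 658) (.node 322 (.leaf 86) (.leaf 71)))) (.node 326 (.node 324 (.leaf 565) (.node 325 (.leaf 689) (.leaf 480))) (.node 327 (.leaf 33) (.node 328 (.leaf 421) (.leaf 352))))) (.node 335 (.node 332 (.node 330 (.leaf 195) (.node 331 (.leaf 44) (.leaf 7))) (.node 333 (.leaf 161) (.node 334 (.leaf 224) (.leaf 485)))) (.node 338 (.node 336 (.leaf 117) (.node 337 (.leaf 418) (.leaf 376))) (.node 339 (.leaf 640) (.node 340 (.leaf 312) (.leaf 239)))))) (.node 352 (.node 346 (.node 343 (.node 342 (.leaf 165) (.leaf 713)) (.node 344 (.leaf 484) (.node 345 (.leaf 275) (.leaf 416)))) (.node 349 (.node 347 (.leaf 384) (.node 348 (.leaf 661) (.leaf 345))) (.node 350 (.leaf 69) (.node 351 (.leaf 48) (.leaf 720))))) (.node 358 (.node 355 (.node 353 (.leaf 506) (.node 354 (.leaf 250) (.leaf 448)))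 (.node 356 (.leaf 395) (.node 357 (.leaf 656) (.leaf 341)))) (.node 361 (.node 359 (.leaf 237) (.node 360 (.leaf 544) (.leaf 725))) (.node 362 (.leaf 468) (.node 363 (.leaf 276) (.leaf 184)))))))

/-- A part of a table. -/
def threePos_364 : Table ℕ := (.node 386 (.node 375 (.node 369 (.node 366 (.node 365 (.leaf 357) (.leaf 657)) (.node 367 (.leaf 90) (.node 368 (.leaf 73) (.leaf 542)))) (.node 372 (.node 370 (.leaf 716) (.node 371 (.leaf 499) (.leaf 264))) (.node 373 (.leaf 437) (.node 374 (.leaf 389) (.leaf 669))))) (.node 380 (.node 377 (.node 376 (.leaf 331) (.leaf 241)) (.node 378 (.leaf 530) (.node 379 (.leaf 213) (.leaf 472)))) (.node 383 (.node 381 (.leaf 244) (.node 382 (.leaf 180) (.leaf 390))) (.node 384 (.leaf 642) (.node 385 (.leaf 334) (.leaf 235)))))) (.node 397 (.node 391 (.node 388 (.node 387 (.leaf 533) (.leaf 682)) (.node 389 (.leaf 500) (.node 390 (.leaf 277) (.leaf 435)))) (.node 394 (.node 392 (.leaf 397)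 (.node 393 (.leaf 196) (.leaf 343))) (.node 395 (.leaf 225) (.node 396 (.leaf 554) (.leaf 64))))) (.node 403 (.node 400 (.node 398 (.leaf 467) (.node 399 (.leaf 124) (.leaf 183))) (.node 401 (.leaf 354) (.node 402 (.leaf 194) (.leaf 42)))) (.node 406 (.node 404 (.leaf 227) (.node 405 (.leaf 516) (.leaf 690))) (.node 407 (.leaf 148) (.node 408 (.leaf 247) (.leaf 426)))))))

/-- A part of a table. -/
def threePos_409 : Table ℕ := (.node 432 (.node 420 (.node 414 (.node 411 (.node 410 (.leaf 400) (.leaf 77)) (.node 412 (.leaf 342) (.node 413 (.leaf 588) (.leaf 548)))) (.node 417 (.node 415 (.leaf 723) (.node 416 (.leaf 147) (.leaf 282))) (.node 418 (.leaf 423) (.node 419 (.leaf 385) (.leaf 638))))) (.node 426 (.node 423 (.node 421 (.leaf 346) (.node 422 (.leaf 584) (.leaf 555))) (.node 424 (.leaf 718) (.node 425 (.leaf 495) (.leaf 134)))) (.node 429 (.node 427 (.leaf 444) (.node 428 (.leaf 355) (.leaf 628))) (.node 430 (.leaf 41)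 (.node 431 (.leaf 601) (.leaf 559)))))) (.node 443 (.node 437 (.node 434 (.node 433 (.leaf 214) (.leaf 143)) (.node 435 (.leaf 36) (.node 436 (.leaf 430) (.leaf 356)))) (.node 440 (.node 438 (.leaf 625) (.node 439 (.leaf 43) (.leaf 610))) (.node 441 (.leaf 545) (.node 442 (.leaf 712) (.leaf 62))))) (.node 449 (.node 446 (.node 444 (.leaf 122) (.node 445 (.leaf 174) (.leaf 374))) (.node 447 (.leaf 636) (.node 448 (.leaf 303) (.leaf 608)))) (.node 452 (.node 450 (.leaf 538) (.node 451 (.leaf 215) (.leaf 512))) (.node 453 (.leaf 290) (.node 454 (.leaf 443) (.leaf 392)))))))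

/-- A part of a table. -/
def threePos_455 : Table ℕ := (.node 477 (.node 466 (.node 460 (.node 457 (.node 456 (.leaf 622) (.leaf 332)) (.node 458 (.leaf 605) (.node 459 (.leaf 553) (.leaf 719)))) (.node 463 (.node 461 (.leaf 12) (.node 462 (.leaf 255) (.leaf 9))) (.node 464 (.leaf 382) (.node 465 (.leaf 635) (.leaf 333))))) (.node 471 (.node 468 (.node 467 (.leaf 580) (.leaf 153)) (.node 469 (.leaf 65) (.node 470 (.leaf 136) (.leaf 287)))) (.node 474 (.node 472 (.leaf 407) (.node 473 (.leaf 366) (.leaf 17))) (.node 475 (.leaf 98) (.node 476 (.leaf 586) (.leaf 167)))))) (.node 488 (.node 482 (.node 479 (.node 478 (.leaf 691) (.leaf 462)) (.node 480 (.leaf 265) (.node 481 (.leaf 52) (.leaf 387)))) (.node 485 (.node 483 (.leaf 75) (.node 484 (.leaf 349) (.leaf 571))) (.node 486 (.leaf 157) (.node 487 (.leaf 727) (.leaf 505))))) (.node 494 (.node 491 (.node 489 (.leaf 120) (.node 490 (.leaf 454) (.leaf 99))) (.node 492 (.leaf 630)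 (.node 493 (.leaf 298) (.leaf 579)))) (.node 497 (.node 495 (.leaf 560) (.node 496 (.leaf 67) (.leaf 476))) (.node 498 (.leaf 35) (.node 499 (.leaf 185) (.leaf 377)))))))

/-- A part of a table. -/
def threePos_500 : Table ℕ := (.node 523 (.node 511 (.node 505 (.node 502 (.node 501 (.leaf 6) (.leaf 313)) (.node 503 (.leaf 593) (.node 504 (.leaf 531) (.leaf 685)))) (.node 508 (.node 506 (.leaf 496) (.node 507 (.leaf 253) (.leaf 453))) (.node 509 (.leaf 359) (.node 510 (.leaf 80) (.leaf 96))))) (.node 517 (.node 514 (.node 512 (.leaf 572) (.node 513 (.leaf 522) (.leaf 684))) (.node 515 (.leaf 465) (.node 516 (.leaf 288) (.leaf 186)))) (.node 520 (.node 518 (.leaf 32) (.node 519 (.leaf 76) (.leaf 85))) (.node 521 (.leaf 589) (.node 522 (.leaf 540) (.leaf 709)))))) (.node 534 (.node 528 (.node 525 (.node 524 (.leaf 507) (.leaf 246)) (.node 526 (.leaf 452) (.node 527 (.leaf 388) (.leaf 627)))) (.node 531 (.node 529 (.leaf 350) (.node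 530 (.leaf 573) (.leaf 549))) (.node 532 (.leaf 708) (.node 533 (.leaf 471) (.leaf 260))))) (.node 540 (.node 537 (.node 535 (.leaf 177) (.node 536 (.leaf 403) (.leaf 637))) (.node 538 (.leaf 339) (.node 539 (.leaf 609) (.leaf 513)))) (.node 543 (.node 541 (.leaf 222) (.node 542 (.leaf 481) (.leaf 293))) (.node 544 (.leaf 411) (.node 545 (.leaf 116) (.leaf 621)))))))

/-- A part of a table. -/
def threePos_546 : Table ℕ := (.node 568 (.node 557 (.node 551 (.node 548 (.node 547 (.leaf 325) (.leaf 600)) (.node 549 (.leaf 163) (.node 550 (.leaf 722) (.leaf 478)))) (.node 554 (.node 552 (.leaf 258) (.node 553 (.leaf 412) (.leaf 362))) (.node 555 (.leaf 629) (.node 556 (.leaf 87) (.leaf 613))))) (.node 562 (.node 559 (.node 558 (.leaf 162) (.leaf 217)) (.node 560 (.leaf 488) (.node 561 (.leaf 22) (.leaf 420)))) (.node 565 (.node 563 (.leaf 375) (.node 564 (.leaf 623) (.leaf 305))) (.node 566 (.leaf 603) (.node 567 (.leaf 45) (.leaf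 220)))))) (.node 579 (.node 573 (.node 570 (.node 569 (.leaf 475) (.leaf 272)) (.node 571 (.leaf 182) (.node 572 (.leaf 401) (.leaf 624)))) (.node 576 (.node 574 (.leaf 344) (.node 575 (.leaf 616) (.leaf 517))) (.node 577 (.leaf 714) (.node 578 (.leaf 503) (.leaf 296))))) (.node 585 (.node 582 (.node 580 (.leaf 447) (.node 581 (.leaf 109) (.leaf 632))) (.node 583 (.leaf 317) (.node 584 (.leaf 602) (.leaf 524)))) (.node 588 (.node 586 (.leaf 223) (.node 587 (.leaf 57) (.leaf 295))) (.node 589 (.leaf 171) (.node 590 (.leaf 30) (.leaf 626)))))))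

/-- A part of a table. -/
def threePos_591 : Table ℕ := (.node 614 (.node 602 (.node 596 (.node 593 (.node 592 (.leaf 82) (.leaf 618)) (.node 594 (.leaf 539) (.node 595 (.leaf 705) (.leaf 492)))) (.node 599 (.node 597 (.leaf 283) (.node 598 (.leaf 436) (.leaf 358))) (.node 600 (.leaf 631) (.node 601 (.leaf 89) (.leaf 574))))) (.node 608 (.node 605 (.node 603 (.leaf 528) (.node 604 (.leaf 63) (.leaf 497))) (.node 606 (.leaf 267) (.node 607 (.leaf 440) (.leaf 115)))) (.node 611 (.node 609 (.leaf 18) (.node 610 (.leaf 322) (.leaf 591))) (.node 612 (.leaf 527) (.node 613 (.leaf 681) (.leaf 149)))))) (.node 625 (.node 619 (.node 616 (.node 615 (.leaf 127) (.leaf 429)) (.node 617 (.leaf 100) (.node 618 (.leaf 78) (.leaf 302)))) (.node 622 (.node 620 (.leaf 567) (.node 621 (.leaf 552) (.leaf 688))) (.node 623 (.leaf 487) (.node 624 (.leaf 131) (.leaf 415))))) (.node 631 (.node 628 (.node 626 (.leaf 379) (.node 627 (.leaf 79) (.leaf 311)))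 (.node 629 (.leaf 596) (.node 630 (.leaf 47) (.leaf 715)))) (.node 634 (.node 632 (.leaf 459) (.node 633 (.leaf 129) (.leaf 54))) (.node 635 (.leaf 8) (.node 636 (.leaf 634) (.leaf 24)))))))

/-- A part of a table. -/
def threePos_637 : Table ℕ := (.node 660 (.node 648 (.node 642 (.node 639 (.node 638 (.leaf 581) (.leaf 14)) (.node 640 (.leaf 726) (.node 641 (.leaf 139) (.leaf 268)))) (.node 645 (.node 643 (.leaf 410) (.node 644 (.leaf 114) (.leaf 633))) (.node 646 (.leaf 321) (.node 647 (.leaf 614) (.leaf 168))))) (.node 654 (.node 651 (.node 649 (.leaf 695) (.node 650 (.leaf 474) (.leaf 130))) (.node 652 (.leaf 181) (.node 653 (.leaf 372) (.leaf 655)))) (.node 657 (.node 655 (.leaf 310) (.node 656 (.leaf 577) (.leaf 535))) (.node 658 (.leaf 207) (.node 659 (.leaf 493) (.leaf 133)))))) (.node 671 (.node 665 (.node 662 (.node 661 (.leaf 457) (.leaf 25)) (.node 663 (.leaf 639) (.node 664 (.leaf 4) (.leaf 597)))) (.node 668 (.node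 666 (.leaf 557) (.node 667 (.leaf 693) (.leaf 473))) (.node 669 (.leaf 266) (.node 670 (.leaf 188) (.leaf 106))))) (.node 677 (.node 674 (.node 672 (.leaf 670) (.node 673 (.leaf 316) (.leaf 578))) (.node 675 (.leaf 518) (.node 676 (.leaf 702) (.leaf 486)))) (.node 680 (.node 678 (.leaf 269) (.node 679 (.leaf 417) (.leaf 394))) (.node 681 (.leaf 651) (.node 682 (.leaf 327) (.leaf 599)))))))

/-- A part of a table. -/
def threePos_683 : Table ℕ := (.node 706 (.node 694 (.node 688 (.node 685 (.node 684 (.leaf 169) (.leaf 679)) (.node 686 (.leaf 483) (.node 687 (.leaf 281) (.leaf 419)))) (.node 691 (.node 689 (.leaf 108) (.node 690 (.leaf 197) (.leaf 320))) (.node 692 (.leaf 570) (.node 693 (.leaf 164) (.leaf 678))))) (.node 700 (.node 697 (.node 695 (.leaf 477) (.node 696 (.leaf 286) (.leaf 413))) (.node 698 (.leaf 31) (.node 699 (.leaf 199) (.leaf 83)))) (.node 703 (.node 701 (.leaf 587) (.node 702 (.leaf 50) (.leaf 19))) (.node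 704 (.leaf 491) (.node 705 (.leaf 285) (.leaf 438)))))) (.node 717 (.node 711 (.node 708 (.node 707 (.leaf 365) (.leaf 190)) (.node 709 (.leaf 92) (.node 710 (.leaf 592) (.leaf 562)))) (.node 714 (.node 712 (.leaf 704) (.node 713 (.leaf 469) (.leaf 270))) (.node 715 (.leaf 179) (.node 716 (.leaf 113) (.leaf 654))))) (.node 723 (.node 720 (.node 718 (.leaf 319) (.node 719 (.leaf 612) (.leaf 541))) (.node 721 (.leaf 210) (.node 722 (.leaf 501) (.leaf 132)))) (.node 726 (.node 724 (.leaf 449) (.node 725 (.leaf 103) (.leaf 649))) (.node 727 (.leaf 299) (.node 728 (.leaf 617) (.leaf 523)))))))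

/-- A table. -/
def threePos : Table ℕ := (.node 364 (.node 182 (.node 91 (.node 45 threePos_0 threePos_45) (.node 136 threePos_91 threePos_136)) (.node 273 (.node 227 threePos_182 threePos_227) (.node 318 threePos_273 threePos_318))) (.node 546 (.node 455 (.node 409 threePos_364 threePos_409) (.node 500 threePos_455 threePos_500)) (.node 637 (.node 591 threePos_546 threePos_591) (.node 683 threePos_637 threePos_683))))

/-- The weights. -/
def threeWt : List ℕ := [1, 2, 3, 6, 9, 18, 27, 54, 81, 162, 243, 486]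

/-- A combination. -/
def threeT_4 : List (ℕ × ℤ) := [(0, 75719), (1, 4393), (2, 27), (3, -30326), (4, -15966), (5, 5939), (6, -16187), (7, -17578), (8, -62407), (9, -16290), (11, -54270), (12, 8792), (13, -8310), (14, -10031), (15, 8650), (16, -47893), (17, -2949), (18, 7386), (19, -7157), (20, 11431), (21, 48627), (22, -11224), (23, 41656), (24, -81413), (25, -10088), (26, 4424), (28, 8900), (29, 71326), (30, -30326), (31, -13324), (32, 3160), (33, 8877), (34, 8875), (35, 58970), (38, 17693), (40, -4393), (41, -11759), (42, -5879), (43, -54761), (45, -11162), (46, 115651), (47, -55011), (48, 72806), (49, 21441), (50, -58682), (51, -115218), (52, -20364), (53, -20610), (54, -14772), (55, 50477), (56, 28392), (57, 45506), (58, 50928), (59, 71840), (60, -36067), (61, -24027), (62, 42914), (63, -24164), (64, -5943), (65, 7386), (66, -2), (67, 1), (71, 1), (73, 1), (74, 7393), (75, -7362), (76, 2943), (77, -4424), (78, -7641)]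

/-- A combination. -/
def threeT_5 : List (ℕ × ℤ) := [(0, -117783), (1, -6832), (2, -42), (3, 47176), (4, 24843), (5, -9238), (6, 25177), (7, 27349), (8, 97074), (9, 25341), (11, 84417), (12, -13675), (13, 12922), (14, 15602), (15, -13459), (16, 74496), (17, 4590), (18, -11490), (19, 11125), (20, -17781), (21, -75644), (22, 17461), (23, -64799), (24, 126638), (25, 15693), (26, -6882), (28, -13846), (29, -110951), (30, 47176), (31, 20729), (32, -4914), (33, -13807), (34, -13806), (35, -91727), (38, -27521), (40, 6832), (41, 18292), (42, 9145), (43, 85186), (45, 17353), (46, -179894), (47, 85572), (48, -113247), (49, -33354), (50, 91285), (51, 179231), (52, 31673), (53, 32058), (54, 22980), (55, -78509), (56, -44164), (57, -70787), (58, -79214), (59, -111754), (60, 56103), (61, 37379), (62, -66749), (63, 37597), (64, 9247), (65, -11490), (66, 1), (67, -2), (71, 1), (73, 1), (74, -11501), (75, 11451), (76, -4578), (77, 6882), (78,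 11887)]

/-- A combination. -/
def threeT_6 : List (ℕ × ℤ) := [(0, -353194), (1, -20475), (2, -126), (3, 141450), (4, 74539), (5, -27720), (6, 75494), (7, 82031), (8, 291061), (9, 75999), (11, 253160), (12, -40991), (13, 38690), (14, 46772), (15, -40369), (16, 223351), (17, 13776), (18, -34461), (19, 33285), (20, -53303), (21, -226906), (22, 52382), (23, -194487), (24, 379700), (25, 47066), (26, -20643), (28, -41538), (29, -332719), (30, 141450), (31, 62181), (32, -14737), (33, -41411), (34, -41412), (35, -274986), (38, -82530), (40, 20475), (41, 54852), (42, 27426), (43, 255425), (45, 51920), (46, -539440), (47, 256597), (48, -339582), (49, -99999), (50, 273998), (51, 537486), (52, 94968), (53, 96138), (54, 68922), (55, -235400), (56, -132404), (57, -212211), (58, -237580), (59, -335035), (60, 168092), (61, 112060), (62, -200146), (63, 112845), (64, 27762), (65, -34461), (68, -2), (69, 1), (74, -34503), (75, 34335), (76, -13734),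 (77, 20643), (78, 35674)]

/-- A combination. -/
def threeT_7 : List (ℕ × ℤ) := [(0, -50452), (1, -2925), (2, -18), (3, 20202), (4, 10645), (5, -3960), (6, 10786), (7, 11717), (8, 41572), (9, 10857), (11, 36164), (12, -5858), (13, 5525), (14, 6681), (15, -5764), (16, 31901), (17, 1968), (18, -4923), (19, 4755), (20, -7613), (21, -32415), (22, 7484), (23, -27796), (24, 54238), (25, 6722), (26, -2949), (28, -5934), (29, -47527), (30, 20202), (31, 8883), (32, -2107), (33, -5916), (34, -5916), (35, -39272), (38, -11790), (40, 2925), (41, 7836), (42, 3918), (43, 36485), (45, 7416), (46, -77059), (47, 36651), (48, -48512), (49, -14280), (50, 39160), (51, 76773), (52, 13565), (53, 13734), (54, 9846), (55, -33632), (56, -18908), (57, -30311), (58, -33942), (59, -47845), (60, 23995), (61, 16000), (62, -28594), (63, 16123), (64, 3966), (65, -4923), (68, 1), (69, -2), (74, -4929), (75, 4905), (76, -1962), (77, 2949), (78, 5098)]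

/-- A combination. -/
def threeT_8 : List (ℕ × ℤ) := [(0, -616651), (1, -35747), (2, -220), (3, 246948), (4, 130138), (5, -48400), (6, 131811), (7, 143222), (8, 508154), (9, 132691), (11, 442006), (12, -71570), (13, 67536), (14, 81656), (15, -70477), (16, 389940), (17, 24055), (18, -60168), (19, 58103), (20, -93060), (21, -396179), (22, 91462), (23, -339622), (24, 662923), (25, 82172), (26, -36043), (28, -72526), (29, -580904), (30, 246948), (31, 108569), (32, -25737), (33, -72304), (34, -72306), (35, -480071), (38, -144094), (40, 35747), (41, 95770), (42, 47885), (43, 445946), (45, 90628), (46, -941833), (47, 447994), (48, -592892), (49, -174573), (50, 478470), (51, 938401), (52, 165801), (53, 167854), (54, 120336), (55, -411003), (56, -231151), (57, -370491), (58, -414814), (59, -584906), (60, 293413), (61, 195625), (62, -349447), (63, 197047), (64, 48476), (65, -60168), (70, -2), (71, 1), (73, 1), (74, -60243), (75, 59947),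 (76, -23980), (77, 36043), (78, 62294)]

/-- A combination. -/
def threeT_9 : List (ℕ × ℤ) := [(0, 131732), (1, 7636), (2, 47), (3, -52752), (4, -27803), (5, 10340), (6, -28158), (7, -30598), (8, -108550), (9, -28346), (11, -94424), (12, 15289), (13, -14424), (14, -17443), (15, 15056), (16, -83296), (17, -5141), (18, 12854), (19, -12409), (20, 19881), (21, 84637), (22, -19540), (23, 72560), (24, -141615), (25, -17554), (26, 7700), (28, 15494), (29, 124096), (30, -52752), (31, -23194), (32, 5499), (33, 15446), (34, 15447), (35, 102549), (38, 30782), (40, -7636), (41, -20460), (42, -10230), (43, -95265), (45, -19355), (46, 201198), (47, -95702), (48, 126655), (49, 37293), (50, -102225), (51, -200468), (52, -35418), (53, -35858), (54, -25708), (55, 87798), (56, 49379), (57, 79145), (58, 88613), (59, 124943), (60, -62671), (61, -41789), (62, 74649), (63, -42101), (64, -10357), (65, 12854), (70, 1), (71, -2), (73, 1), (74, 12870), (75,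 -12806), (76, 5123), (77, -7700), (78, -13309)]

/-- A combination. -/
def threeT_10 : List (ℕ × ℤ) := [(8, 1), (15, -2), (24, -2), (25, -2), (35, -2), (49, -3), (51, 3), (58, 1), (59, -1), (60, 4), (72, -2), (73, 1)]

/-- A combination. -/
def threeT_11 : List (ℕ × ℤ) := [(8, -1), (15, 1), (16, -1), (24, 1), (25, 1), (35, 1), (59, 3), (60, -2), (72, 1), (73, -2)]

/-- A combination. -/
def threeT_13 : List (ℕ × ℤ) := [(0, 1)]

/-- A combination. -/
def threeT_15 : List (ℕ × ℤ) := [(3, 1)]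

/-- A combination. -/
def threeT_16 : List (ℕ × ℤ) := [(0, 173761), (1, 10072), (2, 62), (3, -69580), (4, -36672), (5, 13640), (6, -37143), (7, -40357), (8, -143182), (9, -37390), (11, -124553), (12, 20166), (13, -19024), (14, -23008), (15, 19858), (16, -109872), (17, -6780), (18, 16955), (19, -16366), (20, 26222), (21, 111645), (22, -25775), (23, 95725), (24, -186794), (25, -23155), (26, 10157), (28, 20438), (29, 163689), (30, -69580), (31, -30594), (32, 7254), (33, 20376), (34, 20376), (35, 135262), (38, 40604), (40, -10072), (41, -26987), (42, -13494), (43, -125655), (45, -25526), (46, 265393), (47, -126235), (48, 167067), (49, 49185), (50, -134862), (51, -264422), (52, -46720), (53, -47300), (54, -33910), (55, 115814), (56, 65131), (57, 104390), (58, 116894), (59, 164800), (60, -82653), (61, -55116), (62, 98469), (63, -55536), (64, -13663), (65, 16955), (66, -1), (67, -1), (70, 1), (74, 16977), (75, -16892), (76, 6758), (77,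 -10157), (78, -17557)]

/-- A combination. -/
def threeT_17 : List (ℕ × ℤ) := [(0, 84093), (1, 4875), (2, 30), (3, -33678), (4, -17746), (5, 6600), (6, -17975), (7, -19531), (8, -69299), (9, -18095), (11, -60276), (12, 9760), (13, -9212), (14, -11136), (15, 9611), (16, -53178), (17, -3280), (18, 8205), (19, -7925), (20, 12691), (21, 54025), (22, -12472), (23, 46308), (24, -90404), (25, -11206), (26, 4915), (28, 9890), (29, 79218), (30, -33678), (31, -14805), (32, 3509), (33, 9860), (34, 9860), (35, 65471), (38, 19650), (40, -4875), (41, -13060), (42, -6530), (43, -60815), (45, -12362), (46, 128438), (47, -61094), (48, 80853), (49, 23808), (50, -65240), (51, -127970), (52, -22611), (53, -22890), (54, -16410), (55, 56048), (56, 31524), (57, 50526), (58, 56567), (59, 79767), (60, -40019), (61, -26679), (62, 47654), (63, -26868), (64, -6610), (65, 8205), (74, 8215), (75, -8175), (76, 3270), (77, -4915), (78, -8494)]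

/-- A combination. -/
def threeT_18 : List (ℕ × ℤ) := [(0, -403646), (1, -23400), (2, -144), (3, 161652), (4, 85184), (5, -31680), (6, 86280), (7, 93748), (8, 332633), (9, 86856), (11, 289324), (12, -46849), (13, 44215), (14, 53452), (15, -46133), (16, 255252), (17, 15744), (18, -39384), (19, 38040), (20, -60916), (21, -259321), (22, 59866), (23, -222283), (24, 433938), (25, 53788), (26, -23592), (28, -47472), (29, -380246), (30, 161652), (31, 71064), (32, -16844), (33, -47327), (34, -47328), (35, -314258), (38, -94320), (40, 23400), (41, 62688), (42, 31344), (43, 291910), (45, 59336), (46, -616499), (47, 293248), (48, -388094), (49, -114279), (50, 313158), (51, 614259), (52, 108533), (53, 109872), (54, 78768), (55, -269032), (56, -151312), (57, -242522), (58, -271522), (59, -382880), (60, 192087), (61, 128060), (62, -228740), (63, 128968), (64, 31728), (65, -39384), (68, -1), (69, -1), (74, -39432), (75, 39240), (76, -15696),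 (77, 23592), (78, 40772)]

/-- A combination. -/
def threeT_19 : List (ℕ × ℤ) := [(13, 1)]

/-- A combination. -/
def threeT_20 : List (ℕ × ℤ) := [(0, -484919), (1, -28111), (2, -173), (3, 194196), (4, 102335), (5, -38060), (6, 103653), (7, 112624), (8, 399603), (9, 104345), (11, 347582), (12, -56281), (13, 53112), (14, 64213), (15, -55420), (16, 306643), (17, 18914), (18, -47314), (19, 45694), (20, -73180), (21, -311542), (22, 71922), (23, -267062), (24, 521309), (25, 64619), (26, -28343), (28, -57032), (29, -456808), (30, 194196), (31, 85375), (32, -20238), (33, -56858), (34, -56859), (35, -377521), (38, -113312), (40, 28111), (41, 75310), (42, 37655), (43, 350681), (45, 71273), (46, -740635), (47, 352292), (48, -466237), (49, -137280), (50, 376245), (51, 737933), (52, 130383), (53, 131996), (54, 94628), (55, -323205), (56, -181772), (57, -291346), (58, -326201), (59, -459960), (60, 230740), (61, 153836), (62, -274797), (63,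 154946), (64, 38119), (65, -47314), (70, -1), (71, -1), (72, 1), (74, -47373), (75, 47141), (76, -18857), (77, 28343), (78, 48985)]

/-- A combination. -/
def threeT_21 : List (ℕ × ℤ) := [(19, 1), (55, -1)]

/-- A combination. -/
def threeT_22 : List (ℕ × ℤ) := [(8, 1), (15, -1), (24, -1), (25, -1), (35, -2), (49, -3), (51, 3), (59, 1), (60, 3), (72, -1), (73, -1)]

/-- A combination. -/
def threeT_23 : List (ℕ × ℤ) := [(24, 1)]

/-- A combination. -/
def threeT_24 : List (ℕ × ℤ) := [(0, -8383), (1, -485), (2, -3), (3, 3349), (4, 1770), (5, -660), (6, 1793), (7, 1947), (8, 6898), (9, 1804), (11, 6013), (12, -972), (13, 910), (14, 1108), (15, -955), (16, 5293), (17, 329), (18, -819), (19, 783), (20, -1264), (21, -5397), (22, 1247), (23, -4651), (24, 9006), (25, 1118), (26, -491), (28, -988), (29, -7898), (30, 3349), (31, 1478), (32, -352), (33, -985), (34, -985), (35, -6506), (38, -1960), (40, 485), (41, 1303), (42, 652), (43, 6056),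 (45, 1217), (46, -12806), (47, 6087), (48, -8060), (49, -2361), (50, 6555), (51, 12749), (52, 2252), (53, 2284), (54, 1638), (55, -5591), (56, -3136), (57, -5026), (58, -5649), (59, -7930), (60, 3952), (61, 2648), (62, -4753), (63, 2695), (64, 663), (65, -819), (67, 1), (68, 1), (72, 1), (74, -821), (75, 815), (76, -327), (77, 491), (78, 852)]

/-- A combination. -/
def threeT_25 : List (ℕ × ℤ) := [(0, -605472), (1, -35102), (2, -216), (3, 242472), (4, 127767), (5, -47518), (6, 129422), (7, 140617), (8, 498948), (9, 130281), (11, 433989), (12, -70275), (13, 66329), (14, 80180), (15, -69194), (16, 382880), (17, 23616), (18, -59076), (19, 57071), (20, -91379), (21, -388979), (22, 89798), (23, -333422), (24, 650913), (25, 80682), (26, -35388), (28, -71205), (29, -570370), (30, 242472), (31, 106593), (32, -25268), (33, -70992), (34, -70992), (35, -471383), (36, -1), (38, -141481), (40, 35102), (41, 94034), (42, 47017), (43, 437863),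 (45, 89016), (46, -924758), (47, 439873), (48, -582145), (49, -171408), (50, 469733), (51, 921375), (52, 162800), (53, 164810), (54, 118152), (55, -403559), (56, -226972), (57, -363787), (58, -407284), (59, -574319), (60, 288124), (61, 192085), (62, -343117), (63, 193448), (64, 47589), (65, -59076), (66, 1), (71, 1), (73, 1), (74, -59147), (75, 58861), (76, -23544), (77, 35388), (78, 61157)]

/-- A combination. -/
def threeT_26 : List (ℕ × ℤ) := [(0, 285918), (1, 16575), (2, 102), (3, -114506), (4, -60339), (5, 22440), (6, -61115), (7, -66406), (8, -235617), (9, -61524), (11, -204938), (12, 33185), (13, -31320), (14, -37862), (15, 32678), (16, -180805), (17, -11152), (18, 27897), (19, -26945), (20, 43149), (21, 183686), (22, -42405), (23, 157448), (24, -307375), (25, -38100), (26, 16711), (28, 33626), (29, 269343), (30, -114506), (31, -50338), (32, 11931), (33, 33523), (34, 33524), (35, 222602), (38, 66810), (40, -16575), (41,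 -44404), (42, -22202), (43, -206772), (45, -42030), (46, 436689), (47, -207719), (48, 274902), (49, 80949), (50, -221817), (51, -435103), (52, -76877), (53, -77826), (54, -55794), (55, 190564), (56, 107180), (57, 171789), (58, 192328), (59, 271210), (60, -136066), (61, -90710), (62, 162024), (63, -91352), (64, -22474), (65, 27897), (66, 1), (69, 1), (74, 27931), (75, -27795), (76, 11118), (77, -16711), (78, -28880)]

/-- A combination. -/
def threeT_27 : List (ℕ × ℤ) := [(0, 479374), (1, 27793), (2, 171), (3, -191988), (4, -101154), (5, 37619), (6, -102466), (7, -111330), (8, -395052), (9, -103148), (11, -343595), (12, 55640), (13, -52530), (14, -63484), (15, 54787), (16, -303154), (17, -18693), (18, 46770), (19, -45197), (20, 72349), (21, 307949), (22, -71089), (23, 263922), (24, -515358), (25, -63877), (26, 28016), (28, 56372), (29, 451581), (30, -191988), (31, -84390), (32, 20002), (33, 56203), (34, 56203), (35, 373245), (37,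 -1), (38, 112013), (40, -27793), (41, -74447), (42, -37223), (43, -346680), (45, -70500), (46, 732157), (47, -348267), (48, 460904), (49, 135729), (50, -371816), (51, -729491), (52, -128898), (53, -130482), (54, -93540), (55, 319505), (56, 179712), (57, 288038), (58, 322448), (59, 454742), (60, -228181), (61, -152097), (62, 271652), (63, -153129), (64, -37671), (65, 46770), (67, 1), (71, 1), (72, 1), (74, 46825), (75, -46602), (76, 18639), (77, -28016), (78, -48411)]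

/-- A combination. -/
def threeT_28 : List (ℕ × ℤ) := [(0, 269096), (1, 15600), (2, 96), (3, -107766), (4, -56788), (5, 21120), (6, -57520), (7, -62498), (8, -221753), (9, -57904), (11, -192882), (12, 31233), (13, -29476), (14, -35634), (15, 30755), (16, -170166), (17, -10496), (18, 26256), (19, -25360), (20, 40610), (21, 172881), (22, -39911), (23, 148193), (24, -289290), (25, -35857), (26, 15728), (28, 31648), (29, 253496), (30, -107766), (31, -47376), (32, 11230), (33, 31551), (34, 31552), (35, 209502), (38, 62880), (40, -15600), (41, -41792), (42, -20896), (43, -194605), (45, -39556), (46, 410998), (47, -195497), (48, 258729), (49, 76185), (50, -208778), (51, -409503), (52, -72355), (53, -73248), (54, -52512), (55, 179356), (56, 100872), (57, 161679), (58, 181015), (59, 255248), (60, -128053), (61, -85370), (62, 152494), (63, -85980), (64, -21152), (65, 26256), (69, 1), (72, 1), (74, 26288), (75, -26160), (76, 10464), (77,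 -15728), (78, -27182)]

/-- A combination. -/
def threeT_29 : List (ℕ × ℤ) := [(0, 50457), (1, 2925), (2, 18), (3, -20208), (4, -10649), (5, 3960), (6, -10785), (7, -11719), (8, -41581), (9, -10857), (11, -36166), (12, 5856), (13, -5528), (14, -6682), (15, 5767), (16, -31908), (17, -1968), (18, 4923), (19, -4755), (20, 7615), (21, 32415), (22, -7483), (23, 27783), (24, -54243), (25, -6724), (26, 2949), (28, 5934), (29, 47532), (30, -20208), (31, -8883), (32, 2105), (33, 5916), (34, 5916), (35, 39285), (38, 11791), (40, -2925), (41, -7836), (42, -3918), (43, -36490), (45, -7419), (46, 77063), (47, -36657), (48, 48512), (49, 14286), (50, -39142), (51, -76785), (52, -13567), (53, -13734), (54, -9846), (55, 33628), (56, 18916), (57, 30317), (58, 33940), (59, 47863), (60, -24015), (61, -16009), (62, 28592), (63, -16120), (64, -3966), (65, 4923), (68, 1), (74, 4929), (75, -4905), (76, 1962), (77, -2949), (78, -5096)]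

/-- A combination. -/
def threeT_30 : List (ℕ × ℤ) := [(0, 403633), (1, 23399), (2, 144), (3, -161643), (4, -85181), (5, 31680), (6, -86278), (7, -93745), (8, -332620), (9, -86854), (11, -289318), (12, 46847), (13, -44209), (14, -53449), (15, 46131), (16, -255242), (17, -15743), (18, 39383), (19, -38036), (20, 60913), (21, 259319), (22, -59866), (23, 222296), (24, -433923), (25, -53786), (26, 23592), (28, 47472), (29, 380234), (30, -161643), (31, -71064), (32, 16845), (33, 47327), (34, 47328), (35, 314240), (38, 94318), (40, -23399), (41, -62686), (42, -31343), (43, -291897), (45, -59326), (46, 616485), (47, -293238), (48, 388083), (49, 114270), (50, -313177), (51, -614238), (52, -108527), (53, -109870), (54, -78766), (55, 269030), (56, 151301), (57, 242508), (58, 271522), (59, 382859), (60, -192064), (61, -128049), (62, 228734), (63, -128973), (64, -31729), (65, 39383), (71, 1), (74, 39432), (75, -39239), (76, 15696), (77, -23592),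 (78, -40774)]

/-- A combination. -/
def threeT_31 : List (ℕ × ℤ) := [(0, 967020), (1, 56058), (2, 345), (3, -387258), (4, -204079), (5, 75900), (6, -206704), (7, -224596), (8, -796878), (9, -208084), (11, -693146), (12, 112235), (13, -105908), (14, -128051), (15, 110520), (16, -611497), (17, -37720), (18, 94354), (19, -91119), (20, 145935), (21, 621281), (22, -143429), (23, 532594), (24, -1039582), (25, -128860), (26, 56522), (28, 113734), (29, 910962), (30, -387258), (31, -170256), (32, 40359), (33, 113386), (34, 113389), (35, 752838), (38, 225966), (39, -1), (40, -56058), (41, -150184), (42, -75092), (43, -699321), (45, -142121), (46, 1476966), (47, -702534), (48, 929763), (49, 273762), (50, -750335), (51, -1471583), (52, -260006), (53, -263226), (54, -188708), (55, 644535), (56, 362483), (57, 580993), (58, 650509), (59, 917235), (60, -460122), (61, -306773), (62, 547997), (63, -309005), (64, -76019), (65, 94354), (70, 1), (74,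 94472), (75, -94008), (76, 37605), (77, -56522), (78, -97689)]

/-- A combination. -/
def threeT_32 : List (ℕ × ℤ) := [(0, 252281), (1, 14625), (2, 90), (3, -101034), (4, -53241), (5, 19800), (6, -53925), (7, -58593), (8, -207898), (9, -54285), (11, -180828), (12, 29280), (13, -27635), (14, -33408), (15, 28834), (16, -159534), (17, -9840), (18, 24615), (19, -23775), (20, 38073), (21, 162076), (22, -37416), (23, 138923), (24, -271213), (25, -33618), (26, 14745), (28, 29670), (29, 237656), (30, -101034), (31, -44415), (32, 10527), (33, 29579), (34, 29580), (35, 196415), (38, 58950), (40, -14625), (41, -39180), (42, -19590), (43, -182445), (45, -37086), (46, 385313), (47, -183282), (48, 242559), (49, 71427), (50, -195718), (51, -383916), (52, -67834), (53, -68670), (54, -49230), (55, 168144), (56, 94572), (57, 151578), (58, 169701), (59, 239304), (60, -120060), (61, -80040), (62, 142962), (63, -80604), (64, -19830), (65, 24615), (68,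 1), (73, 1), (74, 24645), (75, -24525), (76, 9810), (77, -14745), (78, -25482)]

/-- A combination. -/
def threeT_33 : List (ℕ × ℤ) := [(0, -16821), (1, -975), (2, -6), (3, 6738), (4, 3550), (5, -1320), (6, 3595), (7, 3906), (8, 13863), (9, 3619), (11, 12056), (12, -1951), (13, 1844), (14, 2228), (15, -1923), (16, 10638), (17, 656), (18, -1641), (19, 1585), (20, -2539), (21, -10805), (22, 2494), (23, -9256), (24, 18082), (25, 2242), (26, -983), (28, -1978), (29, -15846), (30, 6738), (31, 2961), (32, -701), (33, -1972), (34, -1972), (35, -13099), (38, -3930), (40, 976), (41, 2612), (42, 1306), (43, 12165), (45, 2473), (46, -25690), (47, 12222), (48, -16172), (49, -4764), (50, 13040), (51, 25597), (52, 4523), (53, 4578), (54, 3282), (55, -11208), (56, -6308), (57, -10108), (58, -11313), (59, -15959), (60, 8011), (61, 5339), (62, -9530), (63, 5372), (64, 1322), (65, -1641), (69, 1), (74, -1643), (75, 1635), (76, -654), (77, 983),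 (78, 1698)]

/-- A combination. -/
def threeT_34 : List (ℕ × ℤ) := [(0, 372804), (1, 21612), (2, 133), (3, -149298), (4, -78675), (5, 29260), (6, -79688), (7, -86586), (8, -307217), (9, -80220), (11, -267220), (12, 43269), (13, -40834), (14, -49367), (15, 42609), (16, -235748), (17, -14541), (18, 36375), (19, -35131), (20, 56261), (21, 239511), (22, -55293), (23, 205312), (24, -400782), (25, -49677), (26, 21790), (28, 43846), (29, 351192), (30, -149298), (31, -65636), (32, 15559), (33, 43712), (34, 43713), (35, 290243), (38, 87114), (40, -21612), (41, -57898), (42, -28949), (43, -269604), (45, -54797), (46, 569399), (47, -270842), (48, 358441), (49, 105546), (50, -289249), (51, -567327), (52, -100238), (53, -101478), (54, -72750), (55, 248480), (56, 139746), (57, 223988), (58, 250781), (59, 353620), (60, -177402), (61, -118271), (62, 211263), (63, -119121), (64, -29305), (65, 36375), (70, 1), (72, 1), (74, 36420), (75, -36242),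 (76, 14497), (77, -21790), (78, -37659)]

/-- A combination. -/
def threeT_35 : List (ℕ × ℤ) := [(0, 109332), (1, 6339), (2, 39), (3, -43788), (4, -23071), (5, 8580), (6, -23370), (7, -25392), (8, -90104), (9, -23526), (11, -78367), (12, 12690), (13, -11981), (14, -14479), (15, 12496), (16, -69144), (17, -4262), (18, 10667), (19, -10308), (20, 16500), (21, 70236), (22, -16214), (23, 60197), (24, -117542), (25, -14569), (26, 6390), (28, 12858), (29, 102993), (30, -43788), (31, -19248), (32, 4562), (33, 12819), (34, 12819), (35, 85130), (38, 25548), (40, -6339), (41, -16979), (42, -8489), (43, -79069), (45, -16079), (46, 166990), (47, -79432), (48, 105121), (49, 30957), (50, -84806), (51, -166382), (52, -29398), (53, -29760), (54, -21334), (55, 72875), (56, 40985), (57, 65693), (58, 73546), (59, 103717), (60, -52043), (61, -34690), (62, 61957), (63, -34926), (64, -8592), (65, 10667), (71, 1), (74, 10680), (75, -10629), (76, 4251),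 (77, -6390), (78, -11042)]

/-- A combination. -/
def threeT_36 : List (ℕ × ℤ) := [(0, 168186), (1, 9750), (2, 60), (3, -67356), (4, -35494), (5, 13200), (6, -35950), (7, -39062), (8, -138599), (9, -36190), (11, -120552), (12, 19520), (13, -18424), (14, -22272), (15, 19223), (16, -106356), (17, -6560), (18, 16410), (19, -15850), (20, 25382), (21, 108050), (22, -24944), (23, 92616), (24, -180808), (25, -22412), (26, 9830), (28, 19780), (29, 158436), (30, -67356), (31, -29610), (32, 7018), (33, 19720), (34, 19720), (35, 130944), (38, 39300), (40, -9750), (41, -26120), (42, -13060), (43, -121630), (45, -24724), (46, 256876), (47, -122188), (48, 161706), (49, 47619), (50, -130480), (51, -255945), (52, -45222), (53, -45780), (54, -32820), (55, 112096), (56, 63048), (57, 101052), (58, 113135), (59, 159535), (60, -80041), (61, -53360), (62, 95308), (63, -53736), (64, -13220), (65, 16410), (73, 1), (74, 16430), (75, -16350), (76, 6540),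 (77, -9830), (78, -16988)]

/-- A combination. -/
def threeT_37 : List (ℕ × ℤ) := [(8, -1), (15, 1), (24, 1), (25, 1), (35, 1), (49, 2), (51, -2), (60, -2), (72, 1)]

/-- A combination. -/
def threeT_38 : List (ℕ × ℤ) := [(0, 33636), (1, 1950), (2, 12), (3, -13469), (4, -7098), (5, 2640), (6, -7190), (7, -7812), (8, -27718), (9, -7238), (11, -24110), (12, 3904), (13, -3684), (14, -4454), (15, 3844), (16, -21270), (17, -1312), (18, 3282), (19, -3170), (20, 5076), (21, 21610), (22, -4989), (23, 18526), (24, -36160), (25, -4482), (26, 1966), (28, 3956), (29, 31686), (30, -13469), (31, -5922), (32, 1404), (33, 3944), (34, 3944), (35, 26186), (38, 7860), (40, -1950), (41, -5224), (42, -2612), (43, -24324), (45, -4944), (46, 51374), (47, -24436), (48, 32340), (49, 9522), (50, -26100), (51, -51186), (52, -9044), (53, -9156), (54, -6564), (55, 22420), (56, 12608), (57, 20208), (58, 22628), (59, 31904), (60, -16004), (61, -10670), (62,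 19062), (63, -10748), (64, -2644), (65, 3282), (74, 3286), (75, -3270), (76, 1308), (77, -1966), (78, -3398)]

/-- A combination. -/
def threeT_39 : List (ℕ × ℤ) := [(0, 67272), (1, 3900), (2, 24), (3, -26938), (4, -14196), (5, 5280), (6, -14380), (7, -15624), (8, -55436), (9, -14476), (11, -48220), (12, 7808), (13, -7368), (14, -8908), (15, 7688), (16, -42540), (17, -2624), (18, 6564), (19, -6340), (20, 10152), (21, 43220), (22, -9978), (23, 37052), (24, -72320), (25, -8964), (26, 3932), (28, 7912), (29, 63372), (30, -26938), (31, -11844), (32, 2808), (33, 7888), (34, 7888), (35, 52372), (38, 15720), (40, -3900), (41, -10448), (42, -5224), (43, -48648), (44, -1), (45, -9888), (46, 102748), (47, -48872), (48, 64680), (49, 19044), (50, -52200), (51, -102372), (52, -18088), (53, -18312), (54, -13128), (55, 44840), (56, 25216), (57, 40416), (58, 45256), (59, 63808), (60, -32008), (61, -21340), (62, 38124), (63, -21496), (64, -5288),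 (65, 6564), (74, 6572), (75, -6540), (76, 2616), (77, -3932), (78, -6796)]

/-- A combination. -/
def threeT_40 : List (ℕ × ℤ) := [(0, -33636), (1, -1950), (2, -12), (3, 13470), (4, 7098), (5, -2640), (6, 7190), (7, 7812), (8, 27718), (9, 7238), (11, 24110), (12, -3904), (13, 3684), (14, 4454), (15, -3844), (16, 21270), (17, 1312), (18, -3282), (19, 3170), (20, -5076), (21, -21610), (22, 4989), (23, -18526), (24, 36161), (25, 4482), (26, -1966), (28, -3956), (29, -31686), (30, 13470), (31, 5922), (32, -1404), (33, -3944), (34, -3944), (35, -26186), (38, -7860), (40, 1950), (41, 5224), (42, 2612), (43, 24325), (45, 4944), (46, -51375), (47, 24437), (48, -32341), (49, -9522), (50, 26100), (51, 51186), (52, 9044), (53, 9156), (54, 6564), (55, -22420), (56, -12608), (57, -20209), (58, -22627), (59, -31904), (60, 16004), (61, 10670), (62, -19062), (63, 10748), (64, 2644), (65, -3282), (74, -3286), (75, 3270), (76, -1308), (77, 1966),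 (78, 3398)]

/-- A combination. -/
def threeT_41 : List (ℕ × ℤ) := [(0, 33636), (1, 1950), (2, 12), (3, -13470), (4, -7098), (5, 2640), (6, -7190), (7, -7812), (8, -27718), (9, -7238), (11, -24110), (12, 3904), (13, -3684), (14, -4454), (15, 3844), (16, -21270), (17, -1312), (18, 3282), (19, -3170), (20, 5076), (21, 21610), (22, -4989), (23, 18526), (24, -36161), (25, -4482), (26, 1966), (28, 3956), (29, 31686), (30, -13470), (31, -5922), (32, 1404), (33, 3944), (34, 3944), (35, 26186), (38, 7860), (40, -1950), (41, -5224), (42, -2612), (43, -24325), (45, -4944), (46, 51374), (47, -24436), (48, 32341), (49, 9522), (50, -26100), (51, -51186), (52, -9044), (53, -9156), (54, -6564), (55, 22420), (56, 12608), (57, 20209), (58, 22627), (59, 31904), (60, -16004), (61, -10670), (62, 19062), (63, -10748), (64, -2644), (65, 3282), (74, 3286), (75, -3270), (76, 1308), (77, -1966), (78, -3398)]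

/-- A combination. -/
def threeT_42 : List (ℕ × ℤ) := [(0, 84093), (1, 4875), (2, 30), (3, -33678), (4, -17747), (5, 6600), (6, -17975), (7, -19531), (8, -69300), (9, -18095), (11, -60276), (12, 9760), (13, -9212), (14, -11136), (15, 9612), (16, -53178), (17, -3280), (18, 8205), (19, -7925), (20, 12691), (21, 54025), (22, -12472), (23, 46308), (24, -90403), (25, -11205), (26, 4915), (28, 9890), (29, 79218), (30, -33678), (31, -14805), (32, 3509), (33, 9860), (34, 9860), (35, 65473), (38, 19650), (40, -4875), (41, -13060), (42, -6530), (43, -60815), (45, -12362), (46, 128438), (47, -61094), (48, 80853), (49, 23811), (50, -65240), (51, -127974), (52, -22611), (53, -22890), (54, -16410), (55, 56048), (56, 31524), (57, 50526), (58, 56567), (59, 79768), (60, -40022), (61, -26680), (62, 47654), (63, -26868), (64, -6610), (65, 8205), (72, 1), (74, 8215), (75, -8175), (76, 3270), (77, -4915), (78, -8494)]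

/-- A combination. -/
def threeT_43 : List (ℕ × ℤ) := [(49, 1), (51, -1), (59, -1), (73, 1)]

/-- A combination. -/
def threeT_44 : List (ℕ × ℤ) := [(0, 67272), (1, 3900), (2, 24), (3, -26938), (4, -14196), (5, 5280), (6, -14380), (7, -15624), (8, -55436), (9, -14475), (11, -48220), (12, 7808), (13, -7368), (14, -8908), (15, 7688), (16, -42540), (17, -2624), (18, 6564), (19, -6340), (20, 10152), (21, 43220), (22, -9978), (23, 37052), (24, -72320), (25, -8964), (26, 3932), (28, 7912), (29, 63372), (30, -26938), (31, -11844), (32, 2808), (33, 7888), (34, 7888), (35, 52372), (38, 15720), (40, -3900), (41, -10448), (42, -5224), (43, -48648), (45, -9888), (46, 102748), (47, -48872), (48, 64680), (49, 19044), (50, -52200), (51, -102372), (52, -18088), (53, -18312), (54, -13128), (55, 44840), (56, 25216), (57, 40416), (58, 45256), (59, 63808), (60, -32008), (61, -21340), (62, 38124), (63, -21496), (64, -5288), (65, 6564), (74, 6572),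 (75, -6540), (76, 2616), (77, -3932), (78, -6796)]

/-- A combination. -/
def threeT_45 : List (ℕ × ℤ) := [(0, 134544), (1, 7800), (2, 48), (3, -53876), (4, -28392), (5, 10560), (6, -28760), (7, -31248), (8, -110872), (9, -28952), (10, 1), (11, -96440), (12, 15616), (13, -14736), (14, -17816), (15, 15376), (16, -85080), (17, -5248), (18, 13128), (19, -12680), (20, 20304), (21, 86440), (22, -19956), (23, 74104), (24, -144640), (25, -17928), (26, 7864), (28, 15824), (29, 126744), (30, -53876), (31, -23688), (32, 5616), (33, 15776), (34, 15776), (35, 104744), (38, 31440), (40, -7800), (41, -20896), (42, -10448), (43, -97296), (44, -2), (45, -19776), (46, 205496), (47, -97744), (48, 129360), (49, 38088), (50, -104400), (51, -204744), (52, -36176), (53, -36624), (54, -26256), (55, 89680), (56, 50432), (57, 80832), (58, 90512), (59, 127616), (60, -64016), (61, -42680), (62, 76248), (63, -42992), (64, -10576), (65, 13128), (74, 13144),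 (75, -13080), (76, 5232), (77, -7864), (78, -13592)]

/-- A combination. -/
def threeT_46 : List (ℕ × ℤ) := [(0, -67272), (1, -3900), (2, -24), (3, 26940), (4, 14196), (5, -5280), (6, 14380), (7, 15624), (8, 55436), (9, 14476), (11, 48221), (12, -7808), (13, 7368), (14, 8908), (15, -7688), (16, 42540), (17, 2624), (18, -6564), (19, 6340), (20, -10152), (21, -43220), (22, 9978), (23, -37052), (24, 72322), (25, 8964), (26, -3932), (28, -7912), (29, -63372), (30, 26940), (31, 11844), (32, -2808), (33, -7888), (34, -7888), (35, -52372), (38, -15720), (40, 3900), (41, 10448), (42, 5224), (43, 48650), (45, 9888), (46, -102750), (47, 48874), (48, -64682), (49, -19044), (50, 52200), (51, 102372), (52, 18088), (53, 18312), (54, 13128), (55, -44840), (56, -25216), (57, -40418), (58, -45254), (59, -63808), (60, 32008), (61, 21340), (62, -38124), (63, 21496), (64, 5288), (65, -6564), (74, -6572), (75, 6540), (76, -2616), (77, 3932), (78, 6796)]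

/-- A combination. -/
def threeT_47 : List (ℕ × ℤ) := [(0, 67272), (1, 3900), (2, 24), (3, -26940), (4, -14196), (5, 5280), (6, -14380), (7, -15624), (8, -55436), (9, -14476), (11, -48220), (12, 7809), (13, -7368), (14, -8908), (15, 7688), (16, -42540), (17, -2624), (18, 6564), (19, -6340), (20, 10152), (21, 43220), (22, -9978), (23, 37052), (24, -72322), (25, -8964), (26, 3932), (28, 7912), (29, 63372), (30, -26940), (31, -11844), (32, 2808), (33, 7888), (34, 7888), (35, 52372), (38, 15720), (40, -3900), (41, -10448), (42, -5224), (43, -48650), (45, -9888), (46, 102748), (47, -48872), (48, 64682), (49, 19044), (50, -52200), (51, -102372), (52, -18088), (53, -18312), (54, -13128), (55, 44840), (56, 25216), (57, 40418), (58, 45254), (59, 63808), (60, -32008), (61, -21340), (62, 38124), (63, -21496), (64, -5288), (65, 6564), (74, 6572), (75, -6540), (76, 2616), (77, -3932), (78, -6796)]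

/-- A combination. -/
def threeT_48 : List (ℕ × ℤ) := [(0, 84095), (1, 4875), (2, 30), (3, -33678), (4, -17747), (5, 6600), (6, -17975), (7, -19531), (8, -69299), (9, -18095), (11, -60276), (12, 9760), (13, -9212), (14, -11136), (15, 9611), (16, -53178), (17, -3280), (18, 8205), (19, -7925), (20, 12691), (21, 54026), (22, -12472), (23, 46308), (24, -90404), (25, -11206), (26, 4915), (28, 9890), (29, 79220), (30, -33678), (31, -14805), (32, 3509), (33, 9860), (34, 9860), (35, 65471), (38, 19650), (40, -4875), (41, -13060), (42, -6530), (43, -60815), (45, -12362), (46, 128438), (47, -61094), (48, 80853), (49, 23808), (50, -65240), (51, -127971), (52, -22611), (53, -22890), (54, -16410), (55, 56048), (56, 31524), (57, 50526), (58, 56567), (59, 79768), (60, -40019), (61, -26680), (62, 47654), (63, -26868), (64, -6610), (65, 8205), (74, 8215), (75, -8175), (76, 3270), (77, -4915), (78, -8494)]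

/-- A combination. -/
def threeT_49 : List (ℕ × ℤ) := [(0, 168190), (1, 9750), (2, 60), (3, -67356), (4, -35494), (5, 13200), (6, -35950), (7, -39062), (8, -138598), (9, -36190), (11, -120552), (12, 19520), (13, -18424), (14, -22272), (15, 19222), (16, -106356), (17, -6560), (18, 16410), (19, -15850), (20, 25382), (21, 108052), (22, -24944), (23, 92616), (24, -180808), (25, -22412), (26, 9830), (28, 19780), (29, 158440), (30, -67356), (31, -29610), (32, 7018), (33, 19720), (34, 19720), (35, 130942), (38, 39300), (40, -9750), (41, -26120), (42, -13060), (43, -121630), (45, -24724), (46, 256876), (47, -122188), (48, 161706), (49, 47616), (50, -130480), (51, -255942), (52, -45222), (53, -45781), (54, -32820), (55, 112096), (56, 63048), (57, 101052), (58, 113134), (59, 159536), (60, -80038), (61, -53360), (62, 95308), (63, -53736), (64, -13220), (65, 16410), (74, 16430), (75, -16350), (76, 6540), (77, -9830), (78, -16988)]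

/-- A combination. -/
def threeT_50 : List (ℕ × ℤ) := [(0, -2807), (1, -163), (2, -1), (3, 1125), (4, 592), (5, -220), (6, 600), (7, 652), (8, 2315), (9, 604), (11, 2012), (12, -326), (13, 309), (14, 372), (15, -321), (16, 1777), (17, 109), (18, -274), (19, 266), (20, -424), (21, -1802), (22, 416), (23, -1542), (24, 3019), (25, 374), (26, -164), (28, -330), (29, -2644), (30, 1125), (31, 494), (32, -117), (33, -329), (34, -329), (35, -2188), (38, -656), (40, 163), (41, 436), (42, 218), (43, 2031), (45, 415), (46, -4288), (47, 2040), (48, -2699), (49, -795), (50, 2172), (51, 4272), (52, 755), (53, 764), (54, 548), (55, -1872), (56, -1053), (57, -1688), (58, -1888), (59, -2667), (60, 1340), (61, 892), (62, -1591), (63, 895), (64, 220), (65, -274), (73, 1), (74, -274), (75, 273), (76, -109), (77, 164), (78, 283)]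

/-- A combination. -/
def threeT_51 : List (ℕ × ℤ) := [(0, -39250), (1, -2276), (2, -14), (3, 15720), (4, 8282), (5, -3080), (6, 8390), (7, 9116), (8, 32347), (9, 8446), (11, 28134), (12, -4556), (13, 4302), (14, 5198), (15, -4485), (16, 24823), (17, 1530), (18, -3830), (19, 3702), (20, -5924), (21, -25214), (22, 5821), (23, -21610), (24, 42199), (25, 5231), (26, -2294), (28, -4616), (29, -36974), (30, 15720), (31, 6910), (32, -1638), (33, -4602), (34, -4602), (35, -30561), (38, -9172), (40, 2276), (41, 6096), (42, 3048), (43, 28386), (45, 5774), (46, -59950), (47, 28516), (48, -37738), (49, -11112), (50, 30444), (51, 59730), (52, 10554), (53, 10684), (54, 7659), (55, -26164), (56, -14714), (57, -23584), (58, -26404), (59, -37235), (60, 18682), (61, 12454), (62, -22244), (63, 12538), (64, 3084), (65, -3830), (72, 1), (74, -3834), (75, 3816), (76, -1526), (77, 2294), (78, 3964)]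

/-- A combination. -/
def threeT_52 : List (ℕ × ℤ) := [(0, 84093), (1, 4875), (2, 30), (3, -33678), (4, -17746), (5, 6600), (6, -17975), (7, -19531), (8, -69299), (9, -18095), (11, -60276), (12, 9760), (13, -9212), (14, -11136), (15, 9611), (16, -53178), (17, -3280), (18, 8205), (19, -7925), (20, 12691), (21, 54025), (22, -12472), (23, 46308), (24, -90404), (25, -11206), (26, 4915), (28, 9890), (29, 79218), (30, -33678), (31, -14805), (32, 3510), (33, 9860), (34, 9860), (35, 65471), (38, 19650), (40, -4875), (41, -13060), (42, -6530), (43, -60815), (45, -12362), (46, 128438), (47, -61094), (48, 80853), (49, 23808), (50, -65240), (51, -127970), (52, -22611), (53, -22890), (54, -16410), (55, 56048), (56, 31524), (57, 50526), (58, 56567), (59, 79767), (60, -40019), (61, -26679), (62, 47654), (63, -26868), (64, -6610), (65, 8205), (74, 8215), (75, -8175), (76, 3270), (77, -4915), (78, -8494)]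

/-- A combination. -/
def threeT_53 : List (ℕ × ℤ) := [(0, -84093), (1, -4875), (2, -30), (3, 33678), (4, 17746), (5, -6600), (6, 17975), (7, 19531), (8, 69299), (9, 18095), (11, 60276), (12, -9760), (13, 9212), (14, 11136), (15, -9611), (16, 53178), (17, 3280), (18, -8205), (19, 7925), (20, -12691), (21, -54025), (22, 12472), (23, -46308), (24, 90404), (25, 11206), (26, -4915), (28, -9890), (29, -79218), (30, 33678), (31, 14805), (32, -3509), (33, -9860), (34, -9859), (35, -65471), (38, -19650), (40, 4875), (41, 13060), (42, 6530), (43, 60815), (45, 12362), (46, -128438), (47, 61094), (48, -80853), (49, -23808), (50, 65240), (51, 127970), (52, 22611), (53, 22890), (54, 16410), (55, -56048), (56, -31524), (57, -50526), (58, -56567), (59, -79767), (60, 40019), (61, 26679), (62, -47654), (63, 26868), (64, 6610), (65, -8205), (74, -8215), (75, 8175), (76, -3270), (77, 4915), (78, 8494)]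

/-- A combination. -/
def threeT_54 : List (ℕ × ℤ) := [(46, 1)]

/-- A combination. -/
def threeT_55 : List (ℕ × ℤ) := [(52, 1)]

/-- A combination. -/
def threeT_56 : List (ℕ × ℤ) := [(0, 1), (29, 1)]

/-- A combination. -/
def threeT_57 : List (ℕ × ℤ) := [(0, 1), (1, 1)]

/-- A combination. -/
def threeT_58 : List (ℕ × ℤ) := [(0, 28022), (1, 1624), (2, 10), (3, -11220), (4, -5914), (5, 2200), (6, -5990), (7, -6508), (8, -23089), (9, -6030), (11, -20086), (12, 3252), (13, -3066), (14, -3710), (15, 3203), (16, -17717), (17, -1093), (18, 2734), (19, -2638), (20, 4228), (21, 18006), (22, -4157), (23, 15442), (24, -30121), (25, -3733), (26, 1638), (28, 3296), (29, 26398), (30, -11220), (31, -4934), (32, 1170), (33, 3286), (34, 3286), (35, 21811), (38, 6548), (40, -1624), (41, -4352), (42, -2176), (43, -20262), (45, -4114), (46, 42798), (47, -20356), (48, 26942), (49, 7932), (50, -21756), (51, -42642), (52, -7534), (53, -7628), (54,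 -5468), (55, 18677), (56, 10502), (57, 16832), (58, 18852), (59, 26573), (60, -13326), (61, -8886), (62, 15880), (63, -8958), (64, -2204), (65, 2734), (72, 1), (74, 2738), (75, -2724), (76, 1090), (77, -1638), (78, -2832)]

/-- A combination. -/
def threeT_59 : List (ℕ × ℤ) := [(0, -11228), (1, -652), (2, -4), (3, 4500), (4, 2368), (5, -880), (6, 2400), (7, 2608), (8, 9260), (9, 2416), (11, 8048), (12, -1304), (13, 1236), (14, 1488), (15, -1284), (16, 7107), (17, 436), (18, -1095), (19, 1064), (20, -1696), (21, -7208), (22, 1664), (23, -6168), (24, 12077), (25, 1496), (26, -656), (28, -1320), (29, -10576), (30, 4500), (31, 1976), (32, -468), (33, -1316), (34, -1316), (35, -8753), (38, -2624), (40, 652), (41, 1744), (42, 872), (43, 8124), (45, 1660), (46, -17152), (47, 8160), (48, -10796), (49, -3183), (50, 8688), (51, 17091), (52, 3020), (53, 3056), (54, 2190), (55, -7488), (56, -4211), (57, -6752), (58, -7552), (59, -10664), (60,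 5361), (61, 3568), (62, -6364), (63, 3580), (64, 880), (65, -1095), (73, 1), (74, -1096), (75, 1092), (76, -436), (77, 656), (78, 1132)]

/-- A combination. -/
def threeT_60 : List (ℕ × ℤ) := [(0, -84093), (1, -4875), (2, -30), (3, 33678), (4, 17747), (5, -6600), (6, 17975), (7, 19531), (8, 69299), (9, 18095), (11, 60276), (12, -9760), (13, 9212), (14, 11136), (15, -9611), (16, 53178), (17, 3280), (18, -8205), (19, 7925), (20, -12691), (21, -54025), (22, 12472), (23, -46309), (24, 90404), (25, 11206), (26, -4915), (28, -9890), (29, -79218), (30, 33678), (31, 14805), (32, -3509), (33, -9860), (34, -9860), (35, -65471), (38, -19650), (40, 4875), (41, 13060), (42, 6530), (43, 60815), (45, 12362), (46, -128438), (47, 61094), (48, -80853), (49, -23808), (50, 65242), (51, 127970), (52, 22611), (53, 22890), (54, 16410), (55, -56048), (56, -31524), (57, -50526), (58, -56567), (59, -79767), (60, 40019), (61, 26679), (62, -47654), (63, 26868),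 (64, 6610), (65, -8205), (74, -8215), (75, 8175), (76, -3270), (77, 4915), (78, 8494)]

/-- A combination. -/
def threeT_61 : List (ℕ × ℤ) := [(0, 84093), (1, 4875), (2, 30), (3, -33678), (4, -17746), (5, 6600), (6, -17975), (7, -19530), (8, -69299), (9, -18095), (11, -60276), (12, 9760), (13, -9212), (14, -11136), (15, 9611), (16, -53178), (17, -3280), (18, 8205), (19, -7925), (20, 12691), (21, 54025), (22, -12472), (23, 46308), (24, -90404), (25, -11206), (26, 4915), (28, 9890), (29, 79218), (30, -33678), (31, -14805), (32, 3509), (33, 9860), (34, 9860), (35, 65471), (38, 19650), (40, -4875), (41, -13060), (42, -6530), (43, -60815), (45, -12362), (46, 128438), (47, -61094), (48, 80854), (49, 23808), (50, -65240), (51, -127970), (52, -22611), (53, -22890), (54, -16410), (55, 56048), (56, 31524), (57, 50526), (58, 56567), (59, 79767), (60, -40019), (61, -26679), (62, 47654), (63, -26868), (64, -6610), (65, 8205), (74, 8215), (75,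 -8175), (76, 3270), (77, -4915), (78, -8494)]

/-- A combination. -/
def threeT_62 : List (ℕ × ℤ) := [(45, 1)]

/-- A combination. -/
def threeT_63 : List (ℕ × ℤ) := [(51, 1)]

/-- A combination. -/
def threeT_64 : List (ℕ × ℤ) := [(0, -168186), (1, -9750), (2, -60), (3, 67356), (4, 35494), (5, -13200), (6, 35950), (7, 39062), (8, 138598), (9, 36190), (11, 120552), (12, -19520), (13, 18424), (14, 22272), (15, -19222), (16, 106356), (17, 6560), (18, -16410), (19, 15850), (20, -25382), (21, -108050), (22, 24944), (23, -92616), (24, 180808), (25, 22413), (26, -9830), (28, -19780), (29, -158436), (30, 67356), (31, 29610), (32, -7018), (33, -19720), (34, -19720), (35, -130942), (38, -39300), (40, 9750), (41, 26120), (42, 13060), (43, 121630), (45, 24724), (46, -256876), (47, 122188), (48, -161706), (49, -47616), (50, 130480), (51, 255942), (52, 45222), (53, 45780), (54, 32820), (55, -112096), (56, -63048), (57, -101052), (58, -113134),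 (59, -159536), (60, 80038), (61, 53360), (62, -95308), (63, 53736), (64, 13220), (65, -16410), (74, -16430), (75, 16350), (76, -6540), (77, 9830), (78, 16988)]

/-- A combination. -/
def threeT_65 : List (ℕ × ℤ) := [(0, -336372), (1, -19500), (2, -120), (3, 134712), (4, 70988), (5, -26400), (6, 71900), (7, 78124), (8, 277196), (9, 72380), (11, 241104), (12, -39040), (13, 36848), (14, 44544), (15, -38444), (16, 212712), (17, 13120), (18, -32820), (19, 31700), (20, -50764), (21, -216100), (22, 49888), (23, -185232), (24, 361616), (25, 44824), (26, -19659), (28, -39560), (29, -316872), (30, 134712), (31, 59220), (32, -14036), (33, -39440), (34, -39440), (35, -261884), (38, -78600), (40, 19500), (41, 52240), (42, 26120), (43, 243260), (45, 49448), (46, -513752), (47, 244376), (48, -323412), (49, -95232), (50, 260960), (51, 511884), (52, 90444), (53, 91560), (54, 65640), (55, -224192), (56, -126096), (57, -202104), (58, -226268), (59,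 -319072), (60, 160076), (61, 106720), (62, -190616), (63, 107472), (64, 26438), (65, -32820), (74, -32860), (75, 32700), (76, -13080), (77, 19660), (78, 33976)]

/-- A combination. -/
def threeT_66 : List (ℕ × ℤ) := [(0, -16818), (1, -975), (2, -6), (3, 6735), (4, 3549), (5, -1320), (6, 3595), (7, 3906), (8, 13859), (9, 3619), (11, 12055), (12, -1952), (13, 1842), (14, 2227), (15, -1922), (16, 10635), (17, 656), (18, -1641), (19, 1585), (20, -2538), (21, -10805), (22, 2494), (23, -9263), (24, 18080), (25, 2241), (26, -983), (28, -1978), (29, -15843), (30, 6735), (31, 2961), (32, -702), (33, -1972), (34, -1972), (35, -13093), (38, -3930), (40, 975), (41, 2612), (42, 1306), (43, 12162), (45, 2472), (46, -25687), (47, 12218), (48, -16170), (49, -4761), (50, 13050), (51, 25593), (52, 4522), (53, 4578), (54, 3282), (55, -11210), (56, -6304), (57, -10104), (58, -11314), (59, -15952), (60, 8002), (61, 5335), (62, -9531), (63, 5374), (64,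 1322), (65, -1641), (74, -1643), (75, 1635), (76, -654), (77, 983), (78, 1699)]

/-- A combination. -/
def threeT_67 : List (ℕ × ℤ) := [(0, -134544), (1, -7800), (2, -48), (3, 53880), (4, 28392), (5, -10560), (6, 28760), (7, 31248), (8, 110872), (9, 28952), (11, 96440), (12, -15616), (13, 14736), (14, 17816), (15, -15376), (16, 85080), (17, 5248), (18, -13128), (19, 12680), (20, -20304), (21, -86440), (22, 19956), (23, -74104), (24, 144640), (25, 17928), (26, -7864), (27, 1), (28, -15824), (29, -126744), (30, 53880), (31, 23688), (32, -5616), (33, -15776), (34, -15776), (35, -104744), (38, -31440), (40, 7800), (41, 20896), (42, 10448), (43, 97296), (45, 19776), (46, -205496), (47, 97744), (48, -129360), (49, -38088), (50, 104400), (51, 204744), (52, 36176), (53, 36624), (54, 26256), (55, -89680), (56, -50432), (57, -80832), (58, -90512), (59, -127616), (60, 64016), (61, 42680), (62, -76248), (63, 42992), (64, 10576), (65, -13130),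 (74, -13144), (75, 13080), (76, -5232), (77, 7864), (78, 13592)]

/-- A combination. -/
def threeT_68 : List (ℕ × ℤ) := [(50, -1)]

/-- A combination. -/
def threeT_69 : List (ℕ × ℤ) := [(28, 1), (48, -2)]

/-- A combination. -/
def threeT_70 : List (ℕ × ℤ) := [(58, -1)]

/-- A combination. -/
def threeT_71 : List (ℕ × ℤ) := [(60, -1)]

/-- A combination. -/
def threeT_72 : List (ℕ × ℤ) := [(56, 1)]

/-- A combination. -/
def threeT_73 : List (ℕ × ℤ) := [(63, 1)]

/-- A combination. -/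
def threeT_74 : List (ℕ × ℤ) := [(0, -84093), (1, -4875), (2, -30), (3, 33678), (4, 17747), (5, -6600), (6, 17975), (7, 19531), (8, 69299), (9, 18095), (11, 60276), (12, -9760), (13, 9212), (14, 11136), (15, -9611), (16, 53178), (17, 3280), (18, -8205), (19, 7925), (20, -12691), (21, -54025), (22, 12472), (23, -46308), (24, 90404), (25, 11206), (26, -4915), (28, -9890), (29, -79218), (30, 33678), (31, 14805), (32, -3509), (33, -9860), (34, -9860), (35, -65471), (38, -19650), (40, 4875), (41, 13060), (42, 6530), (43, 60815), (45, 12362), (46, -128438), (47, 61094), (48, -80853), (49, -23808), (50, 65240), (51, 127971), (52, 22611), (53, 22890), (54, 16410), (55, -56048), (56, -31524), (57, -50526), (58, -56567), (59, -79768), (60, 40019), (61, 26680), (62, -47654), (63, 26868), (64, 6610), (65, -8205), (74, -8215), (75, 8175), (76, -3270), (77, 4915), (78, 8494)]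

/-- A combination. -/
def threeT_75 : List (ℕ × ℤ) := [(0, -168186), (1, -9750), (2, -60), (3, 67356), (4, 35494), (5, -13200), (6, 35950), (7, 39062), (8, 138598), (9, 36190), (11, 120552), (12, -19520), (13, 18424), (14, 22272), (15, -19222), (16, 106356), (17, 6560), (18, -16410), (19, 15850), (20, -25382), (21, -108050), (22, 24944), (23, -92616), (24, 180808), (25, 22412), (26, -9830), (28, -19780), (29, -158436), (30, 67356), (31, 29610), (32, -7018), (33, -19720), (34, -19720), (35, -130942), (38, -39300), (40, 9750), (41, 26120), (42, 13060), (43, 121630), (45, 24724), (46, -256876), (47, 122188), (48, -161706), (49, -47616), (50, 130480), (51, 255942), (52, 45222), (53, 45780), (54, 32820), (55, -112096), (56, -63048), (57, -101052), (58, -113134), (59, -159536), (60, 80038), (61, 53360), (62, -95308), (63, 53736), (64, 13219), (65, -16410), (74, -16430), (75, 16350), (76, -6540), (77, 9830), (78, 16988)]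

/-- A combination. -/
def threeT_76 : List (ℕ × ℤ) := [(0, -33636), (1, -1950), (2, -12), (3, 13470), (4, 7098), (5, -2640), (6, 7190), (7, 7812), (8, 27718), (9, 7238), (11, 24110), (12, -3904), (13, 3684), (14, 4454), (15, -3844), (16, 21270), (17, 1312), (18, -3282), (19, 3170), (20, -5076), (21, -21610), (22, 4989), (23, -18526), (24, 36160), (25, 4482), (26, -1966), (28, -3956), (29, -31686), (30, 13470), (31, 5922), (32, -1404), (33, -3944), (34, -3944), (35, -26186), (38, -7860), (40, 1950), (41, 5224), (42, 2612), (43, 24324), (45, 4944), (46, -51374), (47, 24436), (48, -32340), (49, -9522), (50, 26100), (51, 51186), (52, 9044), (53, 9156), (54, 6564), (55, -22420), (56, -12608), (57, -20208), (58, -22628), (59, -31904), (60, 16004), (61, 10670), (62, -19062), (63, 10748), (64, 2644), (65, -3282), (74, -3286), (75, 3270), (76, -1308), (77, 1966), (78, 3398)]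

/-- A combination. -/
def threeT_77 : List (ℕ × ℤ) := [(0, -67272), (1, -3900), (2, -24), (3, 26940), (4, 14196), (5, -5280), (6, 14380), (7, 15624), (8, 55436), (9, 14476), (11, 48220), (12, -7808), (13, 7368), (14, 8908), (15, -7688), (16, 42540), (17, 2624), (18, -6564), (19, 6340), (20, -10152), (21, -43220), (22, 9978), (23, -37052), (24, 72320), (25, 8964), (26, -3932), (28, -7912), (29, -63372), (30, 26940), (31, 11844), (32, -2808), (33, -7888), (34, -7888), (35, -52372), (38, -15720), (40, 3900), (41, 10448), (42, 5224), (43, 48648), (45, 9888), (46, -102748), (47, 48872), (48, -64680), (49, -19044), (50, 52200), (51, 102372), (52, 18088), (53, 18312), (54, 13128), (55, -44840), (56, -25216), (57, -40416), (58, -45256), (59, -63808), (60, 32008), (61, 21340), (62, -38124), (63, 21496), (64, 5288), (65, -6565), (74, -6572), (75, 6540), (76, -2616), (77, 3932), (78, 6796)]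

/-- A combination. -/
def threeT_78 : List (ℕ × ℤ) := [(23, 1), (50, -2)]

/-- A combination. -/
def threeT_79 : List (ℕ × ℤ) := [(48, -1)]

/-- A combination. -/
def threeT_80 : List (ℕ × ℤ) := [(57, -1)]

/-- A combination. -/
def threeT_81 : List (ℕ × ℤ) := [(59, -1)]

/-- A combination. -/
def threeT_82 : List (ℕ × ℤ) := [(55, 1)]

/-- A combination. -/
def threeT_83 : List (ℕ × ℤ) := [(62, 1)]

/-- The equations. -/
def threeEqs : List (List ℕ × List ℕ) := [([0, 13, 12], [0, 12]), ([1, 57, 12, 9], [1, 13, 12, 9]), ([2, 26], [24, 24, 66, 38, 34, 2, 70, 54, 10, 79, 53, 41, 5, 80, 62, 82, 21, 20, 22, 80, 6, 23, 22]), ([2, 15, 14], [2, 14]), ([4, 78, 60, 17, 16, 20, 22], [4, 16, 20, 22]), ([4, 79, 61, 5, 83, 9, 11, 22], [16]), ([5, 74, 56, 28, 73, 22], [32, 32, 79, 41, 5, 80, 62, 11, 70, 62, 6, 22]), ([5, 79, 61, 16, 20, 22], [5, 17, 16, 20, 22]), ([6, 43], [37, 37, 70, 6, 10]), ([6, 44], [38, 38, 6]), ([6, 45], [39, 39, 6]),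 ([6, 46], [40, 40, 6]), ([6, 47], [41, 41, 6]), ([6, 19, 18], [6, 18]), ([6, 7], [18]), ([7, 36], [42, 42, 71, 7, 10]), ([7, 37], [43, 43, 81, 7, 11]), ([8, 76, 58, 22], [50, 50, 82, 8, 11, 22]), ([8, 77, 59, 11], [51, 51, 72, 8, 23, 22]), ([8, 82, 21, 20, 22], [8, 20, 22]), ([8, 83, 9, 11], [20]), ([9, 74, 48], [56, 56, 9]), ([10, 76], [66, 66, 10]), ([10, 78], [68, 68, 10]), ([10, 23, 22], [10, 22]), ([11, 64], [74, 74, 11]), ([11, 65], [75, 75, 11]), ([11, 67], [77, 77, 11]), ([11, 69], [79, 79, 11]), ([12, 56], [13, 12]), ([14, 76, 38], [15, 14]), ([15, 14, 74, 36, 11], [24, 26, 44, 30, 15, 14, 78, 40, 83, 81, 63, 18, 79, 61, 16, 20, 22]), ([16, 52], [17, 16]), ([17, 16, 48], [28, 32, 78, 40, 17, 16, 54, 81, 55, 18, 23, 22]), ([17, 16, 53], [16]), ([18], [43, 37, 71, 18, 22]), ([24, 64, 36, 32, 24, 0, 69, 41, 5, 80, 62, 23, 22, 62, 6, 80, 62, 19, 18, 11, 10], [0, 25]), ([26, 42, 28, 26, 0, 46, 4, 81, 63, 81, 63, 7, 23, 22,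 63, 18], [0, 27]), ([29, 36, 28, 13, 12, 60, 63, 70, 62, 19, 18, 22], [13, 12]), ([30, 58, 30, 2, 9, 23, 22], [2, 31]), ([33, 42, 32, 13, 12, 61, 62, 81, 63, 18, 23, 22], [13, 12]), ([34, 66, 50, 34, 2, 72, 8, 23, 22, 23, 22], [2, 35]), ([35, 59, 35, 3, 79, 41, 83, 83, 9, 11, 22], [3, 34, 70, 54, 22]), ([38, 36, 24, 70, 6, 22], [24, 36, 76, 38, 79, 41, 80, 6, 23, 22]), ([38, 38, 2], [2, 39]), ([40, 38, 30, 62], [30, 38, 40]), ([40, 39, 31, 54], [31, 39, 40]), ([40, 41, 16, 54], [16]), ([41, 36, 32, 80, 6, 11], [32, 36, 79, 41, 80, 6, 11]), ([43, 74, 42, 13, 12, 63, 22], [13, 12]), ([46, 42, 28, 71, 7, 10], [28, 42, 68, 46, 71, 7, 10]), ([46, 44, 30, 63], [30, 44, 46]), ([46, 45, 31, 55], [31, 45, 46]), ([48, 48, 0], [0, 49]), ([50, 76, 50, 2, 11], [2, 51]), ([54, 48, 36, 82], [36, 48, 54]), ([54, 49, 37, 72], [37, 49, 54]), ([54, 50, 38], [38, 50, 80, 54]), ([54, 51, 39], [39, 51, 70, 54]), ([55, 50, 44], [44, 50, 81, 55]), ([55,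 51, 45], [45, 51, 71, 55]), ([59, 74, 56, 26], [26, 56, 59, 78, 60, 81, 63]), ([62, 56, 36, 83], [36, 56, 62]), ([62, 57, 37, 73], [37, 57, 62]), ([74, 74, 0], [0, 75]), ([76, 76, 2], [2, 77]), ([], [30, 56, 28, 24, 68, 40, 17, 16, 54, 71, 55, 18, 10, 83, 20, 22]), ([], [35, 56, 32, 26, 47, 16, 55, 54, 19, 18, 83, 20, 22]), ([], [40, 36, 28, 70, 19, 18, 22]), ([], [47, 42, 32, 81, 18, 23, 22]), ([], [52, 50, 30, 21, 20, 22]), ([], [61, 58, 34, 73, 20, 10, 23, 22]), ([], [70, 64, 36, 23, 22]), ([], [81, 74, 42, 22]), ([64, 56, 36, 28, 0, 70, 19, 18, 22, 68, 60, 4, 83, 9, 11, 10, 80, 54, 83, 20, 22, 64, 36, 32, 13, 12, 61, 62, 80, 62, 6, 11, 10, 76, 58, 44, 34, 71, 55, 73, 20, 10, 23, 22, 79, 47, 5, 81, 63, 11, 70, 62, 19, 18, 72, 21, 20, 10, 11, 64, 28, 24, 68, 40, 17, 16, 54, 71, 55, 18, 10, 23, 22, 50, 2, 79, 53, 80, 54, 82, 8, 11, 22, 56, 36, 32, 26, 0, 47, 16, 55, 54, 19, 18, 80, 54, 11, 73, 20, 10, 76, 38, 15, 14, 80, 6, 11,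 69, 47, 70, 19, 18, 72, 22, 48, 32, 13, 12, 61, 62, 82, 21, 20, 22, 40, 17, 16, 54, 54, 6, 20, 10, 85, 85, 84, 84, 84, 85, 75, 49, 43, 25, 1, 58, 68, 60, 73, 9, 23, 22, 81, 55, 11, 72, 8, 23, 22, 76, 58, 44, 30, 2, 63, 9, 23, 22, 81, 55, 7, 82, 8, 11, 22, 58, 38, 30, 15, 14, 78, 40, 83, 80, 62, 6, 83, 9, 11, 10, 78, 52, 46, 4, 81, 63, 82, 21, 20, 22, 82, 23, 22, 50, 44, 34, 71, 55, 72, 8, 23, 22, 78, 60, 46, 17, 16, 55, 20, 22, 66, 50, 44, 2, 23, 22, 52, 46, 8, 23, 22, 57, 43, 29, 27, 12, 59, 79, 61, 83, 9, 11, 10, 78, 52, 17, 16, 8, 11, 70, 62, 71, 63, 18, 22, 9, 76, 50, 15, 14, 82, 11, 22, 55, 18, 8, 11], [74, 48, 36, 32, 24, 0, 69, 41, 5, 80, 62, 23, 22, 62, 6, 80, 62, 19, 18, 11, 72, 21, 20, 10, 11, 66, 30, 2, 69, 61, 16, 20, 10, 80, 82, 11, 64, 48, 36, 26, 13, 12, 59, 78, 60, 81, 63, 80, 62, 19, 18, 11, 72, 21, 20, 10, 23, 22, 4, 80, 62, 83, 9, 11, 10, 74, 48, 36, 32, 26, 47, 16, 55, 54, 19, 18, 80, 54, 11, 72, 8, 23, 22,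 78, 60, 40, 80, 62, 6, 83, 9, 11, 10, 74, 48, 42, 28, 26, 0, 46, 4, 81, 63, 81, 63, 7, 23, 22, 63, 18, 72, 21, 20, 10, 11, 68, 17, 16, 70, 54, 73, 20, 10, 23, 22, 36, 26, 13, 12, 59, 78, 60, 81, 63, 80, 62, 19, 18, 11, 66, 58, 30, 15, 14, 78, 40, 83, 83, 9, 11, 10, 23, 22, 53, 41, 16, 54, 8, 80, 62, 6, 82, 21, 20, 22, 84, 84, 85, 85, 85, 84, 66, 50, 30, 2, 21, 20, 22, 68, 4, 23, 22, 21, 20, 10, 75, 33, 27, 69, 61, 5, 83, 9, 11, 10, 81, 55, 11, 66, 50, 44, 30, 15, 14, 78, 40, 83, 81, 63, 18, 82, 21, 20, 22, 23, 22, 75, 49, 43, 29, 1, 60, 62, 63, 18, 82, 21, 20, 22, 76, 30, 81, 63, 82, 21, 20, 22, 75, 43, 29, 25, 12, 58, 68, 60, 73, 9, 23, 22, 78, 52, 4, 82, 21, 20, 22, 80, 81, 18, 11, 22, 34, 2, 71, 55, 72, 8, 23, 22, 76, 58, 44, 34, 15, 14, 79, 41, 82, 23, 22, 55, 18, 20, 10, 11, 68, 17, 16, 72, 8, 23, 22]), ([64, 56, 36, 28, 0, 70, 19, 18, 22, 68, 60, 4, 83, 9, 11, 10, 80, 54, 83, 20, 22, 64, 36, 32, 13, 12, 61, 62, 80, 62, 6,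 11, 10, 76, 58, 44, 34, 71, 55, 73, 20, 10, 23, 22, 79, 47, 5, 81, 63, 11, 70, 62, 19, 18, 72, 21, 20, 10, 11, 64, 28, 24, 68, 40, 17, 16, 54, 71, 55, 18, 10, 23, 22, 52, 54, 20, 10, 74, 36, 28, 24, 0, 68, 40, 17, 16, 54, 71, 55, 18, 10, 80, 54, 11, 22, 52, 40, 54, 6, 20, 10, 74, 42, 28, 24, 13, 12, 58, 69, 61, 70, 62, 10, 78, 60, 40, 17, 16, 54, 20, 22, 18, 71, 10, 11, 66, 44, 2, 69, 47, 70, 19, 18, 72, 22, 48, 32, 26, 47, 16, 55, 54, 19, 18, 82, 8, 11, 66, 58, 15, 14, 83, 23, 22, 69, 61, 41, 70, 62, 6, 72, 21, 20, 10, 11, 64, 42, 32, 0, 81, 18, 23, 22, 66, 34, 10, 79, 53, 5, 82, 21, 20, 22, 80, 82, 11, 85, 85, 84, 85, 85, 84, 84, 84, 65, 49, 29, 25, 78, 60, 4, 83, 9, 11, 22, 54, 8, 23, 22, 58, 38, 34, 2, 70, 54, 73, 20, 10, 23, 22, 18, 75, 49, 33, 27, 1, 59, 79, 61, 83, 9, 11, 10, 79, 53, 5, 82, 21, 20, 22, 81, 82, 11, 66, 50, 44, 30, 15, 14, 78, 40, 83, 81, 63, 18, 82, 21, 20, 22, 23, 22, 75, 49, 43, 29, 12, 60, 62, 63, 18,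 82, 21, 20, 22, 76, 30, 81, 63, 82, 21, 20, 22, 76, 44, 30, 2, 63, 78, 60, 46, 4, 81, 63, 83, 9, 11, 22, 8, 23, 22, 57, 43, 33, 27, 69, 61, 5, 83, 9, 11, 10, 81, 55, 81, 55, 7, 11, 73, 20, 10, 76, 38, 30, 15, 14, 78, 40, 83, 80, 62, 6, 11, 71, 63, 7, 72, 21, 20, 10, 11, 66, 38, 30, 62, 68, 60, 40, 4, 80, 62, 83, 9, 11, 10, 82, 8, 11, 10, 76, 58, 38, 34, 2, 70, 54, 73, 20, 10, 23, 22, 78, 40, 17, 16, 54, 82, 8, 11, 10], [64, 56, 36, 28, 0, 70, 19, 18, 22, 66, 58, 30, 9, 23, 22, 69, 53, 16, 8, 23, 22, 62, 21, 20, 22, 36, 24, 13, 12, 58, 69, 61, 70, 62, 10, 80, 62, 6, 11, 66, 58, 44, 34, 2, 71, 55, 73, 20, 10, 23, 22, 69, 47, 5, 81, 63, 23, 22, 62, 19, 18, 21, 20, 22, 28, 26, 46, 4, 81, 63, 81, 63, 7, 23, 22, 58, 38, 34, 15, 14, 79, 41, 82, 23, 22, 54, 6, 20, 10, 79, 47, 5, 81, 63, 11, 70, 62, 19, 18, 72, 21, 20, 10, 11, 64, 28, 0, 10, 78, 46, 4, 81, 63, 11, 70, 62, 19, 18, 73, 9, 23, 22, 64, 48, 32, 13, 12, 61, 62, 82, 21, 20, 22,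 66, 38, 34, 70, 54, 10, 79, 53, 41, 5, 80, 62, 82, 21, 20, 22, 80, 6, 82, 11, 64, 48, 42, 28, 24, 68, 40, 17, 16, 54, 71, 55, 18, 10, 81, 55, 23, 22, 8, 23, 22, 60, 46, 62, 19, 18, 9, 23, 22, 48, 28, 24, 0, 68, 40, 17, 16, 54, 71, 55, 18, 10, 82, 8, 11, 68, 60, 70, 62, 73, 9, 23, 22, 85, 84, 84, 84, 85, 84, 85, 85, 66, 50, 30, 2, 21, 20, 22, 68, 4, 23, 22, 21, 20, 10, 75, 33, 27, 69, 61, 5, 83, 9, 11, 10, 81, 55, 11, 66, 50, 44, 30, 15, 14, 78, 40, 83, 81, 63, 18, 82, 21, 20, 22, 23, 22, 76, 50, 44, 30, 63, 21, 20, 22, 78, 46, 4, 81, 63, 11, 72, 21, 20, 10, 23, 22, 44, 34, 2, 71, 55, 68, 52, 46, 17, 16, 55, 8, 23, 22, 21, 20, 10, 75, 43, 27, 1, 59, 79, 61, 83, 9, 11, 10, 81, 55, 11, 22, 50, 44, 34, 15, 14, 79, 41, 82, 23, 22, 55, 18, 8, 11, 71, 63, 72, 21, 20, 10, 11, 65, 43, 33, 12, 61, 63, 63, 7, 23, 22, 58, 38, 34, 70, 54, 73, 20, 10, 23, 22, 18, 75, 49, 33, 25, 79, 61, 16, 20, 22, 76, 50, 44, 2, 11, 71, 55, 7, 72, 8, 23, 22]),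 ([64, 56, 36, 28, 0, 70, 19, 18, 22, 66, 58, 30, 9, 23, 22, 69, 53, 16, 8, 23, 22, 62, 21, 20, 22, 36, 24, 13, 12, 58, 69, 61, 70, 62, 10, 80, 62, 6, 11, 68, 60, 46, 17, 16, 55, 20, 10, 80, 19, 18, 83, 23, 22, 56, 24, 73, 66, 58, 38, 34, 2, 70, 54, 73, 20, 10, 23, 22, 69, 41, 5, 80, 62, 23, 22, 62, 6, 21, 20, 22, 42, 28, 26, 0, 46, 4, 81, 63, 81, 63, 7, 23, 22, 63, 18, 68, 60, 17, 16, 20, 10, 80, 83, 23, 22, 56, 36, 26, 13, 12, 59, 78, 60, 81, 63, 80, 62, 19, 18, 11, 73, 9, 23, 22, 52, 4, 82, 21, 20, 22, 64, 56, 36, 32, 26, 47, 16, 55, 54, 19, 18, 80, 54, 11, 73, 20, 10, 23, 22, 40, 6, 64, 56, 42, 28, 26, 0, 46, 4, 81, 63, 81, 63, 7, 23, 22, 63, 18, 73, 9, 23, 22, 68, 52, 17, 16, 8, 23, 22, 62, 9, 23, 22, 48, 36, 26, 13, 12, 59, 78, 60, 81, 63, 80, 62, 19, 18, 11, 72, 21, 20, 10, 76, 30, 15, 14, 78, 40, 83, 11, 69, 61, 41, 16, 54, 20, 10, 80, 6, 82, 11, 85, 84, 85, 84, 85, 85, 85, 85, 84, 76, 50, 44, 2, 11, 68, 52, 46, 72, 8, 23,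 22, 65, 57, 43, 29, 27, 1, 59, 79, 61, 83, 9, 11, 10, 78, 52, 17, 16, 8, 11, 70, 62, 71, 63, 18, 22, 9, 23, 22, 50, 15, 14, 82, 11, 71, 55, 18, 72, 8, 23, 22, 76, 58, 22, 60, 21, 20, 10, 75, 29, 25, 12, 58, 68, 60, 73, 9, 23, 22, 78, 52, 4, 82, 21, 20, 22, 80, 11, 66, 38, 34, 2, 70, 54, 10, 81, 55, 18, 82, 8, 11, 22, 58, 34, 15, 14, 79, 41, 82, 23, 22, 20, 10, 78, 40, 17, 16, 54, 82, 8, 11, 10, 76, 58, 38, 22, 60, 40, 21, 20, 10, 76, 38, 30, 2, 62, 78, 60, 40, 4, 80, 62, 83, 9, 11, 22, 8, 23, 22, 58, 38, 34, 15, 14, 79, 41, 82, 23, 22, 54, 6, 20, 10, 78, 46, 17, 16, 55, 82, 8, 11, 10], [74, 48, 36, 32, 24, 0, 69, 41, 5, 80, 62, 23, 22, 62, 6, 80, 62, 19, 18, 11, 72, 21, 20, 10, 11, 68, 4, 23, 22, 62, 9, 23, 22, 48, 36, 32, 24, 13, 12, 58, 69, 61, 70, 62, 10, 79, 61, 41, 5, 80, 62, 83, 9, 11, 22, 54, 6, 80, 54, 19, 18, 11, 72, 8, 23, 22, 58, 30, 2, 9, 23, 22, 53, 16, 8, 80, 62, 82, 21, 20, 22, 74, 36, 26, 19, 18, 11, 68, 4, 23,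 22, 62, 9, 23, 22, 48, 36, 32, 26, 0, 47, 16, 55, 54, 19, 18, 80, 54, 11, 72, 8, 23, 22, 58, 38, 15, 14, 80, 6, 83, 23, 22, 61, 47, 62, 19, 18, 21, 20, 22, 32, 13, 12, 61, 62, 78, 60, 40, 17, 16, 54, 20, 22, 6, 64, 56, 42, 73, 10, 78, 60, 46, 80, 62, 19, 18, 83, 9, 11, 10, 74, 48, 28, 0, 72, 22, 52, 46, 4, 81, 63, 82, 21, 20, 22, 19, 18, 64, 56, 32, 13, 12, 61, 62, 83, 9, 11, 10, 78, 52, 40, 17, 16, 54, 8, 11, 70, 62, 6, 73, 9, 23, 22, 84, 85, 84, 85, 84, 85, 85, 85, 85, 65, 49, 29, 25, 78, 60, 4, 83, 9, 11, 22, 54, 8, 23, 22, 58, 38, 34, 2, 70, 54, 73, 20, 10, 23, 22, 18, 76, 50, 34, 15, 14, 79, 41, 82, 23, 22, 8, 11, 22, 60, 40, 17, 16, 54, 20, 72, 10, 75, 49, 37, 1, 62, 72, 21, 20, 10, 11, 66, 38, 71, 18, 72, 22, 50, 2, 78, 52, 82, 8, 11, 10, 76, 58, 30, 15, 14, 78, 40, 83, 83, 9, 11, 10, 11, 68, 52, 40, 4, 80, 62, 82, 21, 20, 22, 72, 10, 76, 50, 38, 34, 70, 54, 72, 8, 23, 22, 11, 68, 60, 40, 17, 16, 54, 20, 10, 82, 23, 22,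 50, 38, 2, 78, 52, 40, 82, 8, 11, 10, 75, 57, 37, 29, 27, 12, 59, 79, 61, 83, 9, 11, 10, 78, 52, 17, 16, 8, 11, 70, 62, 70, 62, 6, 10, 83, 9, 11, 22, 50, 44, 15, 14, 81, 18, 82, 11, 71, 55, 72, 8, 23, 22]), ([64, 56, 36, 28, 0, 70, 19, 18, 22, 68, 60, 4, 83, 9, 11, 10, 80, 54, 83, 20, 22, 64, 36, 32, 13, 12, 61, 62, 80, 62, 6, 11, 10, 76, 58, 44, 34, 71, 55, 73, 20, 10, 23, 22, 79, 47, 5, 81, 63, 11, 70, 62, 19, 18, 72, 21, 20, 10, 11, 64, 28, 24, 68, 40, 17, 16, 54, 71, 55, 18, 10, 23, 22, 50, 2, 79, 53, 80, 54, 82, 8, 11, 22, 56, 36, 32, 26, 0, 47, 16, 55, 54, 19, 18, 80, 54, 11, 73, 20, 10, 76, 38, 15, 14, 80, 6, 11, 69, 47, 70, 19, 18, 72, 22, 48, 32, 13, 12, 61, 62, 82, 21, 20, 22, 38, 34, 70, 54, 69, 53, 41, 5, 80, 62, 82, 21, 20, 22, 70, 6, 72, 22, 48, 42, 28, 24, 68, 40, 17, 16, 54, 71, 55, 18, 10, 81, 55, 23, 22, 8, 78, 60, 46, 80, 62, 19, 18, 83, 9, 11, 10, 74, 48, 28, 24, 0, 68, 40, 17, 16, 54, 71, 55, 18, 10, 82, 8,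 11, 22, 60, 62, 9, 23, 22, 48, 36, 28, 24, 13, 12, 58, 69, 61, 70, 62, 10, 78, 60, 40, 17, 16, 54, 20, 22, 18, 70, 22, 52, 40, 54, 6, 20, 10, 85, 85, 84, 84, 84, 84, 85, 85, 85, 75, 49, 43, 25, 1, 58, 68, 60, 73, 9, 23, 22, 81, 55, 11, 72, 8, 23, 22, 76, 58, 44, 30, 2, 63, 9, 23, 22, 81, 55, 7, 82, 8, 11, 22, 57, 37, 29, 27, 12, 59, 79, 61, 83, 9, 11, 10, 78, 52, 17, 16, 8, 11, 70, 62, 70, 62, 6, 10, 83, 9, 11, 66, 50, 44, 15, 14, 81, 18, 82, 11, 10, 81, 55, 82, 8, 11, 22, 58, 44, 68, 60, 46, 72, 21, 20, 10, 23, 22, 44, 30, 2, 63, 60, 46, 4, 81, 63, 83, 9, 11, 72, 8, 23, 22, 66, 58, 44, 34, 15, 14, 79, 41, 82, 23, 22, 55, 18, 20, 10, 23, 22, 17, 16, 8, 23, 22, 58, 68, 60, 72, 21, 20, 10, 23, 22, 30, 2, 60, 4, 83, 9, 11, 72, 8, 23, 22, 65, 57, 33, 27, 69, 61, 5, 83, 9, 11, 10, 81, 55, 83, 20, 22, 66, 44, 30, 15, 14, 78, 40, 83, 81, 63, 18, 23, 22, 63, 21, 20, 22], [74, 48, 36, 32, 24, 0, 69, 41, 5, 80, 62, 23, 22, 62, 6, 80, 62,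 19, 18, 11, 72, 21, 20, 10, 11, 66, 30, 2, 69, 61, 16, 20, 10, 80, 82, 11, 64, 48, 36, 26, 13, 12, 59, 78, 60, 81, 63, 80, 62, 19, 18, 11, 72, 21, 20, 10, 23, 22, 30, 15, 14, 78, 40, 83, 79, 61, 41, 16, 54, 20, 22, 6, 74, 48, 42, 72, 22, 52, 46, 54, 19, 18, 20, 10, 74, 28, 0, 22, 46, 4, 81, 63, 80, 62, 19, 18, 83, 9, 11, 10, 74, 48, 32, 13, 12, 61, 62, 82, 21, 20, 22, 78, 40, 17, 16, 54, 80, 54, 6, 83, 20, 22, 64, 42, 10, 78, 46, 80, 19, 18, 83, 23, 22, 56, 28, 0, 73, 68, 60, 46, 4, 81, 63, 83, 9, 11, 10, 80, 54, 19, 18, 83, 20, 22, 64, 32, 13, 12, 61, 62, 23, 22, 58, 38, 34, 70, 54, 73, 20, 10, 23, 22, 41, 5, 80, 62, 80, 62, 6, 82, 21, 20, 22, 84, 84, 84, 85, 85, 85, 85, 85, 84, 66, 50, 30, 2, 21, 20, 22, 68, 4, 23, 22, 21, 20, 10, 75, 33, 27, 69, 61, 5, 83, 9, 11, 10, 81, 55, 11, 66, 50, 44, 30, 15, 14, 78, 40, 83, 81, 63, 18, 82, 21, 20, 22, 23, 22, 75, 49, 43, 29, 1, 60, 62, 63, 18, 82, 21, 20, 22, 76, 30, 81, 63, 82, 21, 20,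 22, 75, 43, 29, 25, 12, 58, 68, 60, 73, 9, 23, 22, 78, 52, 4, 82, 21, 20, 22, 80, 81, 18, 11, 22, 34, 2, 71, 55, 72, 8, 23, 22, 75, 57, 43, 33, 27, 69, 61, 5, 83, 9, 11, 10, 81, 55, 81, 55, 7, 11, 73, 20, 10, 11, 66, 38, 30, 15, 14, 78, 40, 83, 80, 62, 6, 23, 22, 63, 7, 21, 20, 22, 38, 30, 62, 60, 40, 4, 80, 62, 83, 9, 11, 72, 8, 23, 22, 66, 58, 38, 34, 2, 70, 54, 73, 20, 10, 23, 22, 68, 40, 17, 16, 54, 72, 8, 23, 22, 66, 58, 38, 15, 14, 80, 6, 83, 23, 22, 68, 60, 46, 72, 21, 20, 10, 23, 22]), ([74, 48, 36, 32, 24, 0, 69, 41, 5, 80, 62, 23, 22, 62, 6, 80, 62, 19, 18, 11, 72, 21, 20, 10, 11, 66, 30, 2, 69, 61, 16, 20, 10, 80, 82, 11, 64, 48, 36, 26, 13, 12, 59, 78, 60, 81, 63, 80, 62, 19, 18, 11, 72, 21, 20, 10, 23, 22, 30, 15, 14, 78, 40, 83, 79, 61, 41, 16, 54, 20, 22, 6, 74, 48, 42, 72, 22, 52, 46, 54, 19, 18, 20, 10, 74, 28, 0, 22, 46, 4, 81, 63, 80, 62, 19, 18, 83, 9, 11, 10, 74, 48, 32, 13, 12, 61, 62, 82, 21, 20, 22, 78,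 40, 17, 16, 54, 80, 54, 6, 83, 20, 22, 64, 42, 10, 76, 44, 79, 47, 80, 19, 18, 82, 11, 64, 48, 32, 24, 0, 69, 41, 5, 80, 62, 23, 22, 62, 6, 82, 21, 20, 22, 68, 46, 4, 81, 63, 23, 22, 62, 19, 18, 9, 23, 22, 48, 32, 24, 13, 12, 58, 69, 61, 70, 62, 10, 79, 61, 41, 5, 80, 62, 83, 9, 11, 22, 54, 6, 82, 8, 11, 66, 58, 44, 30, 2, 63, 9, 23, 22, 69, 53, 47, 16, 55, 8, 23, 22, 62, 19, 18, 21, 20, 22, 26, 44, 30, 15, 14, 78, 40, 83, 81, 63, 18, 79, 61, 16, 20, 22, 84, 84, 84, 85, 85, 85, 84, 85, 84, 84, 75, 49, 43, 25, 1, 58, 68, 60, 73, 9, 23, 22, 81, 55, 11, 72, 8, 23, 22, 76, 58, 44, 30, 2, 63, 9, 23, 22, 81, 55, 7, 82, 8, 11, 22, 57, 37, 29, 27, 12, 59, 79, 61, 83, 9, 11, 10, 78, 52, 17, 16, 8, 11, 70, 62, 70, 62, 6, 10, 83, 9, 11, 66, 50, 44, 15, 14, 81, 18, 82, 11, 10, 81, 55, 82, 8, 11, 22, 57, 43, 83, 76, 58, 44, 22, 63, 7, 21, 20, 22, 38, 2, 40, 65, 49, 37, 29, 27, 1, 59, 79, 61, 83, 9, 11, 10, 78, 52, 17, 16, 8, 11, 70, 62, 70,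 62, 6, 10, 82, 21, 20, 22, 66, 44, 15, 14, 81, 18, 23, 22, 75, 49, 43, 12, 63, 82, 21, 20, 22, 76, 44, 81, 7, 82, 11, 66, 50, 38, 2, 23, 22, 52, 40, 8, 23, 22, 58, 38, 30, 15, 14, 78, 40, 83, 80, 62, 6, 83, 9, 11, 10, 78, 52, 46, 4, 81, 63, 82, 21, 20, 22, 82, 23, 22, 50, 44, 34, 71, 55, 72, 8, 23, 22, 78, 60, 46, 17, 16, 55, 20, 22], [74, 48, 36, 32, 24, 0, 69, 41, 5, 80, 62, 23, 22, 62, 6, 80, 62, 19, 18, 11, 72, 21, 20, 10, 11, 66, 30, 2, 69, 61, 16, 20, 10, 80, 82, 11, 64, 48, 36, 26, 13, 12, 59, 78, 60, 81, 63, 80, 62, 19, 18, 11, 72, 21, 20, 10, 23, 22, 30, 15, 14, 78, 40, 83, 79, 61, 41, 16, 54, 20, 22, 6, 74, 48, 42, 72, 22, 50, 44, 79, 53, 47, 80, 54, 19, 18, 82, 8, 11, 22, 56, 32, 24, 0, 69, 41, 5, 80, 62, 23, 22, 62, 6, 83, 9, 11, 68, 52, 46, 4, 81, 63, 82, 21, 20, 22, 70, 19, 18, 73, 10, 74, 56, 32, 24, 13, 12, 58, 69, 61, 70, 62, 10, 79, 61, 41, 5, 80, 62, 83, 9, 11, 22, 54, 6, 83, 20, 22, 76, 44, 30, 2, 63, 79, 61,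 47, 16, 55, 20, 22, 19, 18, 74, 48, 26, 76, 50, 44, 30, 15, 14, 78, 40, 83, 81, 63, 18, 82, 21, 20, 22, 11, 69, 16, 70, 54, 72, 8, 23, 22, 74, 56, 36, 0, 83, 11, 68, 60, 40, 70, 62, 6, 73, 9, 23, 22, 64, 48, 42, 28, 13, 12, 60, 63, 71, 63, 7, 10, 82, 21, 20, 22, 68, 40, 4, 80, 62, 23, 22, 62, 6, 9, 23, 22, 48, 42, 32, 81, 18, 23, 22, 52, 17, 16, 8, 80, 62, 83, 9, 11, 10, 84, 84, 84, 84, 85, 84, 84, 85, 85, 85, 75, 49, 43, 25, 1, 58, 68, 60, 73, 9, 23, 22, 81, 55, 11, 72, 8, 23, 22, 76, 58, 44, 30, 2, 63, 9, 23, 22, 81, 55, 7, 82, 8, 11, 22, 57, 37, 29, 27, 12, 59, 79, 61, 83, 9, 11, 10, 78, 52, 17, 16, 8, 11, 70, 62, 70, 62, 6, 10, 83, 9, 11, 66, 50, 44, 15, 14, 81, 18, 82, 11, 10, 81, 55, 82, 8, 11, 22, 58, 44, 68, 60, 46, 72, 21, 20, 10, 23, 22, 44, 30, 2, 63, 60, 46, 4, 81, 63, 83, 9, 11, 72, 8, 23, 22, 66, 58, 44, 34, 15, 14, 79, 41, 82, 23, 22, 55, 18, 20, 10, 23, 22, 17, 16, 8, 23, 22, 57, 58, 71, 63, 72, 21, 20, 10, 11,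 66, 44, 2, 68, 46, 72, 10, 75, 49, 43, 29, 27, 1, 59, 79, 61, 83, 9, 11, 10, 78, 52, 17, 16, 8, 11, 70, 62, 71, 63, 18, 22, 21, 20, 22, 15, 14, 81, 18, 82, 11, 65, 49, 12, 21, 20, 10, 76, 81, 82, 11])]

/-- The length of the equations. -/
def threeLen : ℕ := 889

/-- The letters of the Sylow 3-subgroup. -/
def threeLetters : List (M2 × (ℕ × ℕ × ℕ)) := [(⟨536903680, 75632227233399499129088⟩, (2297, 218, 19)), (⟨4759296017423451291664, 4722404781058666020880⟩, (2557, 155, 60)), (⟨285212672, 38074368033971933151360⟩, (2393, 2, 69)), (⟨9299937628570783776, 9454032899004170244128⟩, (265, 245, 23)), (⟨1210107565283850612376577, 1210106411235347660801024⟩, (1496, 248, 59)), (⟨1210107565283851686117377, 1180591621816923980801⟩, (2464, 229, 73)), (⟨1181745669221437669377, 1210106412361247566595073⟩, (1909, 63, 85)), (⟨1208926972537234367972352, 1210106412361247566595073⟩, (500, 29, 1)), (⟨1208926973663133200024577, 1210106411236447172427777⟩,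 (2215, 84, 35)), (⟨1208926973663133200024577, 1181745668122999784448⟩, (559, 88, 50)), (⟨1210107565283851686118401, 1210107565283851686118401⟩, (0, 0, 49)), (⟨0, 1210107565283851686118401⟩, (0, 0, 42))]

/-- The conjugating elements. -/
def threeConjugators : List (M2 × (ℕ × ℕ × ℕ)) := [(⟨604610528798100114378753, 0⟩, (4502, 92, 25))]

/-- The certificate for the prime 3. -/
def three : TailData where
  n := 12
  derived := [4, 5, 6, 7, 8, 9, 10, 11]
  defs := [(4, 0, 2), (5, 0, 3), (6, 0, 4), (7, 0, 5), (8, 2, 4), (9, 2, 5), (10, 0, 6), (11, 0, 7)]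
  rules := [(0, 0, [1]), (1, 1, [0, 9]), (2, 2, [3]), (3, 3, [2, 6, 11]), (4, 4, [5, 9, 11]), (5, 5, [4, 9, 11]), (6, 6, [7]), (7, 7, [6]), (8, 8, [9, 11]), (9, 9, [8, 11]), (10, 10, [11]), (11, 11, [10]), (0, 1, [9]), (1, 0, [0, 1]), (2, 3, [6, 11]), (3, 2, [2, 3]), (4, 5, [8]), (5, 4, [4, 5]), (6, 7, []), (7, 6, [6, 7]), (8, 9, [10]), (9, 8, [8, 9]), (10, 11, []), (11, 10, [10, 11]), (2, 0, [0, 2, 5, 6, 10]), (2, 1, [1, 2, 4, 9, 11]), (3, 0, [0, 3, 4, 7]), (3, 1, [1, 3, 5, 9, 10]), (4, 0, [0, 4, 7, 10]), (4, 1, [1, 4, 6]), (4, 2, [2, 4, 9]), (4, 3, [3, 4, 8]), (5, 0, [0, 5, 6, 11]), (5, 1, [1, 5, 7]), (5, 2, [2, 5, 8, 10]), (5, 3, [3, 5, 9]), (6, 0, [0, 6, 11]), (6, 1, [1, 6, 10]), (6, 2, [2, 6]), (6, 3, [3, 6]), (6, 4, [4, 6]), (6, 5, [5, 6]), (7, 0, [0, 7, 10]), (7, 1, [1, 7, 11]), (7, 2, [2, 7]), (7, 3, [3, 7]), (7, 4, [4, 7]), (7, 5, [5, 7]), (8, 0, [0, 8]), (8, 1, [1, 8]), (8, 2, [2, 8, 11]), (8, 3, [3, 8, 10]), (8, 4, [4,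 8]), (8, 5, [5, 8]), (8, 6, [6, 8]), (8, 7, [7, 8]), (9, 0, [0, 9]), (9, 1, [1, 9]), (9, 2, [2, 9, 10]), (9, 3, [3, 9, 11]), (9, 4, [4, 9]), (9, 5, [5, 9]), (9, 6, [6, 9]), (9, 7, [7, 9]), (10, 0, [0, 10]), (10, 1, [1, 10]), (10, 2, [2, 10]), (10, 3, [3, 10]), (10, 4, [4, 10]), (10, 5, [5, 10]), (10, 6, [6, 10]), (10, 7, [7, 10]), (10, 8, [8, 10]), (10, 9, [9, 10]), (11, 0, [0, 11]), (11, 1, [1, 11]), (11, 2, [2, 11]), (11, 3, [3, 11]), (11, 4, [4, 11]), (11, 5, [5, 11]), (11, 6, [6, 11]), (11, 7, [7, 11]), (11, 8, [8, 11]), (11, 9, [9, 11])]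
  conjs := [(0, [1, 2, 7, 8, 11], [0, 2, 5, 6, 8, 11]), (0, [2, 4, 8, 10], [0, 4, 6, 9, 10])]
  srcs := [.word [[0, 0], [0]] [[0], [0, 0]], .word [[1, 1], [1]] [[1], [1, 1]], .word [[2, 2], [0]] [[2], [2, 0]], .word [[2, 2], [2]] [[2], [2, 2]], .word [[4, 4], [4]] [[4], [4, 4]], .word [[4, 4], [5]] [[4], [4, 5]], .word [[5, 5], [0]] [[5], [5, 0]], .word [[5, 5], [5]] [[5], [5, 5]], .word [[6, 6], [1]] [[6], [6, 1]], .word [[6, 6], [2]] [[6], [6, 2]], .word [[6, 6], [3]] [[6], [6, 3]], .word [[6, 6], [4]] [[6], [6, 4]], .word [[6, 6], [5]] [[6], [6, 5]], .word [[6, 6], [6]] [[6], [6, 6]], .word [[6, 6], [7]] [[6], [6, 7]], .word [[7, 7], [0]] [[7], [7, 0]], .word [[7, 7], [1]] [[7], [7, 1]], .word [[8, 8], [2]] [[8], [8, 2]], .word [[8, 8], [3]] [[8], [8, 3]], .word [[8, 8], [8]] [[8], [8, 8]], .word [[8, 8], [9]] [[8], [8, 9]], .word [[9, 9], [0]] [[9], [9, 0]], .word [[10, 10], [2]] [[10], [10, 2]], .word [[10, 10], [4]] [[10],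 [10, 4]], .word [[10, 10], [10]] [[10], [10, 10]], .word [[11, 11], [0]] [[11], [11, 0]], .word [[11, 11], [1]] [[11], [11, 1]], .word [[11, 11], [3]] [[11], [11, 3]], .word [[11, 11], [5]] [[11], [11, 5]], .word [[0, 1], [0]] [[0], [1, 0]], .word [[2, 3], [2]] [[2], [3, 2]], .word [[3, 2], [0]] [[3], [2, 0]], .word [[4, 5], [4]] [[4], [5, 4]], .word [[5, 4], [0]] [[5], [4, 0]], .word [[5, 4], [5]] [[5], [4, 5]], .word [[6, 7], [1]] [[6], [7, 1]], .word [[2, 0], [0]] [[2], [0, 0]], .word [[3, 0], [0]] [[3], [0, 0]], .word [[4, 1], [0]] [[4], [1, 0]], .word [[4, 2], [2]] [[4], [2, 2]], .word [[5, 1], [0]] [[5], [1, 0]], .word [[5, 2], [2]] [[5], [2, 2]], .word [[5, 3], [3]] [[5], [3, 3]], .word [[6, 2], [0]] [[6], [2, 0]], .word [[6, 2], [2]] [[6], [2, 2]], .word [[6, 4], [2]] [[6], [4, 2]], .word [[6, 4], [3]] [[6], [4, 3]], .word [[6, 4], [5]] [[6], [4, 5]], .word [[6, 5], [0]] [[6], [5, 0]], .word [[7, 1], [0]] [[7], [1, 0]],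 .word [[7, 4], [0]] [[7], [4, 0]], .word [[7, 4], [2]] [[7], [4, 2]], .word [[7, 4], [3]] [[7], [4, 3]], .word [[8, 0], [0]] [[8], [0, 0]], .word [[8, 2], [2]] [[8], [2, 2]], .word [[8, 6], [0]] [[8], [6, 0]], .word [[8, 6], [1]] [[8], [6, 1]], .word [[8, 6], [2]] [[8], [6, 2]], .word [[8, 6], [3]] [[8], [6, 3]], .word [[8, 7], [2]] [[8], [7, 2]], .word [[8, 7], [3]] [[8], [7, 3]], .word [[9, 3], [0]] [[9], [3, 0]], .word [[9, 6], [0]] [[9], [6, 0]], .word [[9, 6], [1]] [[9], [6, 1]], .word [[11, 0], [0]] [[11], [0, 0]], .word [[11, 2], [2]] [[11], [2, 2]], .word [[0, 2]] [[4, 2, 0]], .word [[0, 3]] [[5, 3, 0]], .word [[0, 4]] [[6, 4, 0]], .word [[0, 5]] [[7, 5, 0]], .word [[2, 4]] [[8, 4, 2]], .word [[2, 5]] [[9, 5, 2]], .word [[0, 6]] [[10, 6, 0]], .word [[0, 7]] [[11, 7, 0]], .conj 0 [1, 1, 0, 0, 0, 1] [0, 0, 1, 1, 1, 0], .conj 0 [1, 1, 0, 1, 1, 0, 0, 0] [1, 0, 0, 0, 1, 0, 1, 1], .conj 0 [1, 0, 1, 0, 1, 1, 1, 1, 0] [0, 1, 0,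 1, 0, 1, 1, 1, 1], .conj 0 [1, 1, 0, 0, 0, 0, 1, 1, 1] [0, 0, 0, 1, 1, 1, 1, 1, 0], .conj 0 [0, 0, 0, 1, 1, 1, 0, 1, 0, 0] [0, 0, 0, 0, 1, 0, 0, 1, 1, 1]]
  k := 0
  targets := [(4, 0, threeT_4), (5, 0, threeT_5), (6, 0, threeT_6), (7, 0, threeT_7), (8, 0, threeT_8), (9, 0, threeT_9), (10, 0, threeT_10), (11, 0, threeT_11), (13, 0, threeT_13), (15, 0, threeT_15), (16, 0, threeT_16), (17, 0, threeT_17), (18, 0, threeT_18), (19, 0, threeT_19), (20, 0, threeT_20), (21, 0, threeT_21), (22, 0, threeT_22), (23, 0, threeT_23), (24, 0, threeT_24), (25, 0, threeT_25), (26, 0, threeT_26), (27, 0, threeT_27), (28, 0, threeT_28), (29, 0, threeT_29), (30, 0, threeT_30), (31, 0, threeT_31), (32, 0, threeT_32), (33, 0, threeT_33), (34, 0, threeT_34), (35, 0, threeT_35), (36, 0, threeT_36), (37, 0, threeT_37), (38, 0, threeT_38), (39, 0, threeT_39), (40, 0, threeT_40), (41, 0, threeT_41), (42, 0, threeT_42), (43, 0, threeT_43), (44, 0, threeT_44),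 (45, 0, threeT_45), (46, 0, threeT_46), (47, 0, threeT_47), (48, 0, threeT_48), (49, 0, threeT_49), (50, 0, threeT_50), (51, 0, threeT_51), (52, 0, threeT_52), (53, 0, threeT_53), (54, 0, threeT_54), (55, 0, threeT_55), (56, 0, threeT_56), (57, 0, threeT_57), (58, 0, threeT_58), (59, 0, threeT_59), (60, 0, threeT_60), (61, 0, threeT_61), (62, 0, threeT_62), (63, 0, threeT_63), (64, 0, threeT_64), (65, 0, threeT_65), (66, 0, threeT_66), (67, 0, threeT_67), (68, 0, threeT_68), (69, 0, threeT_69), (70, 0, threeT_70), (71, 0, threeT_71), (72, 0, threeT_72), (73, 0, threeT_73), (74, 0, threeT_74), (75, 0, threeT_75), (76, 0, threeT_76), (77, 0, threeT_77), (78, 0, threeT_78), (79, 0, threeT_79), (80, 0, threeT_80), (81, 0, threeT_81), (82, 0, threeT_82), (83, 0, threeT_83)]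
  four := []
  forms := (List.range 729).map threeForms.get
  dforms := [[], [7, 9, 11], [6, 8], [4, 6, 8, 11], [5, 7, 8, 10], [4, 7, 9, 10], [5, 6, 10], [4, 11], [5, 9], [4, 9, 11], [5], [4, 6], [5, 7, 9, 11], [4, 7, 8], [5, 6, 8], [7, 8, 10], [6, 9, 10], [5, 6, 9, 10], [4, 7, 10], [5, 7, 11], [4, 6, 9], [9], [8, 11], [6, 10], [7, 11], [5, 8, 11], [4, 8, 10], [4, 8], [5, 8], [4, 7], [5, 6, 9, 11], [4, 6, 9, 11], [5, 7], [5, 6, 8, 11], [4, 7, 8, 10], [7, 10], [6, 11], [5, 11], [4, 9], [6, 9], [7, 8, 11], [8, 10], [9, 10], [5, 7, 9, 10], [4, 6, 10], [5, 9, 11], [4], [9, 11], [8], [6], [7], [5, 7, 8], [4, 6, 8], [7, 8], [6, 9, 11], [5, 6], [4, 7, 9, 11], [6, 8, 11], [7, 9], [4, 7, 9], [5, 6, 11], [4, 6, 11], [5, 7, 9], [5, 7, 10], [4, 6, 9, 10], [5, 8, 10], [4, 8, 11], [4, 7, 8, 11], [5, 6, 8, 10], [4, 10], [5, 9, 10], [7, 9, 10], [6, 8, 10], [5, 6, 9], [4, 7, 11], [4, 9, 10], [5, 10], [4, 6, 8, 10], [5, 7, 8, 11], [11], [10]]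

/-- Two elements whose commutator is the scalar. -/
def pair : (M2 × (ℕ × ℕ × ℕ)) × (M2 × (ℕ × ℕ × ℕ)) := ((⟨4759262240426246029328, 36028797021061120⟩, (3833, 251, 6)), (⟨1210106412361247566595073, 1208926972537234367972352⟩, (1909, 63, 57)))

end CfsgLib.J3Schur
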