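import Cfsg.Agent.Lib.Schur.Splitting

/-!
The 2-part of the multiplier of a group whose Sylow 2-subgroup is `(4 × 4) (2 × 2)`, with an element
of order 3 acting on `4 × 4` without fixed points, has order at most 2.
-/

set_option autoImplicit false

namespace CfsgLib.SchurWreath

open Subgroup
open scoped commutatorElement

variable {Γ G : Type*} [Group Γ] [Group G]

theorem commutator_closure_pair_le {A B : Γ} (hAC : Commute A ⁅A, B⁆) (hBC : Commute B ⁅A, B⁆)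
    {a' b' : Γ} (ha : a' ∈ closure ({A, B} : Set Γ)) (hb : b' ∈ closure ({A, B} : Set Γ)) :
    ⁅a', b'⁆ ∈ zpowers ⁅A, B⁆ := by
  set C := ⁅A, B⁆ with hC
  let W : Subgroup Γ := closure {A, B}
  let τ : W →* W ⧸ (center W) := QuotientGroup.mk' _
  have hW := SchurBound.commutator_le_zpowers τ (by rw [QuotientGroup.ker_mk'])
    (A := (⟨A, subset_closure (by simp)⟩ : W)) (B := ⟨B, subset_closure (by simp)⟩)
    (by
      rw [← Set.image_pair, ← MonoidHom.map_closure]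
      refine (congrArg (Subgroup.map τ) ?_).trans
        (map_top_of_surjective _ (QuotientGroup.mk'_surjective _))
      apply map_injective W.subtype_injective
      rw [MonoidHom.map_closure, ← MonoidHom.range_eq_map, range_subtype, Set.image_pair]
      rfl)
    (Subtype.ext (show A * C * A⁻¹ = C by rw [hAC.eq, mul_inv_cancel_right]))
    ⟨1, Subtype.ext (show C ^ (1 : ℤ) = B * C * B⁻¹ by
      rw [zpow_one, hBC.eq, mul_inv_cancel_right])⟩
    ⟨1, Subtype.ext (show C ^ (1 : ℤ) = B⁻¹ * C * B by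
      rw [zpow_one, hBC.inv_left.eq, inv_mul_cancel_right])⟩
  obtain ⟨k, hk⟩ := hW (show ⁅(⟨a', ha⟩ : W), ⟨b', hb⟩⁆ ∈ _root_.commutator W from
    commutator_mem_commutator (mem_top _) (mem_top _))
  exact ⟨k, congrArg (fun x : W => (x : Γ)) hk⟩

theorem normal_of_le_center {N : Subgroup Γ} (h : N ≤ center Γ) : N.Normal :=
  ⟨fun x hx y => by rw [mem_center_iff.1 (h hx) y, mul_inv_cancel_right]; exact hx⟩

/-- The hypotheses on the Sylow subgroup. -/
structure Config (G : Type*) [Group G] where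
  a : G
  b : G
  r : G
  g : G
  u : G
  s : G
  x : G
  e : G
  lx : G
  le : G
  pa : G
  pb : G
  gs : G
  gus : G
  gx : G
  a4 : a ^ 4 = 1
  b4 : b ^ 4 = 1
  comm : Commute a b
  ra : r * a * r⁻¹ ∈ closure ({a, b} : Set G)
  rb : r * b * r⁻¹ ∈ closure ({a, b} : Set G)
  ra' : r⁻¹ * a * r ∈ closure ({a, b} : Set G)
  rb' : r⁻¹ * b * r ∈ closure ({a, b} : Set G)
  ga : g * a = b * g
  gb : g * b = a * g
  hpa : pa ∈ closure ({a, b} : Set G) ∧ ⁅r, pa⁆ = a
  hpb : pb ∈ closure ({a, b} : Set G) ∧ ⁅r, pb⁆ = b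
  hlx : lx ∈ closure ({a, b} : Set G) ∧ ⁅r, lx⁆ = x
  hle : le ∈ closure ({a, b} : Set G) ∧ ⁅r, le⁆ = e
  ua : u * a * u⁻¹ ∈ closure ({a, b} : Set G)
  ub : u * b * u⁻¹ ∈ closure ({a, b} : Set G)
  ur : u * r * u⁻¹ = r
  sa : s * a * s⁻¹ ∈ closure ({a, b} : Set G)
  sb : s * b * s⁻¹ ∈ closure ({a, b} : Set G)
  sr : s * r * s⁻¹ = r⁻¹
  uu : u * u = 1
  ss : s * s = 1
  us : Commute u s
  xinv : u * x * u⁻¹ * x = 1
  ee : e * e = 1
  hgs : gs * u = s * gs
  hgus : gus * u = u * s * gus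
  hgx : gx * (u * x) = e * gx
  big : 64 ≤ Nat.card ↥(closure ({a, b} : Set G) ⊔ closure {u, s})

theorem conj_mem_closure {H : Subgroup G} {h a b : G} (ha : h * a * h⁻¹ ∈ H) (hb : h * b * h⁻¹ ∈ H) :
    ∀ y ∈ closure ({a, b} : Set G), h * y * h⁻¹ ∈ H := fun y hy => by
  have : closure ({a, b} : Set G) ≤ H.comap (MulAut.conj h).toMonoidHom := by
    rw [closure_le, Set.insert_subset_iff, Set.singleton_subset_iff]
    exact ⟨ha, hb⟩
  exact this hy

variable {σ : Γ →* G}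

theorem not_four_dvd [Finite Γ] (hs : Function.Surjective σ) (hc : σ.ker ≤ center Γ)
    (hd : σ.ker ≤ _root_.commutator Γ) (D : Config G) (hG : (Nat.card G).factorization 2 = 6) :
    ¬ 2 ^ 2 ∣ Nat.card σ.ker := by
  have hfinG : Finite G := Finite.of_surjective σ hs
  have : Fact (Nat.Prime 2) := ⟨Nat.prime_two⟩
  set A : Subgroup G := closure {D.a, D.b} with hA
  obtain ⟨X, hX⟩ := hs D.a
  obtain ⟨Y, hY⟩ := hs D.b
  obtain ⟨T, hT⟩ := hs D.r
  set C := ⁅X, Y⁆ with hC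
  have hab : σ X * σ Y = σ Y * σ X := by rw [hX, hY]; exact D.comm
  have hCc : C ∈ center Γ := SchurTrivial.mem_center_comm hc hab
  have hCker : C ∈ σ.ker := by
    rw [MonoidHom.mem_ker, map_commutatorElement]; exact commutatorElement_eq_one_iff_mul_comm.2 hab
  have hC2 : C ^ 2 = 1 := by
    obtain ⟨K, hK⟩ := hs D.g
    have := SchurTrivial.comm_conj hc hab (T := K) (A' := Y) (B' := X)
      (by rw [hK, hX, hY]; exact D.ga) (by rw [hK, hX, hY]; exact D.gb)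
    rw [sq]
    nth_rewrite 1 [hC]
    rw [← this, hC, ← commutatorElement_inv X Y, inv_mul_cancel]
  have hcz : ∀ (k : ℤ) (y : Γ), y * C ^ k = C ^ k * y := fun k y =>
    mem_center_iff.1 (zpow_mem hCc k) y
  -- lifts of elements of `A`
  have hcomap : A.comap σ = closure {X, Y} ⊔ σ.ker := by
    rw [← comap_map_eq, MonoidHom.map_closure, Set.image_pair, hX, hY]
  have hpair : ∀ L L', σ L ∈ A → σ L' ∈ A → ⁅L, L'⁆ ∈ zpowers C := by
    intro L L' hL hL'
    have h1 : L ∈ closure {X, Y} ⊔ σ.ker := hcomap ▸ hL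
    have h2 : L' ∈ closure {X, Y} ⊔ σ.ker := hcomap ▸ hL'
    obtain ⟨a', ha', z, hz, rfl⟩ := mem_sup_of_normal_right.1 h1
    obtain ⟨b', hb', w, hw, rfl⟩ := mem_sup_of_normal_right.1 h2
    rw [Schur.commutatorElement_mul_center (hc hz) (hc hw)]
    exact commutator_closure_pair_le (mem_center_iff.1 hCc X) (mem_center_iff.1 hCc Y) ha' hb'
  have hrA : ∀ y ∈ A, D.r * y * D.r⁻¹ ∈ A := conj_mem_closure D.ra D.rb
  have hrA' : ∀ y ∈ A, D.r⁻¹ * y * D.r ∈ A := fun y hy => by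
    have := conj_mem_closure (H := A) (h := D.r⁻¹) (a := D.a) (b := D.b) (by simpa using D.ra')
      (by simpa using D.rb') y hy
    simpa using this
  have hσf : ∀ L, σ L ∈ A → σ ⁅T, L⁆ ∈ A := fun L hL => by
    rw [map_commutatorElement, hT, commutatorElement_def]
    exact mul_mem (hrA _ hL) (inv_mem hL)
  have hfmul : ∀ L L', σ L ∈ A → σ L' ∈ A → ∃ k : ℤ, ⁅T, L⁆ * ⁅T, L'⁆ = ⁅T, L * L'⁆ * C ^ k := by
    intro L L' hL hL'
    obtain ⟨k, hk⟩ := hpair L ⁅T, L'⁆ hL (hσf L' hL')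
    refine ⟨-k, ?_⟩
    have hk' : C ^ k = ⁅L, ⁅T, L'⁆⁆ := hk
    have e : ⁅T, L * L'⁆ = ⁅T, L⁆ * (C ^ k * ⁅T, L'⁆) := by
      rw [hk']; simp only [commutatorElement_def]; group
    rw [e, ← hcz k, mul_assoc, mul_assoc, ← zpow_add, add_neg_cancel, zpow_zero, mul_one]
  let E₀ : Submonoid Γ :=
    { carrier := {y | ∃ L, σ L ∈ A ∧ ∃ k : ℤ, y = ⁅T, L⁆ * C ^ k}
      one_mem' := ⟨1, by simp, 0, by simp⟩
      mul_mem' := by
        rintro _ _ ⟨L, hL, k, rfl⟩ ⟨L', hL', k', rfl⟩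
        obtain ⟨j, hj⟩ := hfmul L L' hL hL'
        refine ⟨L * L', by rw [map_mul]; exact mul_mem hL hL', j + (k + k'), ?_⟩
        rw [zpow_add, zpow_add, ← mul_assoc _ (C ^ j), ← hj]
        simp only [mul_assoc]
        rw [← mul_assoc (C ^ k) ⁅T, L'⁆, ← hcz k, mul_assoc] }
  let E : Subgroup Γ :=
    { E₀ with
      inv_mem' := fun {y} hy => by
        rw [show y⁻¹ = y ^ (orderOf y - 1) from inv_eq_of_mul_eq_one_left (by
          rw [← pow_succ, Nat.sub_add_cancel (orderOf_pos y), pow_orderOf_eq_one])]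
        exact E₀.pow_mem hy _ }
  have hCE : C ∈ E := ⟨1, by simp, 1, by simp⟩
  have hfE : ∀ L, σ L ∈ A → ⁅T, L⁆ ∈ E := fun L hL => ⟨L, hL, 0, by simp⟩
  have hEA : E.map σ = A := by
    refine le_antisymm ?_ ?_
    · rintro _ ⟨_, ⟨L, hL, k, rfl⟩, rfl⟩
      rw [map_mul, map_zpow, MonoidHom.mem_ker.1 hCker, one_zpow, mul_one]
      exact hσf L hL
    · rw [hA, closure_le, Set.insert_subset_iff, Set.singleton_subset_iff]
      obtain ⟨La, hLa⟩ := hs D.pa
      obtain ⟨Lb, hLb⟩ := hs D.pb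
      exact ⟨⟨⁅T, La⁆, hfE La (hLa ▸ D.hpa.1), by rw [map_commutatorElement, hT, hLa, D.hpa.2]⟩,
        ⟨⁅T, Lb⁆, hfE Lb (hLb ▸ D.hpb.1), by rw [map_commutatorElement, hT, hLb, D.hpb.2]⟩⟩
  -- injectivity of commutation with `r` on `A`
  have hfix : ∀ l ∈ A, ⁅D.r, l⁆ = 1 → l = 1 := by
    let F : A → A := fun l => ⟨⁅D.r, (l : G)⁆, by
      rw [commutatorElement_def]; exact mul_mem (hrA _ l.2) (inv_mem l.2)⟩
    have hF : Function.Surjective F := fun y => by
      obtain ⟨_, ⟨L, hL, k, rfl⟩, hy⟩ : (y : G) ∈ E.map σ := hEA.symm ▸ y.2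
      refine ⟨⟨σ L, hL⟩, Subtype.ext ?_⟩
      rw [map_mul, map_zpow, MonoidHom.mem_ker.1 hCker, one_zpow, mul_one,
        map_commutatorElement, hT] at hy
      exact hy
    intro l hl h1
    exact congrArg Subtype.val (Finite.injective_iff_surjective.2 hF
      (a₁ := ⟨l, hl⟩) (a₂ := 1) (Subtype.ext (by simpa [F] using h1)))
  have hEker : ∀ y ∈ E, σ y = 1 → y ∈ zpowers C := by
    rintro _ ⟨L, hL, k, rfl⟩ h1
    rw [map_mul, map_zpow, MonoidHom.mem_ker.1 hCker, one_zpow, mul_one,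
      map_commutatorElement, hT] at h1
    have hL1 : σ L = 1 := hfix _ hL h1
    rw [SchurTrivial.comm_congr hc rfl (B' := 1) (by rw [hL1, map_one]), commutatorElement_one_right,
      one_mul]
    exact zpow_mem (mem_zpowers C) k
  have hnormE : ∀ Z, (∀ y ∈ A, σ Z * y * (σ Z)⁻¹ ∈ A) →
      (σ Z * D.r * (σ Z)⁻¹ = D.r ∨ σ Z * D.r * (σ Z)⁻¹ = D.r⁻¹) → Z ∈ normalizer (E : Set Γ) := by
    intro Z hZA hZr
    refine SchurSplit.mem_normalizer_of_forall ?_
    rintro _ ⟨L, hL, k, rfl⟩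
    rw [← mul_assoc, mul_assoc _ (C ^ k) Z⁻¹, ← hcz k Z⁻¹, ← mul_assoc]
    refine mul_mem ?_ (zpow_mem hCE k)
    rw [conjugate_commutatorElement]
    have hL' : σ (Z * L * Z⁻¹) ∈ A := by rw [map_mul, map_mul, map_inv]; exact hZA _ hL
    rcases hZr with h | h
    · rw [SchurTrivial.comm_congr hc (A' := T) (B := Z * L * Z⁻¹) (by simp [hT, h]) rfl]
      exact hfE _ hL'
    · rw [SchurTrivial.comm_congr hc (A' := T⁻¹) (B := Z * L * Z⁻¹) (by simp [hT, h]) rfl,
        show ⁅T⁻¹, Z * L * Z⁻¹⁆ = ⁅T, T⁻¹ * (Z * L * Z⁻¹) * T⁆⁻¹ by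
          simp only [commutatorElement_def]; group]
      refine inv_mem (hfE _ ?_)
      rw [map_mul, map_mul, map_inv, hT]
      exact hrA' _ hL'
  have huA : ∀ y ∈ A, D.u * y * D.u⁻¹ ∈ A := conj_mem_closure D.ua D.ub
  have hsA : ∀ y ∈ A, D.s * y * D.s⁻¹ ∈ A := conj_mem_closure D.sa D.sb
  -- the lift of `u`
  obtain ⟨Lx, hLx⟩ := hs D.lx
  obtain ⟨Le, hLe⟩ := hs D.le
  obtain ⟨Kx, hKx⟩ := hs D.gx
  obtain ⟨U₀, hU₀⟩ := hs D.u
  set Ex := ⁅T, Lx⁆ with hEx
  set Ee := ⁅T, Le⁆ with hEe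
  have hσEx : σ Ex = D.x := by rw [map_commutatorElement, hT, hLx, D.hlx.2]
  have hσEe : σ Ee = D.e := by rw [map_commutatorElement, hT, hLe, D.hle.2]
  have hExE : Ex ∈ E := hfE _ (hLx ▸ D.hlx.1)
  have hEeE : Ee ∈ E := hfE _ (hLe ▸ D.hle.1)
  have hgx' : D.gx * (D.u * D.x) * D.gx⁻¹ = D.e := by rw [D.hgx, mul_inv_cancel_right]
  set z := Ee⁻¹ * (Kx * (U₀ * Ex) * Kx⁻¹) with hz
  have hzk : z ∈ σ.ker := by
    rw [MonoidHom.mem_ker, hz]
    simp only [map_mul, map_inv, hσEe, hKx, hU₀, hσEx]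
    rw [hgx', inv_mul_cancel]
  set U := U₀ * z⁻¹ with hUdef
  have hU : σ U = D.u := by rw [hUdef, map_mul, map_inv, MonoidHom.mem_ker.1 hzk, hU₀, inv_one, mul_one]
  have hUE : U * Ex = Kx⁻¹ * Ee * Kx := by
    have hzc : ∀ y, y * z⁻¹ = z⁻¹ * y := fun y => mem_center_iff.1 (inv_mem (hc hzk)) y
    have h1 : Kx * (U₀ * Ex) * Kx⁻¹ = Ee * z := by rw [hz]; group
    have h2 : U₀ * Ex = Kx⁻¹ * Ee * Kx * z := by
      calc U₀ * Ex = Kx⁻¹ * (Kx * (U₀ * Ex) * Kx⁻¹) * Kx := by group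
        _ = Kx⁻¹ * Ee * (z * Kx) := by rw [h1]; group
        _ = _ := by rw [← mem_center_iff.1 (hc hzk) Kx]; group
    rw [hUdef, mul_assoc, ← hzc Ex, ← mul_assoc, h2]
    group
  have hUn : U ∈ normalizer (E : Set Γ) :=
    hnormE U (by rw [hU]; exact huA) (Or.inl (by rw [hU]; exact D.ur))
  have hU2k : U * U ∈ σ.ker := by rw [MonoidHom.mem_ker, map_mul, hU, D.uu]
  have hU2 : U * U ∈ zpowers C := by
    have hEe2 : Ee * Ee ∈ zpowers C := hEker _ (mul_mem hEeE hEeE) (by rw [map_mul, hσEe, D.ee])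
    have hw : U * Ex * U⁻¹ * Ex ∈ zpowers C := hEker _
      (mul_mem ((mem_normalizer_iff.1 hUn Ex).1 hExE) hExE)
      (by simp only [map_mul, map_inv, hU, hσEx]; exact D.xinv)
    have hcen : ∀ w ∈ zpowers C, ∀ y : Γ, y * w = w * y := fun w hw y => by
      obtain ⟨k, rfl⟩ := hw; exact hcz k y
    have e1 : U * Ex * (U * Ex) = U * Ex * U⁻¹ * Ex * (U * U) := by
      rw [show U * Ex * (U * Ex) = U * Ex * U⁻¹ * ((U * U) * Ex) by group,
        ← mem_center_iff.1 (hc hU2k) Ex]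
      group
    have e2 : U * Ex * (U * Ex) = Ee * Ee := by
      rw [hUE, show Kx⁻¹ * Ee * Kx * (Kx⁻¹ * Ee * Kx) = Kx⁻¹ * (Ee * Ee) * Kx by group,
        hcen _ hEe2 Kx⁻¹, inv_mul_cancel_right]
    rw [e2] at e1
    have : U * U = (U * Ex * U⁻¹ * Ex)⁻¹ * (Ee * Ee) := by rw [e1]; group
    rw [this]
    exact mul_mem (inv_mem hw) hEe2
  obtain ⟨Ks, hKs⟩ := hs D.gs
  obtain ⟨Ku, hKu⟩ := hs D.gus
  set S := Ks * U * Ks⁻¹ with hSdef
  have hS : σ S = D.s := by rw [hSdef, map_mul, map_mul, map_inv, hKs, hU, D.hgs, mul_inv_cancel_right]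
  have hS2 : S * S = U * U := by
    rw [hSdef, show Ks * U * Ks⁻¹ * (Ks * U * Ks⁻¹) = Ks * (U * U) * Ks⁻¹ by group,
      mem_center_iff.1 (hc hU2k) Ks, mul_inv_cancel_right]
  set z' := (Ku * U * Ku⁻¹)⁻¹ * (U * S) with hz'
  have hz'k : z' ∈ σ.ker := by
    rw [MonoidHom.mem_ker, hz']
    simp only [map_mul, map_inv, hKu, hU, hS]
    rw [D.hgus, mul_inv_cancel_right, inv_mul_cancel]
  set Dc := ⁅U, S⁆ with hDc
  have hUS : σ U * σ S = σ S * σ U := by rw [hU, hS]; exact D.us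
  have hDcc : Dc ∈ center Γ := SchurTrivial.mem_center_comm hc hUS
  have hDck : Dc ∈ σ.ker := by
    rw [MonoidHom.mem_ker, map_commutatorElement]; exact commutatorElement_eq_one_iff_mul_comm.2 hUS
  have hDc_eq : z' * z' = Dc * (U * U) := by
    have e1 : U * S * (U * S) = U * U * (z' * z') := by
      have e0 : U * S = Ku * U * Ku⁻¹ * z' := by rw [hz']; group
      have hcomm : Commute z' (Ku * U * Ku⁻¹) := (mem_center_iff.1 (hc hz'k) _).symm
      rw [e0, hcomm.mul_mul_mul_comm, show Ku * U * Ku⁻¹ * (Ku * U * Ku⁻¹) = Ku * (U * U) * Ku⁻¹ by group,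
        mem_center_iff.1 (hc hU2k) Ku, mul_inv_cancel_right]
    have e2 : U * S * (U * S) = Dc * (U * U) * (S * S) := by
      have hS2c : S * S ∈ center Γ := hS2.symm ▸ hc hU2k
      calc U * S * (U * S) = (U * S * U⁻¹ * S⁻¹) * (S * (U * U) * S) := by group
        _ = Dc * ((U * U) * (S * S)) := by rw [mem_center_iff.1 (hc hU2k) S, mul_assoc (U * U) S S]; rfl
        _ = _ := by simp only [mul_assoc]
    rw [hS2, e1] at e2
    have h3 : U * U * (z' * z') = U * U * (Dc * (U * U)) := by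
      rw [e2, mem_center_iff.1 (hc hU2k) Dc, mul_assoc, ← mem_center_iff.1 (hc hU2k) Dc]
    exact mul_left_cancel h3
  have hDc2 : Dc ^ 2 = 1 := by
    have h := SchurTrivial.comm_mul_right hc (A := S) (B := U) (C := U) hUS.symm
    have hz1 : ⁅S, U * U⁆ = 1 := commutatorElement_eq_one_iff_mul_comm.2 (mem_center_iff.1 (hc hU2k) S)
    rw [hz1, ← commutatorElement_inv U S, ← hDc, ← pow_two, inv_pow] at h
    exact inv_eq_one.1 h.symm
  -- the subgroup `H`
  set Z₂ := zpowers C ⊔ zpowers Dc with hZ₂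
  have hZ₂sq : ∀ w ∈ Z₂, w * w = 1 ∧ w ∈ center Γ := by
    intro w hw
    obtain ⟨p, hp, q, hq, rfl⟩ :=
      (mem_sup_of_normal_right (t := zpowers Dc) (ht := normal_of_le_center (zpowers_le.2 hDcc))).1 hw
    obtain ⟨i, rfl⟩ := hp
    obtain ⟨j, rfl⟩ := hq
    refine ⟨?_, mul_mem (zpow_mem hCc i) (zpow_mem hDcc j)⟩
    have hcomm : Commute (Dc ^ j) (C ^ i) := hcz i _
    rw [hcomm.mul_mul_mul_comm, ← zpow_add, ← zpow_add, ← two_mul, ← two_mul, zpow_mul, zpow_mul,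
      show (2 : ℤ) = (2 : ℕ) from rfl, zpow_natCast, zpow_natCast, hC2, hDc2, one_zpow, one_zpow, one_mul]
  set M := E ⊔ zpowers Dc with hM
  have hMsq : U * U ∈ M := le_sup_left (b := zpowers Dc) ((zpowers_le.2 hCE) hU2)
  have hnM : ∀ Z, Z ∈ normalizer (E : Set Γ) → Z ∈ normalizer (M : Set Γ) := fun Z hZ =>
    SchurSplit.mem_normalizer_of_forall fun y hy => by
      obtain ⟨p, hp, q, hq, rfl⟩ := (mem_sup_of_normal_right (t := zpowers Dc)
        (ht := normal_of_le_center (zpowers_le.2 hDcc))).1 hy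
      rw [show Z * (p * q) * Z⁻¹ = (Z * p * Z⁻¹) * (Z * q * Z⁻¹) by group,
        mem_center_iff.1 ((zpowers_le.2 hDcc) hq) Z, mul_inv_cancel_right]
      exact mul_mem (le_sup_left (b := zpowers Dc) ((mem_normalizer_iff.1 hZ p).1 hp))
        (le_sup_right (a := E) hq)
  have hSn : S ∈ normalizer (E : Set Γ) :=
    hnormE S (by rw [hS]; exact hsA) (Or.inr (by rw [hS]; exact D.sr))
  set N := M ⊔ zpowers U with hN
  set H := N ⊔ zpowers S with hH
  have hSN : zpowers S ≤ normalizer (N : Set Γ) := by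
    refine zpowers_le.2 (SchurSplit.mem_normalizer_of_forall fun y hy => ?_)
    have : N ≤ N.comap (MulAut.conj S).toMonoidHom := by
      rw [hN, sup_le_iff, zpowers_le]
      refine ⟨fun w hw => le_sup_left (b := zpowers U) ((mem_normalizer_iff.1 (hnM S hSn) w).1 hw), ?_⟩
      show S * U * S⁻¹ ∈ M ⊔ zpowers U
      rw [show S * U * S⁻¹ = ⁅U, S⁆⁻¹ * U by rw [commutatorElement_def]; group, ← hDc]
      exact mul_mem (inv_mem (le_sup_left (b := zpowers U) (le_sup_right (a := E) (mem_zpowers Dc))))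
        (le_sup_right (a := M) (mem_zpowers U))
    exact this hy
  have hform : ∀ y ∈ H, ∃ (m : Γ) (i j : Fin 2), m ∈ M ∧ y = m * U ^ (i : ℕ) * S ^ (j : ℕ) := by
    intro y hy
    have hy' : y ∈ ((N ⊔ zpowers S : Subgroup Γ) : Set Γ) := hy
    rw [coe_mul_of_right_le_normalizer_left N _ hSN] at hy'
    obtain ⟨n', hn', _, ⟨j, rfl⟩, rfl⟩ := hy'
    have hn'' : n' ∈ ((M ⊔ zpowers U : Subgroup Γ) : Set Γ) := hn'
    rw [coe_mul_of_right_le_normalizer_left M _ (zpowers_le.2 (hnM U hUn))] at hn''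
    obtain ⟨m, hm, _, ⟨i, rfl⟩, rfl⟩ := hn''
    obtain ⟨i', ei⟩ : ∃ i' : Fin 2, (i : ℤ) = 2 * (i / 2) + (i' : ℕ) :=
      ⟨⟨(i % 2).toNat, by omega⟩, by simp; omega⟩
    obtain ⟨j', ej⟩ : ∃ j' : Fin 2, (j : ℤ) = 2 * (j / 2) + (j' : ℕ) :=
      ⟨⟨(j % 2).toNat, by omega⟩, by simp; omega⟩
    have hUsplit : U ^ i = (U * U) ^ (i / 2) * U ^ (i' : ℕ) := by
      conv_lhs => rw [ei]
      rw [zpow_add, zpow_mul, zpow_natCast, show (2 : ℤ) = (2 : ℕ) from rfl, zpow_natCast, sq]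
    have hSsplit : S ^ j = (U * U) ^ (j / 2) * S ^ (j' : ℕ) := by
      conv_lhs => rw [ej]
      rw [zpow_add, zpow_mul, zpow_natCast, show (2 : ℤ) = (2 : ℕ) from rfl, zpow_natCast, sq, hS2]
    refine ⟨m * (U * U) ^ (i / 2) * (U * U) ^ (j / 2), i', j',
      mul_mem (mul_mem hm (zpow_mem hMsq _)) (zpow_mem hMsq _), ?_⟩
    show m * U ^ i * S ^ j = _
    rw [hUsplit, hSsplit]
    have hc' := mem_center_iff.1 (zpow_mem (hc hU2k) (j / 2)) (U ^ (i' : ℕ))
    simp only [mul_assoc]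
    rw [← mul_assoc (U ^ (i' : ℕ)), hc']
    simp only [mul_assoc]
  have hσM : ∀ m ∈ M, σ m ∈ A := by
    intro m hm
    have : M.map σ ≤ A := by
      rw [hM, Subgroup.map_sup, hEA, sup_le_iff]
      refine ⟨le_rfl, ?_⟩
      rintro _ ⟨w, ⟨k, rfl⟩, rfl⟩
      rw [map_zpow, MonoidHom.mem_ker.1 hDck, one_zpow]
      exact one_mem _
    exact this (mem_map_of_mem σ hm)
  have hHmap : H.map σ = A ⊔ closure {D.u, D.s} := by
    rw [hH, hN, hM, Subgroup.map_sup, Subgroup.map_sup, Subgroup.map_sup, hEA,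
      MonoidHom.map_zpowers, MonoidHom.map_zpowers, MonoidHom.map_zpowers, hU, hS,
      MonoidHom.mem_ker.1 hDck, zpowers_one_eq_bot, sup_bot_eq, sup_assoc, closure_pair_eq]
  let ψ : A × Fin 2 × Fin 2 → H.map σ := fun p =>
    ⟨(p.1 : G) * D.u ^ (p.2.1 : ℕ) * D.s ^ (p.2.2 : ℕ), by
      rw [hHmap]
      exact mul_mem (mul_mem (le_sup_left (b := closure {D.u, D.s}) p.1.2)
        (pow_mem (le_sup_right (a := A) (subset_closure (by simp))) _))
        (pow_mem (le_sup_right (a := A) (subset_closure (by simp))) _)⟩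
  have hψ : Function.Surjective ψ := by
    rintro ⟨_, y, hy, rfl⟩
    obtain ⟨m, i, j, hm, rfl⟩ := hform y hy
    exact ⟨(⟨σ m, hσM m hm⟩, i, j), Subtype.ext (by simp [ψ, hU, hS])⟩
  have hAcard : Nat.card A ≤ 16 := by
    have hn : zpowers D.b ≤ normalizer (zpowers D.a : Set G) := by
      refine le_trans ?_ (centralizer_le_normalizer (zpowers D.a : Set G))
      refine zpowers_le.2 (mem_centralizer_iff.2 fun w hw => ?_)
      obtain ⟨k, rfl⟩ := hw
      exact (D.comm.zpow_left k).eq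
    have hle : A ≤ zpowers D.a ⊔ zpowers D.b := by
      rw [hA, closure_le, Set.insert_subset_iff, Set.singleton_subset_iff]
      exact ⟨le_sup_left (b := zpowers D.b) (mem_zpowers _), le_sup_right (a := zpowers D.a) (mem_zpowers _)⟩
    exact (card_le_of_le hle).trans ((SchurSplit.card_sup_le hn).trans
      (Nat.mul_le_mul (SchurSplit.card_zpowers_le (by norm_num) D.a4)
        (SchurSplit.card_zpowers_le (by norm_num) D.b4)))
  have hQ : 64 ≤ Nat.card (H.map σ) := hHmap ▸ D.big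
  have hprod : Nat.card (A × Fin 2 × Fin 2) = Nat.card A * 4 := by simp [Nat.card_prod]
  have hcardψ := Nat.card_le_card_of_surjective _ hψ
  have hψinj : Function.Injective ψ :=
    ((Nat.bijective_iff_surjective_and_card _).2 ⟨hψ, by omega⟩).injective
  have hQc : Nat.card (H.map σ) = 2 ^ 6 := by omega
  let Q : Sylow 2 G := Sylow.ofCard (H.map σ) (by rw [hG]; exact hQc)
  obtain ⟨P, hP⟩ := SchurBound.exists_sylow_map_eq σ hs Q
  have hleP : (P : Subgroup Γ) ≤ H ⊔ σ.ker := by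
    rw [← comap_map_eq, ← map_le_iff_le_comap]
    exact hP.le
  have hker : ∀ w ∈ σ.ker, ∀ k : ℕ, w ^ 2 ^ k = 1 → w ∈ Z₂ := by
    intro w hw k hk
    have hwP : w ∈ (P : Subgroup Γ) := SchurSylow.center_pElement_mem_sylow P (hc hw) hk
    obtain ⟨y, hy, hyw⟩ :=
      mem_map.1 (SchurSylow.center_inf_commutator_inf_sylow_le P (hc hw) (hd hw) hwP)
    have hcomm : _root_.commutator (P : Subgroup Γ) ≤ H.subgroupOf (P : Subgroup Γ) := by
      rw [_root_.commutator_def, commutator_le]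
      intro p _ q _
      rw [mem_subgroupOf, ← Subgroup.coe_subtype, map_commutatorElement]
      simp only [Subgroup.coe_subtype]
      obtain ⟨p', hp', z1, hz1, ep⟩ := mem_sup_of_normal_right.1 (hleP p.2)
      obtain ⟨q', hq', z2, hz2, eq⟩ := mem_sup_of_normal_right.1 (hleP q.2)
      rw [← ep, ← eq, Schur.commutatorElement_mul_center (hc hz1) (hc hz2), commutatorElement_def]
      exact mul_mem (mul_mem (mul_mem hp' hq') (inv_mem hp')) (inv_mem hq')
    have hwH : w ∈ H := by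
      rw [← hyw]; exact mem_subgroupOf.1 (hcomm hy)
    obtain ⟨m, i, j, hm, rfl⟩ := hform w hwH
    have h1 : ψ (⟨σ m, hσM m hm⟩, i, j) = ψ (1, 0, 0) := Subtype.ext (by
      have := MonoidHom.mem_ker.1 hw
      simp only [map_mul, map_pow, hU, hS] at this
      simp [ψ, this])
    have h2 := hψinj h1
    simp only [Prod.ext_iff] at h2
    obtain ⟨hm1, rfl, rfl⟩ := h2
    have hm1' : σ m = 1 := congrArg Subtype.val hm1
    obtain ⟨p, hp, q, hq, rfl⟩ := (mem_sup_of_normal_right (t := zpowers Dc)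
      (ht := normal_of_le_center (zpowers_le.2 hDcc))).1 hm
    rw [map_mul, MonoidHom.mem_ker.1 ((zpowers_le.2 hDck) hq), mul_one] at hm1'
    simp only [Fin.val_zero, pow_zero, mul_one]
    exact mul_mem (le_sup_left (b := zpowers Dc) (hEker p hp hm1'))
      (le_sup_right (a := zpowers C) hq)
  -- `Dc` lies in `⟨C⟩`
  have hDcC : Dc ∈ zpowers C := by
    have hU2Z : U * U ∈ Z₂ := le_sup_left (b := zpowers Dc) hU2
    have hprodZ : z' * z' ∈ Z₂ := hDc_eq ▸ mul_mem (le_sup_right (a := zpowers C) (mem_zpowers Dc)) hU2Z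
    have h4 : z' ^ 2 ^ 2 = 1 := by
      rw [show z' ^ 2 ^ 2 = z' * z' * (z' * z') by simp [pow_succ, mul_assoc]]
      exact (hZ₂sq _ hprodZ).1
    have h2 : z' * z' = 1 := (hZ₂sq _ (hker z' hz'k 2 h4)).1
    rw [h2] at hDc_eq
    rw [eq_inv_of_mul_eq_one_left hDc_eq.symm]
    exact inv_mem hU2
  have hZle : Z₂ ≤ zpowers C := sup_le le_rfl (zpowers_le.2 hDcC)
  intro hdvd
  obtain ⟨K, hK⟩ := Sylow.exists_subgroup_card_pow_prime 2 hdvd
  have hmem : ∀ w : K, ((w : σ.ker) : Γ) ∈ zpowers C := fun w => hZle (hker _ w.1.2 2 (by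
    have := pow_card_eq_one' (x := w)
    rw [hK] at this
    simpa using congrArg (fun v : K => ((v : σ.ker) : Γ)) this))
  have hle := Nat.card_le_card_of_injective (fun w : K => (⟨_, hmem w⟩ : zpowers C))
    fun v w h => Subtype.ext (Subtype.ext (congrArg (fun t : zpowers C => (t : Γ)) h))
  have hC' := SchurSplit.card_zpowers_le (by norm_num) hC2
  rw [hK] at hle
  omega
where
  closure_pair_eq {u s : G} : zpowers u ⊔ zpowers s = closure {u, s} := by
    rw [Set.insert_eq, Subgroup.closure_union, zpowers_eq_closure, zpowers_eq_closure]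

end CfsgLib.SchurWreath
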