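import Cfsg.Agent.Lib.Schur.M12Data
import Cfsg.Agent.Lib.Schur.WreathBound
import Cfsg.Agent.Lib.TernaryGolay.DoubleCover
import Cfsg.Agent.Lib.Golay.Mathieu

/-!
The Schur multiplier of M12 has order 2.
-/

set_option autoImplicit false

namespace CfsgLib.SchurCoded

open Cfsg CfsgLib.Comp CfsgLib.M24Elt CfsgLib.Golay
open scoped Pointwise commutatorElement

/-- Membership of a bit position in the dodecad. -/
noncomputable def inDod (i : ℕ) : Bool := M12Data.mask.testBit i

theorem inDod_iff : ∀ x : GolayPt, x ∈ Spor.squareDodecad ↔ inDod (bit x) = true := by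
  decide +kernel

/-- The membership test for M12. -/
noncomputable def ok12 (c : ℕ) : Bool :=
  good c && PermCode.allLt 24 fun i => inDod i == inDod (PermCode.get c i)

/-- The test for M12. -/
noncomputable def t12 : Test :=
  ⟨Spor.M12, ok12, fun c h => by
    rw [ok12, Bool.and_eq_true] at h
    refine ⟨good_ok h.1, Subgroup.mem_inf.2 ⟨pm_mem h.1, ?_⟩⟩
    rw [MulAction.mem_stabilizer_iff]
    refine Finset.eq_of_subset_of_card_le (fun y hy => ?_) (Finset.card_smul_finset _ _).ge
    obtain ⟨x, hx, rfl⟩ := Finset.mem_smul_finset.1 hy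
    rw [inDod_iff] at hx ⊢
    have h2 := PermCode.allLt_spec h.2 _ (bit_lt x)
    rw [beq_iff_eq] at h2
    rw [Equiv.Perm.smul_def, bit_pm (good_ok h.1), ← h2, hx]⟩

/-- The word in the two generators of the abelian subgroup. -/
def wA (w : List ℕ) : List ℕ := word [M12Data.a, M12Data.b] w

theorem checks12 :
    ((eqw t12 [M12Data.a, M12Data.a, M12Data.a, M12Data.a] [] &&
      eqw t12 [M12Data.b, M12Data.b, M12Data.b, M12Data.b] [] &&
      eqw t12 [M12Data.a, M12Data.b] [M12Data.b, M12Data.a] &&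
      eqw t12 [M12Data.g, M12Data.a] [M12Data.b, M12Data.g] &&
      eqw t12 [M12Data.g, M12Data.b] [M12Data.a, M12Data.g] &&
      eqw t12 [M12Data.u, M12Data.u] [] && eqw t12 [M12Data.s, M12Data.s] [] &&
      eqw t12 [M12Data.u, M12Data.s] [M12Data.s, M12Data.u]) &&
    (eqw t12 [M12Data.r, M12Data.a] (wA M12Data.raW ++ [M12Data.r]) &&
      eqw t12 [M12Data.r, M12Data.b] (wA M12Data.rbW ++ [M12Data.r]) &&
      eqw t12 [M12Data.a, M12Data.r] (M12Data.r :: wA M12Data.riaW) &&
      eqw t12 [M12Data.b, M12Data.r] (M12Data.r :: wA M12Data.ribW) &&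
      eqw t12 [M12Data.u, M12Data.a] (wA M12Data.uaW ++ [M12Data.u]) &&
      eqw t12 [M12Data.u, M12Data.b] (wA M12Data.ubW ++ [M12Data.u]) &&
      eqw t12 [M12Data.s, M12Data.a] (wA M12Data.saW ++ [M12Data.s]) &&
      eqw t12 [M12Data.s, M12Data.b] (wA M12Data.sbW ++ [M12Data.s])) &&
    (eqw t12 [M12Data.u, M12Data.r] [M12Data.r, M12Data.u] &&
      eqw t12 [M12Data.r, M12Data.s, M12Data.r] [M12Data.s] &&
      eqw t12 (M12Data.r :: wA M12Data.paW) (M12Data.a :: wA M12Data.paW ++ [M12Data.r]) &&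
      eqw t12 (M12Data.r :: wA M12Data.pbW) (M12Data.b :: wA M12Data.pbW ++ [M12Data.r]) &&
      eqw t12 (M12Data.r :: wA M12Data.lxW) (wA M12Data.xW ++ wA M12Data.lxW ++ [M12Data.r]) &&
      eqw t12 (M12Data.r :: wA M12Data.leW) (wA M12Data.eW ++ wA M12Data.leW ++ [M12Data.r]) &&
      eqw t12 ([M12Data.u] ++ wA M12Data.xW ++ [M12Data.u] ++ wA M12Data.xW) [] &&
      eqw t12 (wA M12Data.eW ++ wA M12Data.eW) [] &&
      eqw t12 [M12Data.gs, M12Data.u] [M12Data.s, M12Data.gs] &&
      eqw t12 [M12Data.gus, M12Data.u] [M12Data.u, M12Data.s, M12Data.gus] &&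
      eqw t12 ([M12Data.gx, M12Data.u] ++ wA M12Data.xW) (wA M12Data.eW ++ [M12Data.gx])) &&
    ([M12Data.xW, M12Data.eW, M12Data.lxW, M12Data.leW, M12Data.paW, M12Data.pbW, M12Data.raW,
      M12Data.rbW, M12Data.riaW, M12Data.ribW, M12Data.uaW, M12Data.ubW, M12Data.saW,
      M12Data.sbW].all fun w => wordOk [M12Data.a, M12Data.b] w) &&
    ((M12Data.elts.all fun w => wordOk [M12Data.a, M12Data.b, M12Data.u, M12Data.s] w &&
      (word [M12Data.a, M12Data.b, M12Data.u, M12Data.s] w).all t12.ok) &&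
      incr (M12Data.elts.map fun w => prodc (word [M12Data.a, M12Data.b, M12Data.u, M12Data.s] w)))) =
    true := by
  decide +kernel

theorem facts12 : M12Data.elts.length = 64 ∧ M12Data.elts3.length = 3 ^ 3 ∧
    checkExtra t12 M12Data.a3 M12Data.b3 M12Data.z3 M12Data.ta3 M12Data.tb3 M12Data.elts3 = true ∧
      t12.ok M12Data.z3 = true := by
  decide +kernel

/-- The Sylow configuration in M12. -/
theorem exists_config : Nonempty (SchurWreath.Config t12.S) := by
  have h := checks12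
  simp only [Bool.and_eq_true] at h
  obtain ⟨⟨⟨⟨⟨⟨⟨⟨⟨⟨⟨a4, b4⟩, hab⟩, ga⟩, gb⟩, uu⟩, ss⟩, us⟩,
    ⟨⟨⟨⟨⟨⟨⟨ra, rb⟩, ria⟩, rib⟩, ua⟩, ub⟩, sa⟩, sb⟩⟩,
    ⟨⟨⟨⟨⟨⟨⟨⟨⟨⟨ur, sr⟩, pa⟩, pb⟩, lx⟩, le⟩, xi⟩, ee⟩, hgs⟩, hgus⟩, hgx⟩⟩, hw⟩, helts, hincr⟩ := h
  set A : Subgroup t12.S := Subgroup.closure {el t12 M12Data.a, el t12 M12Data.b}
  have hgen : ∀ c ∈ [M12Data.a, M12Data.b], el t12 c ∈ A := fun c hc => by
    simp only [List.mem_cons, List.not_mem_nil, or_false] at hc
    rcases hc with rfl | rfl <;> exact Subgroup.subset_closure (by simp)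
  have mw : ∀ w, w ∈ [M12Data.xW, M12Data.eW, M12Data.lxW, M12Data.leW, M12Data.paW, M12Data.pbW,
      M12Data.raW, M12Data.rbW, M12Data.riaW, M12Data.ribW, M12Data.uaW, M12Data.ubW, M12Data.saW,
      M12Data.sbW] → elw t12 (wA w) ∈ A := fun w hw' =>
    elw_mem hgen (List.all_eq_true.1 hw w hw')
  have cons : ∀ (c : ℕ) (l : List ℕ), elw t12 (c :: l) = el t12 c * elw t12 l := fun c l => by
    simp [elw]
  have app : ∀ l l' : List ℕ, elw t12 (l ++ l') = elw t12 l * elw t12 l' := fun l l' => by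
    simp [elw]
  have nil : elw t12 [] = 1 := rfl
  have conjEq : ∀ (d c : ℕ) (w : List ℕ), eqw t12 [d, c] (w ++ [d]) = true →
      el t12 d * el t12 c * (el t12 d)⁻¹ = elw t12 w := fun d c w h => by
    have e := eqw_spec h
    simp only [cons, app, nil, mul_one] at e
    rw [e, mul_inv_cancel_right]
  have conjEq' : ∀ (d c : ℕ) (w : List ℕ), eqw t12 [c, d] (d :: w) = true →
      (el t12 d)⁻¹ * el t12 c * el t12 d = elw t12 w := fun d c w h => by
    have e := eqw_spec h
    simp only [cons, nil, mul_one] at e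
    rw [mul_assoc, e, inv_mul_cancel_left]
  have commEq : ∀ (w x : List ℕ), eqw t12 (M12Data.r :: w) (x ++ w ++ [M12Data.r]) = true →
      ⁅el t12 M12Data.r, elw t12 w⁆ = elw t12 x := fun w x h => by
    have e := eqw_spec h
    simp only [cons, app, nil, mul_one] at e
    rw [commutatorElement_def, e]
    group
  have e4 : ∀ c : ℕ, eqw t12 [c, c, c, c] [] = true → el t12 c ^ 4 = 1 := fun c h => by
    simpa [elw, pow_succ, mul_assoc] using eqw_spec h
  refine ⟨{
    a := el t12 M12Data.a, b := el t12 M12Data.b, r := el t12 M12Data.r, g := el t12 M12Data.g,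
    u := el t12 M12Data.u, s := el t12 M12Data.s, x := elw t12 (wA M12Data.xW),
    e := elw t12 (wA M12Data.eW), lx := elw t12 (wA M12Data.lxW), le := elw t12 (wA M12Data.leW),
    pa := elw t12 (wA M12Data.paW), pb := elw t12 (wA M12Data.pbW), gs := el t12 M12Data.gs,
    gus := el t12 M12Data.gus, gx := el t12 M12Data.gx,
    a4 := e4 _ a4, b4 := e4 _ b4, comm := eq_two hab,
    ra := by rw [conjEq _ _ _ ra]; exact mw _ (by simp),
    rb := by rw [conjEq _ _ _ rb]; exact mw _ (by simp),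
    ra' := by rw [conjEq' _ _ _ ria]; exact mw _ (by simp),
    rb' := by rw [conjEq' _ _ _ rib]; exact mw _ (by simp),
    ga := eq_two ga, gb := eq_two gb,
    hpa := ⟨mw _ (by simp), (commEq _ [M12Data.a] pa).trans (by simp [elw])⟩,
    hpb := ⟨mw _ (by simp), (commEq _ [M12Data.b] pb).trans (by simp [elw])⟩,
    hlx := ⟨mw _ (by simp), commEq _ _ lx⟩,
    hle := ⟨mw _ (by simp), commEq _ _ le⟩,
    ua := by rw [conjEq _ _ _ ua]; exact mw _ (by simp),
    ub := by rw [conjEq _ _ _ ub]; exact mw _ (by simp),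
    ur := by rw [eq_two ur, mul_inv_cancel_right],
    sa := by rw [conjEq _ _ _ sa]; exact mw _ (by simp),
    sb := by rw [conjEq _ _ _ sb]; exact mw _ (by simp),
    sr := ?_, uu := eq_one_of uu, ss := eq_one_of ss, us := eq_two us,
    xinv := ?_, ee := ?_, hgs := eq_two hgs, hgus := ?_, hgx := ?_, big := ?_ }⟩
  · have e : el t12 M12Data.r * (el t12 M12Data.s * el t12 M12Data.r) = el t12 M12Data.s := by
      simpa [elw] using eqw_spec sr
    have e2 : el t12 M12Data.s * el t12 M12Data.r = (el t12 M12Data.r)⁻¹ * el t12 M12Data.s :=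
      eq_inv_mul_of_mul_eq e
    rw [e2, mul_inv_cancel_right]
  · have e := eqw_spec xi
    simp only [cons, app, nil, mul_one] at e
    rwa [inv_eq_of_mul_eq_one_right (eq_one_of uu)]
  · have e := eqw_spec ee
    simpa only [cons, app, nil, mul_one] using e
  · have e := eqw_spec hgus
    simpa only [cons, app, nil, mul_one, mul_assoc] using e
  · have e := eqw_spec hgx
    simpa only [cons, app, nil, mul_one, mul_assoc] using e
  · rw [← facts12.1]
    refine card_ge_of_words (gs := [M12Data.a, M12Data.b, M12Data.u, M12Data.s]) (fun c hc => ?_)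
      helts hincr
    simp only [List.mem_cons, List.not_mem_nil, or_false] at hc
    rcases hc with rfl | rfl | rfl | rfl
    · exact SetLike.le_def.1 le_sup_left (Subgroup.subset_closure (by simp))
    · exact SetLike.le_def.1 le_sup_left (Subgroup.subset_closure (by simp))
    · exact SetLike.le_def.1 le_sup_right (Subgroup.subset_closure (by simp))
    · exact SetLike.le_def.1 le_sup_right (Subgroup.subset_closure (by simp))

theorem multiplier_M12 : Cfsg.HasCyclicSchurMultiplier Spor.M12 2 := by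
  obtain ⟨D⟩ := exists_config
  refine SchurBound.hasCyclic_of_squarefree Nat.prime_two.squarefree
    TernaryGolay.DoubleCover.exists_stem fun Γ _ _ σ hσ r hr => ?_
  obtain ⟨hs, hc, hd⟩ := hσ
  have : Finite Spor.M12 := inferInstance
  have h2 : (Nat.card t12.S).factorization 2 = 6 := by
    show (Nat.card Spor.M12).factorization 2 = 6
    rw [Golay.card_M12, show (95040 : ℕ) = 2 ^ 6 * 1485 by norm_num,
      Nat.factorization_mul (by norm_num) (by norm_num), Nat.Prime.factorization_pow Nat.prime_two]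
    simp [Nat.factorization_eq_zero_of_not_dvd (show ¬ 2 ∣ 1485 by norm_num)]
  have h3 : (Nat.card t12.S).factorization 3 = 3 := by
    show (Nat.card Spor.M12).factorization 3 = 3
    rw [Golay.card_M12, show (95040 : ℕ) = 3 ^ 3 * 3520 by norm_num,
      Nat.factorization_mul (by norm_num) (by norm_num), Nat.Prime.factorization_pow Nat.prime_three]
    simp [Nat.factorization_eq_zero_of_not_dvd (show ¬ 3 ∣ 3520 by norm_num)]
  by_cases hr2 : r = 2
  · subst hr2
    exact ⟨SchurWreath.not_four_dvd (G := t12.S) hs hc hd D h2, fun _ => dvd_rfl⟩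
  have hno : ¬ r ∣ Nat.card σ.ker := by
    by_cases hr3 : r = 3
    · subst hr3
      exact not_three_dvd_extra (τ := t12) facts12.2.2.1 facts12.2.2.2 facts12.2.1 h3 σ hs hc hd
    have := Fact.mk hr
    refine SchurBound.not_dvd_card_ker_of_sq_not_dvd σ hs hc hd fun hsq => ?_
    rw [Golay.card_M12, show (95040 : ℕ) = 2 ^ 6 * (3 ^ 3 * 55) by norm_num] at hsq
    have c2 : Nat.Coprime (r ^ 2) (2 ^ 6) :=
      Nat.Coprime.pow _ _ ((Nat.coprime_primes hr Nat.prime_two).2 hr2)
    have c3 : Nat.Coprime (r ^ 2) (3 ^ 3) :=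
      Nat.Coprime.pow _ _ ((Nat.coprime_primes hr Nat.prime_three).2 hr3)
    have h55 := c3.dvd_of_dvd_mul_left (c2.dvd_of_dvd_mul_left hsq)
    have hsf : Squarefree (55 : ℕ) := by decide +kernel
    exact hr.ne_one (Nat.isUnit_iff.1 (hsf r (by rwa [← sq])))
  exact ⟨fun h => hno ((dvd_pow_self r two_ne_zero).trans h), fun h => absurd h hno⟩

end CfsgLib.SchurCoded
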