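import Cfsg.Agent.Lib.Schur.CodedCert

/-!
Certificates for the multiplier of M12.
-/

set_option autoImplicit false
set_option maxRecDepth 100000

namespace CfsgLib.SchurCoded.M12Data

/-- The dodecad of squares as a bit mask. -/
def mask : ℕ := 340831
/-- The element `a`. -/
def a : ℕ := 540786857221924097932410247611213793024870550835351257856
/-- The element `b`. -/
def b : ℕ := 540782010876874835126451757948661898132349611229925605641
/-- The element `r`. -/
def r : ℕ := 417805234332076274696290981658218873236369258064587522561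
/-- The element `g`. -/
def g : ℕ := 343761663628332977943236630821152989489550332976339353601
/-- The element `u`. -/
def u : ℕ := 541648906344758122082845771295917763231938757760838536201
/-- The element `s`. -/
def s : ℕ := 343762043578883904871741844165899776296501189366113371651
/-- The element `gs`. -/
def gs : ℕ := 345489086881658492821533516482466643678530887918056505856
/-- The element `gus`. -/
def gus : ℕ := 418663895876779496911984601067422625433201825370935067136
/-- The element `gx`. -/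
def gx : ℕ := 516265810462540316675886838500738844037567677999903539201
/-- The word `xW`. -/
def xW : List ℕ := [1]
/-- The word `eW`. -/
def eW : List ℕ := [1, 1]
/-- The word `lxW`. -/
def lxW : List ℕ := [1, 0, 0, 0]
/-- The word `leW`. -/
def leW : List ℕ := [1, 1, 0, 0]
/-- The word `paW`. -/
def paW : List ℕ := [1, 0, 0]
/-- The word `pbW`. -/
def pbW : List ℕ := [1, 0, 0, 0]
/-- The word `raW`. -/
def raW : List ℕ := [1]
/-- The word `rbW`. -/
def rbW : List ℕ := [1, 1, 1, 0, 0, 0]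
/-- The word `riaW`. -/
def riaW : List ℕ := [1, 1, 1, 0, 0, 0]
/-- The word `ribW`. -/
def ribW : List ℕ := [0]
/-- The word `uaW`. -/
def uaW : List ℕ := [0, 0, 0]
/-- The word `ubW`. -/
def ubW : List ℕ := [1, 1, 1]
/-- The word `saW`. -/
def saW : List ℕ := [1]
/-- The word `sbW`. -/
def sbW : List ℕ := [0]
/-- The element `a3`. -/
def a3 : ℕ := 245686069020218856335864600377447161547846613368839342336
/-- The element `b3`. -/
def b3 : ℕ := 491743632603337994282984802654662012266171453497426313476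
/-- The element `z3`. -/
def z3 : ℕ := 172988324851525177533734656252535928244160267222826942726
/-- The element `ta3`. -/
def ta3 : ℕ := 245875386073654333385420723680896694131426279160740577536
/-- The element `tb3`. -/
def tb3 : ℕ := 245875386073654333385420723680896694131426279160740577536
/-- The elements of the Sylow 2-subgroup as words. -/
def elts : List (List ℕ) := [[2, 1, 0], [3, 2, 1, 1, 0, 0], [3, 0, 2, 1], [3, 2], [3, 1, 2, 0], [2, 0, 0], [2, 1, 1], [1, 0, 2], [1, 1, 1], [3, 1, 1, 0, 0, 0], [3, 1, 1, 1, 0, 0], [3, 0], [3, 1], [0, 0, 0], [1, 1, 0], [1, 0, 0], [0, 0], [3, 1, 1, 1, 0], [3], [3, 1, 0, 0, 0], [3, 1, 1, 0, 0], [1, 0], [2, 1, 0, 2], [1, 1], [0, 2], [3, 2, 1], [3, 2, 0], [3, 1, 2, 0, 0], [3, 0, 2, 1, 1], [1, 2], [2, 1, 0, 0], [2, 1, 1, 0], [1], [3, 0, 0, 0], [3, 1, 0, 0], [3, 1, 1, 0], [3, 1, 1, 1], [1, 1, 0, 0, 0], [0], [1, 1, 1, 0, 0], [1, 2, 0], [3, 2, 0, 0], [3, 1, 0, 2], [3, 2, 1, 1], [3, 2, 1, 0], [2, 1, 1, 0, 0], [2], [0, 2, 1], [0, 2, 1,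 1], [3, 1, 2], [3, 2, 1, 1, 0], [3, 2, 1, 0, 0], [3, 0, 2], [2, 1], [1, 2, 0, 0], [2, 0], [1, 1, 0, 0], [3, 1, 0], [3, 1, 1], [3, 2, 1, 0, 2], [3, 0, 0], [1, 1, 1, 0], [1, 0, 0, 0], []]
/-- The elements of the Sylow 3-subgroup as words. -/
def elts3 : List (List ℕ) := [[0, 1, 0], [1, 1, 0, 1, 0], [1, 0, 1, 0], [1, 1], [1, 1, 0, 1, 0, 0], [0, 0, 1, 0], [0], [1, 0, 1], [0, 0, 1, 0, 0], [1, 1, 0], [0, 1], [1, 0, 1, 1], [0, 1, 1, 0], [0, 0, 1], [1, 0, 1, 1, 0], [0, 0], [1, 1, 0, 0], [1, 0, 0], [1, 0, 1, 1, 0, 0], [1], [1, 0, 1, 0, 0], [1, 0], [1, 1, 0, 1], [0, 1, 1], [0, 1, 0, 0], [0, 1, 1, 0, 0], []]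

end CfsgLib.SchurCoded.M12Data
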