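import Cfsg.Agent.Lib.Schur.M21Three

/-!
The Schur multiplier of PSL(3,4), in the model of a three-point stabiliser of M24.
-/

set_option autoImplicit false

namespace CfsgLib.SchurM21

open Cfsg CfsgLib.Comp CfsgLib.M24Elt CfsgLib.Golay CfsgLib.SchurCoded Subgroup

universe u v

/-- Stem extensions with kernels of coprime orders combine. -/
theorem exists_stem_coprime_mul {G : Type u} [Group G] {p q : ℕ} (hcop : p.Coprime q)
    (hp : ∃ (Γ : Type u) (_ : Group Γ) (_ : Finite Γ) (σ : Γ →* G),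
      Cfsg.IsStemExtension σ ∧ Nat.card σ.ker = p)
    (hq : ∃ (Γ : Type u) (_ : Group Γ) (_ : Finite Γ) (σ : Γ →* G),
      Cfsg.IsStemExtension σ ∧ Nat.card σ.ker = q) :
    ∃ (Γ : Type u) (_ : Group Γ) (_ : Finite Γ) (σ : Γ →* G),
      Cfsg.IsStemExtension σ ∧ Nat.card σ.ker = p * q := by
  obtain ⟨A, _, _, f, hf, hfk⟩ := hp
  obtain ⟨B, _, _, g, hg, hgk⟩ := hq
  let σ : Schur.fibre f g →* G := f.comp (Schur.fibreFst f g)
  -- components of kernel elements as elements of the derived subgroup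
  have hfst : ∀ a : A, f a = 1 → ∃ h : (a, (1 : B)) ∈ Schur.fibre f g,
      (⟨(a, 1), h⟩ : Schur.fibre f g) ∈ _root_.commutator (Schur.fibre f g) := by
    intro a ha
    refine ⟨by rw [Schur.mem_fibre, ha, map_one], ?_⟩
    obtain ⟨a', ha', rfl⟩ : ∃ a', f a' = 1 ∧ a' ^ q = a := by
      have hbij := (powCoprime (G := f.ker) (n := q) (by rw [hfk]; exact hcop)).surjective ⟨a, ha⟩
      obtain ⟨a', ha'⟩ := hbij
      exact ⟨a', a'.2, congrArg Subtype.val ha'⟩
    have hmem : a' ∈ (_root_.commutator (Schur.fibre f g)).map (Schur.fibreFst f g) := by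
      rw [_root_.commutator_def, map_commutator,
        map_top_of_surjective _ (Schur.fibreFst_surjective f hg.1)]
      exact hf.2.2 ha'
    obtain ⟨w, hw, hwa⟩ := hmem
    have hw1 : (w : A × B).1 = a' := hwa
    have hw2 : (w : A × B).2 ^ q = 1 := by
      have hk : g (w : A × B).2 = 1 := by
        rw [← Schur.mem_fibre.1 w.2, hw1, ha']
      have := pow_card_eq_one' (x := (⟨(w : A × B).2, hk⟩ : g.ker))
      rw [hgk] at this
      exact congrArg Subtype.val this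
    convert pow_mem hw q using 1
    exact Subtype.ext (Prod.ext (congrArg (· ^ q) hw1).symm hw2.symm)
  have hsnd : ∀ b : B, g b = 1 → ∃ h : ((1 : A), b) ∈ Schur.fibre f g,
      (⟨(1, b), h⟩ : Schur.fibre f g) ∈ _root_.commutator (Schur.fibre f g) := by
    intro b hb
    refine ⟨by rw [Schur.mem_fibre, hb, map_one], ?_⟩
    obtain ⟨b', hb', rfl⟩ : ∃ b', g b' = 1 ∧ b' ^ p = b := by
      obtain ⟨b', hb'⟩ :=
        (powCoprime (G := g.ker) (n := p) (by rw [hgk]; exact hcop.symm)).surjective ⟨b, hb⟩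
      exact ⟨b', b'.2, congrArg Subtype.val hb'⟩
    have hmem : b' ∈ (_root_.commutator (Schur.fibre f g)).map (Schur.fibreSnd f g) := by
      rw [_root_.commutator_def, map_commutator,
        map_top_of_surjective _ (Schur.fibreSnd_surjective g hf.1)]
      exact hg.2.2 hb'
    obtain ⟨w, hw, hwb⟩ := hmem
    have hw2 : (w : A × B).2 = b' := hwb
    have hw1 : (w : A × B).1 ^ p = 1 := by
      have hk : f (w : A × B).1 = 1 := by
        rw [Schur.mem_fibre.1 w.2, hw2, hb']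
      have := pow_card_eq_one' (x := (⟨(w : A × B).1, hk⟩ : f.ker))
      rw [hfk] at this
      exact congrArg Subtype.val this
    convert pow_mem hw p using 1
    exact Subtype.ext (Prod.ext hw1.symm (congrArg (· ^ p) hw2).symm)
  refine ⟨Schur.fibre f g, inferInstance, inferInstance, σ,
    ⟨hf.1.comp (Schur.fibreFst_surjective f hg.1), ?_, ?_⟩, ?_⟩
  · intro z hz
    have h1 : f (z : A × B).1 = 1 := hz
    have h2 : g (z : A × B).2 = 1 := by rw [← Schur.mem_fibre.1 z.2, h1]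
    exact mem_center_iff.2 fun w => Subtype.ext (Prod.ext (mem_center_iff.1 (hf.2.1 h1) _)
      (mem_center_iff.1 (hg.2.1 h2) _))
  · intro z hz
    have h1 : f (z : A × B).1 = 1 := hz
    have h2 : g (z : A × B).2 = 1 := by rw [← Schur.mem_fibre.1 z.2, h1]
    obtain ⟨_, ha⟩ := hfst _ h1
    obtain ⟨_, hb⟩ := hsnd _ h2
    convert mul_mem ha hb using 1
    exact Subtype.ext (Prod.ext (mul_one _).symm (one_mul _).symm)
  · rw [← hfk, ← hgk, ← Nat.card_prod]
    exact Nat.card_congr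
      { toFun := fun z => (⟨(z.1 : A × B).1, z.2⟩, ⟨(z.1 : A × B).2, by
          rw [MonoidHom.mem_ker, ← Schur.mem_fibre.1 z.1.2]; exact z.2⟩)
        invFun := fun ab => ⟨⟨((ab.1 : A), (ab.2 : B)), by
          rw [Schur.mem_fibre, MonoidHom.mem_ker.1 ab.1.2, MonoidHom.mem_ker.1 ab.2.2]⟩, ab.1.2⟩
        left_inv := fun _ => rfl
        right_inv := fun _ => rfl }


/-- Isomorphisms carry stem extensions to stem extensions. -/
theorem stem_congr {Γ : Type u} {Γ' : Type v} {G G' : Type*} [Group Γ] [Group Γ'] [Group G] [Group G']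
    (f : Γ' ≃* Γ) (g : G ≃* G') {σ : Γ →* G} (h : Cfsg.IsStemExtension σ) :
    Cfsg.IsStemExtension (g.toMonoidHom.comp (σ.comp f.toMonoidHom)) ∧
      Nat.card (g.toMonoidHom.comp (σ.comp f.toMonoidHom)).ker = Nat.card σ.ker := by
  obtain ⟨hs, hc, hd⟩ := h
  have hker : ∀ x, x ∈ (g.toMonoidHom.comp (σ.comp f.toMonoidHom)).ker ↔ f x ∈ σ.ker := fun x => by
    rw [MonoidHom.mem_ker, MonoidHom.mem_ker]
    exact map_eq_one_iff g g.injective
  refine ⟨⟨g.surjective.comp (hs.comp f.surjective), fun x hx => ?_, fun x hx => ?_⟩, ?_⟩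
  · exact mem_center_iff.2 fun y => f.injective (by
      rw [map_mul, map_mul]; exact mem_center_iff.1 (hc ((hker x).1 hx)) (f y))
  · have h1 : f x ∈ (_root_.commutator Γ').map f.toMonoidHom := by
      rw [_root_.commutator_def, map_commutator, map_top_of_surjective f.toMonoidHom f.surjective]
      exact hd ((hker x).1 hx)
    exact (mem_map_iff_mem (f := f.toMonoidHom) f.injective).1 h1
  · exact Nat.card_congr
      { toFun := fun x => ⟨f x, (hker x).1 x.2⟩
        invFun := fun y => ⟨f.symm y, (hker _).2 (by rw [f.apply_symm_apply]; exact y.2)⟩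
        left_inv := fun x => Subtype.ext (f.symm_apply_apply _)
        right_inv := fun y => Subtype.ext (f.apply_symm_apply _) }

theorem surjection {Γ : Type u} [Group Γ] [Finite Γ] (σ : Γ →* t21.S)
    (hσ : Cfsg.IsStemExtension σ) :
    ∃ π : Multiplicative (ZMod 3 × ZMod 4 × ZMod 4) →* σ.ker, Function.Surjective π := by
  classical
  obtain ⟨hs, hc, hd⟩ := hσ
  have : Fact (Nat.Prime 3) := ⟨Nat.prime_three⟩
  let instC : CommGroup σ.ker := { (inferInstance : Group σ.ker) with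
    mul_comm := fun a b => Subtype.ext (mem_center_iff.1 (hc b.2) a) }
  obtain ⟨z₀, z₁, h0, h1, hm0, hm1, hz⟩ := two_part σ hs hc hd
  have h9 := nine_not_dvd σ hs hc hd
  have hother : ∀ p : ℕ, p.Prime → p ∣ Nat.card σ.ker → p = 2 ∨ p = 3 := by
    intro p hp hpd
    by_contra hcon
    push Not at hcon
    have := Fact.mk hp
    refine absurd hpd (SchurBound.not_dvd_card_ker_of_sq_not_dvd σ hs hc hd fun hsq => ?_)
    rw [show Nat.card t21.S = 2 ^ 6 * (3 ^ 2 * (5 * 7)) from card_t21.trans (by norm_num)] at hsq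
    have c2 : Nat.Coprime (p ^ 2) (2 ^ 6) :=
      Nat.Coprime.pow _ _ ((Nat.coprime_primes hp Nat.prime_two).2 hcon.1)
    have c3 : Nat.Coprime (p ^ 2) (3 ^ 2) :=
      Nat.Coprime.pow _ _ ((Nat.coprime_primes hp Nat.prime_three).2 hcon.2)
    have h' := c3.dvd_of_dvd_mul_left (c2.dvd_of_dvd_mul_left hsq)
    have hsf : Squarefree (5 * 7 : ℕ) := by decide +kernel
    exact hp.ne_one (Nat.isUnit_iff.1 (hsf p (by rwa [← sq])))
  have hn : Nat.card σ.ker ≠ 0 := Nat.card_pos.ne'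
  obtain ⟨f, r, hr2, hfr⟩ : ∃ f r : ℕ, ¬ 2 ∣ r ∧ Nat.card σ.ker = 2 ^ f * r :=
    Nat.exists_eq_pow_mul_and_not_dvd hn 2 (by norm_num)
  have hr3 : r ∣ 3 := by
    refine (Nat.dvd_iff_prime_pow_dvd_dvd 3 r).2 fun p k hp hpk => ?_
    rcases Nat.eq_zero_or_pos k with rfl | hk
    · simp
    have hd' : p ^ k ∣ Nat.card σ.ker := hpk.trans (hfr ▸ dvd_mul_left r _)
    rcases hother p hp ((dvd_pow_self p hk.ne').trans hd') with rfl | rfl
    · exact absurd ((dvd_pow_self 2 hk.ne').trans hpk) hr2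
    · obtain rfl : k = 1 := by
        by_contra hk1
        exact h9 ((pow_dvd_pow 3 (by omega : 2 ≤ k)).trans hd')
      norm_num
  obtain ⟨w, hw, hw3⟩ : ∃ w : σ.ker, w ^ 3 = 1 ∧ ∀ y : σ.ker, y ^ r = 1 → y ∈ zpowers w := by
    rcases (Nat.dvd_prime Nat.prime_three).1 hr3 with rfl | rfl
    · exact ⟨1, one_pow _, fun y hy => by rw [pow_one] at hy; rw [hy]; exact one_mem _⟩
    obtain ⟨w, hw⟩ := exists_prime_orderOf_dvd_card' (G := σ.ker) 3 (hfr ▸ dvd_mul_left 3 _)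
    refine ⟨w, hw ▸ pow_orderOf_eq_one w, fun y hy => ?_⟩
    let K : Subgroup σ.ker := (powMonoidHom 3 : σ.ker →* σ.ker).ker
    have hK : IsPGroup 3 K := fun x => ⟨1, by
      rw [pow_one]; exact Subtype.ext x.2⟩
    obtain ⟨k, hk⟩ := hK.exists_card_eq
    have hle : zpowers w ≤ K := zpowers_le.2 (by
      show w ^ 3 = 1; exact hw ▸ pow_orderOf_eq_one w)
    have hk1 : k ≤ 1 := by
      by_contra hk1
      exact h9 ((pow_dvd_pow 3 (by omega : 2 ≤ k)).trans (hk ▸ K.card_subgroup_dvd_card))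
    have heq := Subgroup.eq_of_le_of_card_ge hle (by
      rw [Nat.card_zpowers, hw, hk]
      calc 3 ^ k ≤ 3 ^ 1 := Nat.pow_le_pow_right (by norm_num) hk1
        _ = 3 := by norm_num)
    rw [heq]
    exact hy
  let Z₀ : σ.ker := ⟨z₀, hm0⟩
  let Z₁ : σ.ker := ⟨z₁, hm1⟩
  have hlift : ∀ (n : ℕ) (g : σ.ker), g ^ n = 1 →
      (n : ℤ) • Additive.ofMul g = 0 := fun n g hg => by
    rw [natCast_zsmul, ← ofMul_pow, hg, ofMul_one]
  let l₃ : ZMod 3 →+ Additive σ.ker := ZMod.lift 3 ⟨zmultiplesHom _ (Additive.ofMul w), by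
    rw [zmultiplesHom_apply]; exact hlift 3 w hw⟩
  let l₀ : ZMod 4 →+ Additive σ.ker := ZMod.lift 4 ⟨zmultiplesHom _ (Additive.ofMul Z₀), by
    rw [zmultiplesHom_apply]; exact hlift 4 Z₀ (Subtype.ext h0)⟩
  let l₁ : ZMod 4 →+ Additive σ.ker := ZMod.lift 4 ⟨zmultiplesHom _ (Additive.ofMul Z₁), by
    rw [zmultiplesHom_apply]; exact hlift 4 Z₁ (Subtype.ext h1)⟩
  let π₀ : ZMod 3 × ZMod 4 × ZMod 4 →+ Additive σ.ker := l₃.coprod (l₀.coprod l₁)
  refine ⟨AddMonoidHom.toMultiplicativeLeft π₀, fun x => ?_⟩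
  have hcop : Nat.Coprime (2 ^ f) r :=
    Nat.Coprime.pow_left f ((Nat.Prime.coprime_iff_not_dvd Nat.prime_two).2 hr2)
  obtain ⟨s, t, hst⟩ : ∃ s t : ℤ, (2 ^ f : ℕ) * s + (r : ℕ) * t = 1 :=
    ⟨_, _, (Nat.gcd_eq_gcd_ab (2 ^ f) r).symm.trans (by rw [hcop.gcd_eq_one]; norm_num)⟩
  have hcard : x ^ ((2 ^ f * r : ℕ) : ℤ) = 1 := by
    rw [zpow_natCast, ← hfr, pow_card_eq_one']
  have hy : (x ^ (((2 ^ f : ℕ) : ℤ) * s)) ^ r = 1 := by
    rw [← zpow_natCast, ← zpow_mul, show ((2 ^ f : ℕ) : ℤ) * s * (r : ℤ) =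
      ((2 ^ f * r : ℕ) : ℤ) * s by push_cast; ring, zpow_mul, hcard, one_zpow]
  obtain ⟨a, ha⟩ := mem_zpowers_iff.1 (hw3 _ hy)
  have hz' : (x ^ ((r : ℤ) * t)) ^ 2 ^ f = 1 := by
    rw [← zpow_natCast, ← zpow_mul, show (r : ℤ) * t * ((2 ^ f : ℕ) : ℤ) =
      ((2 ^ f * r : ℕ) : ℤ) * t by push_cast; ring, zpow_mul, hcard, one_zpow]
  obtain ⟨b, c, hbc⟩ := hz _ (x ^ ((r : ℤ) * t)).2 f (congrArg Subtype.val hz')
  refine ⟨Multiplicative.ofAdd (((a : ZMod 3), (b : ZMod 4), (c : ZMod 4))), ?_⟩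
  have hbc' : x ^ ((r : ℤ) * t) = Z₀ ^ b * Z₁ ^ c := Subtype.ext (by
    rw [hbc, Subgroup.coe_mul, Subgroup.coe_zpow, Subgroup.coe_zpow])
  show Additive.toMul (π₀ _) = x
  simp only [π₀, toAdd_ofAdd, AddMonoidHom.coprod_apply, l₃, l₀, l₁, ZMod.lift_coe, zmultiplesHom_apply,
    toMul_add, toMul_zsmul, toMul_ofMul]
  rw [ha, ← hbc', ← zpow_add, hst, zpow_one]

/-- The Schur multiplier of a group isomorphic to a three-point stabiliser of M24. -/
theorem hasMultiplier {G : Type u} [Group G] (φ : G ≃* t21.S) :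
    Cfsg.HasSchurMultiplier G (Multiplicative (ZMod 3 × ZMod 4 × ZMod 4)) := by
  refine ⟨?_, fun Γ _ _ σ hσ => ?_⟩
  · obtain ⟨Γ, i1, i2, σ, hσ, hk⟩ := exists_stem_coprime_mul (p := 3) (q := 16) (by norm_num)
      exists_stem_three exists_stem_sixteen
    obtain ⟨π, hπ⟩ := surjection σ hσ
    have hA : Nat.card (Multiplicative (ZMod 3 × ZMod 4 × ZMod 4)) = 48 := by
      rw [Nat.card_congr Multiplicative.toAdd, Nat.card_prod, Nat.card_prod, Nat.card_zmod,
        Nat.card_zmod]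
    obtain ⟨hσ', hk'⟩ := stem_congr (MulEquiv.ulift : ULift.{u} Γ ≃* Γ) φ.symm hσ
    refine ⟨ULift.{u} Γ, inferInstance, inferInstance, _, hσ', ?_⟩
    have hbij : Function.Bijective π :=
      (Nat.bijective_iff_surjective_and_card _).2 ⟨hπ, by rw [hA, hk]⟩
    let e := MulEquiv.ofBijective π hbij
    refine ⟨MulEquiv.trans ?_ e.symm⟩
    exact
      { toFun := fun x => ⟨(MulEquiv.ulift : ULift.{u} Γ ≃* Γ) x.1, by
          have h := x.2
          rw [MonoidHom.mem_ker] at h ⊢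
          exact φ.symm.injective (h.trans (map_one _).symm)⟩
        invFun := fun y => ⟨(MulEquiv.ulift : ULift.{u} Γ ≃* Γ).symm y.1, by
          rw [MonoidHom.mem_ker]
          show φ.symm (σ ((MulEquiv.ulift : ULift.{u} Γ ≃* Γ) ((MulEquiv.ulift : ULift.{u} Γ ≃* Γ).symm y.1))) = 1
          rw [MulEquiv.apply_symm_apply, MonoidHom.mem_ker.1 y.2, map_one]⟩
        left_inv := fun x => Subtype.ext (MulEquiv.symm_apply_apply _ _)
        right_inv := fun y => Subtype.ext (MulEquiv.apply_symm_apply _ _)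
        map_mul' := fun a b => Subtype.ext (map_mul (MulEquiv.ulift : ULift.{u} Γ ≃* Γ) a.1 b.1) }
  · obtain ⟨hσ', -⟩ := stem_congr (MulEquiv.refl Γ) φ hσ
    obtain ⟨π, hπ⟩ := surjection _ hσ'
    let e : (φ.toMonoidHom.comp (σ.comp (MulEquiv.refl Γ).toMonoidHom)).ker ≃* σ.ker :=
      MulEquiv.subgroupCongr (by ext x; simp [MonoidHom.mem_ker])
    exact ⟨e.toMonoidHom.comp π, e.surjective.comp hπ⟩

end CfsgLib.SchurM21
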