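import Cfsg.Agent.Lib.Schur.TailBoundTwo

/-!
The certificate for the 2-part of the multiplier of PSL(3,4), in the model of a three-point
stabiliser of M24.
-/

set_option autoImplicit false
set_option maxRecDepth 100000

namespace CfsgLib.SchurM21.Data

open CfsgLib.SchurTail

/-- The letters of the Sylow subgroup. -/
def letters : List ℕ := [565881867759151152007409359652478653701936361297368187136, 565690280971393931242514986042040952275218304931094200576, 566070433572312025701693581474854504046007381806412923136, 565686913614532483908492446189458326582077610128495083776, 566072678501624992997778164283105666677668598322118983936, 566068188660124985733512514825846660117968570330054328576]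

/-- The conjugating elements. -/
def conjugators : List ℕ := [565875483903161965623639027776629384801814928927723684096, 565496497489095805797898978699279803809335911880367145216, 564919178063864706513420119442842844774869806546647449856, 565784214518659005211921273914087353652160409939489915136]

/-- The certificate. -/
def tail : TailDataTwo where
  n := 6
  derived := [4, 5]
  defs := [(4, 0, 2), (5, 0, 3)]
  rules := [(0, 0, []), (1, 1, []), (2, 2, []), (3, 3, [4, 5]), (4, 4, []), (5, 5, []), (1, 0, [0, 1]), (2, 0, [0, 2, 4]), (2, 1, [1, 2, 5]), (3, 0, [0, 3, 5]), (3, 1, [1, 3, 4, 5]), (3, 2, [2, 3, 5]), (4, 0, [0, 4]), (4, 1, [1, 4]), (4, 2, [2, 4]), (4, 3, [3, 4]), (5, 0, [0, 5]), (5, 1, [1, 5]), (5, 2, [2, 5]), (5, 3, [3, 5]), (5, 4, [4, 5])]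
  conjs := [(0, [2], [1, 3, 5]), (0, [1, 3, 4, 5], [1, 3, 4]), (0, [4], [2, 4, 5]), (0, [1, 3, 4], [5]), (1, [1, 4], [2, 5]), (1, [0, 1, 5], [1, 3, 4]), (2, [0, 4], [1, 3, 4, 5]), (2, [1, 5], [1, 2, 3, 5]), (3, [2], [0]), (3, [1, 2, 3], [0, 1])]
  srcs := [.word [[2, 0], [0]] [[2], [0, 0]], .word [[2, 1], [0]] [[2], [1, 0]], .word [[2, 1], [1]] [[2], [1, 1]], .word [[2, 2], [0]] [[2], [2, 0]], .word [[2, 2], [1]] [[2], [2, 1]], .word [[3, 0], [0]] [[3], [0, 0]], .word [[3, 1], [0]] [[3], [1, 0]], .word [[3, 1], [1]] [[3], [1, 1]], .word [[3, 2], [0]] [[3], [2, 0]], .word [[3, 2], [1]] [[3], [2, 1]], .word [[3, 2], [2]] [[3], [2, 2]], .word [[3, 3], [0]] [[3], [3, 0]], .word [[3, 3], [1]] [[3], [3, 1]], .word [[3, 3], [2]] [[3], [3, 2]], .word [[0, 2]] [[4, 2, 0]], .word [[0, 3]] [[5, 3, 0]], .conj 0 [1, 0] [0, 1], .conj 1 [5, 4] [4, 5]]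
  k := 8
  k' := 10
  targets := [(4, (2, 0), [(0, -1), (2, -6), (4, -6), (6, -2), (7, 1), (8, -1), (10, -5), (11, 1), (12, 1), (13, -4), (14, -2), (15, -2), (16, -2)]), (5, (0, 2), [(0, -2), (1, -5), (2, -5), (3, -1), (4, -6), (5, 4), (6, -6), (7, -2), (8, -3), (10, -6), (11, 6), (12, -1), (13, -5), (14, -2), (15, -4), (16, -2)]), (6, (0, 0), [(0, -4), (1, -10), (2, 1), (3, -4), (4, 1), (5, 12), (6, -9), (7, -6), (8, -5), (9, 5), (10, 1), (11, 12), (12, -6), (13, 1), (16, 1), (17, 1)]), (7, (2, 0), [(0, 4), (1, 8), (2, -2), (3, 3), (4, -2), (5, -10), (6, 6), (7, 5), (8, 3), (9, -4), (10, -3), (11, -9), (12, 5), (13, -2), (14, 1), (15, -2), (16, -2)]), (8, (1, 0), []), (9, (2, 0), [(0, 3), (1, 8), (2, -3), (3, 3), (4, -3), (5, -9), (6, 6), (7, 5), (8, 3), (9, -3), (10, -3), (11, -9), (12, 5), (13, -2), (15, -1), (16, -2)]), (10, (0, 1), []), (11, (1, 2), [(0, -3), (1, -6), (2, -4), (3, -2), (4, -4), (5, 6),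 (6, -6), (7, -3), (8, -3), (9, 2), (10, -3), (11, 7), (12, -2), (13, -3), (14, -2), (15, -2), (16, -1)]), (12, (2, 0), [(0, 4), (1, 8), (2, -2), (3, 4), (4, -2), (5, -10), (6, 6), (7, 5), (8, 3), (9, -4), (10, -3), (11, -9), (12, 5), (13, -2), (15, -2), (16, -2)]), (13, (0, 2), [(0, -4), (1, -10), (2, -3), (3, -3), (4, -3), (5, 10), (6, -9), (7, -5), (8, -4), (9, 3), (10, -2), (11, 11), (12, -4), (13, -2), (14, -2), (15, -2)]), (14, (2, 0), [(0, 3), (1, 8), (2, -2), (3, 3), (4, -2), (5, -10), (6, 6), (7, 5), (8, 3), (9, -4), (10, -3), (11, -9), (12, 5), (13, -2), (15, -2), (16, -2)]), (15, (2, 0), [(0, 3), (1, 6), (2, -3), (3, 3), (4, -3), (5, -8), (6, 4), (7, 4), (8, 3), (9, -3), (10, -3), (11, -7), (12, 4), (13, -2), (15, -2), (16, -2)]), (16, (0, 2), [(0, -5), (1, -11), (2, -3), (3, -4), (4, -3), (5, 12), (6, -10), (7, -6), (8, -5), (9, 4), (10, -2), (11, 13), (12, -5), (13, -2), (14, -2), (15, -2)]), (17,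 (2, 2), [(0, -2), (1, -5), (2, -5), (3, -1), (4, -5), (5, 4), (6, -6), (7, -2), (8, -3), (9, 1), (10, -5), (11, 6), (12, -1), (13, -4), (14, -2), (15, -4), (16, -2)]), (18, (2, 2), [(0, -2), (1, -5), (2, -6), (3, -1), (4, -6), (5, 4), (6, -6), (7, -2), (8, -3), (9, 1), (10, -5), (11, 6), (12, -1), (13, -4), (14, -2), (15, -4), (16, -2)]), (19, (2, 0), [(0, 3), (1, 8), (2, -3), (3, 3), (4, -3), (5, -10), (6, 6), (7, 5), (8, 3), (9, -3), (10, -3), (11, -9), (12, 5), (13, -2), (15, -2), (16, -2)]), (20, (0, 0), [(0, -1), (1, -2), (3, -1), (5, 2), (6, -1), (7, -1), (8, -1), (9, 1), (11, 2), (12, -1)])]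
  four := [(0, -5), (1, -12), (2, 6), (3, -5), (4, 6), (5, 15), (6, -8), (7, -8), (8, -4), (9, 6), (10, 7), (11, 13), (12, -8), (13, 5), (15, 4), (16, 4)]
  four' := [(0, 9), (1, 22), (2, 5), (3, 7), (4, 5), (5, -23), (6, 20), (7, 12), (8, 10), (9, -7), (10, 4), (11, -25), (12, 10), (13, 4), (14, 4), (15, 4)]
  forms := [[0, 1, 4, 5], [0, 1, 2], [0, 3, 4], [0, 1, 5], [0, 1, 2, 4], [0, 3, 4, 5], [0, 1, 2, 5], [0, 2, 3, 5], [0, 3, 5], [0, 1, 2, 4, 5], [0, 2, 3, 4], [0, 2, 3], [0, 2, 3, 4, 5], [0, 3], [0, 1, 4], [0, 1], [1, 4, 5], [1, 2, 4], [3, 4, 5], [1, 5], [1, 2], [3, 4], [1, 2, 4, 5], [2, 3, 4], [3], [1, 2, 5], [2, 3, 5], [2, 3, 4, 5], [2, 3], [3, 5], [1, 4], [1], [0, 4, 5], [0, 2, 5], [0, 1, 3, 5], [0, 5], [0, 2, 4, 5], [0, 1, 3], [0, 2], [0, 1, 2, 3, 4, 5], [0, 1, 3, 4], [0, 2, 4], [0, 1, 2, 3], [0, 1, 2, 3, 4], [0, 1, 2, 3, 5], [0, 1, 3, 4, 5], [0, 4], [0], [4, 5], [2, 4, 5], [1, 3], [5], [2, 5], [1, 3,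 5], [2, 4], [1, 2, 3], [1, 3, 4, 5], [2], [1, 2, 3, 4, 5], [1, 2, 3, 5], [1, 2, 3, 4], [1, 3, 4], [4], []]
  dforms := [[4, 5], [5], [4], []]

end CfsgLib.SchurM21.Data
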