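import Cfsg.Agent.Lib.Schur.TailBoundTwo
import Cfsg.Agent.Lib.Schur.M21TailData
import Cfsg.Agent.Lib.Golay.M21

/-!
The 2-part of the kernel of a stem extension of a three-point stabiliser of M24, which is PSL(3,4),
is generated by two elements of order dividing 4.
-/

set_option autoImplicit false

namespace CfsgLib.SchurM21

open Cfsg CfsgLib.Comp CfsgLib.M24Elt CfsgLib.Golay CfsgLib.SchurCoded CfsgLib.SchurTail Subgroup

/-- The membership test. -/
noncomputable def ok21 (c : ℕ) : Bool :=
  good c && (Nat.beq (PermCode.get c 23) 23 && (Nat.beq (PermCode.get c 0) 0 &&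
    Nat.beq (PermCode.get c 1) 1))

/-- The test for the three-point stabiliser. -/
noncomputable def t21 : Test :=
  ⟨fixPts M24 Golay.three, ok21, fun c h => by
    simp only [ok21, Bool.and_eq_true] at h
    obtain ⟨hg, h23, h0, h1⟩ := h
    refine ⟨good_ok hg, mem_fixPts.2 ⟨pm_mem hg, ?_⟩⟩
    have hfix : ∀ p : GolayPt, PermCode.get c (bit p) = bit p → pm c p = p := fun p e => by
      apply bit_injective
      rw [bit_pm (good_ok hg), e]
    intro x hx
    simp only [Golay.three, List.mem_cons, List.not_mem_nil, or_false] at hx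
    rcases hx with rfl | rfl | rfl
    exacts [hfix _ (Nat.eq_of_beq_eq_true h1), hfix _ (Nat.eq_of_beq_eq_true h0),
      hfix _ (Nat.eq_of_beq_eq_true h23)]⟩

theorem card_t21 : Nat.card t21.S = 20160 := card_fix3

theorem tail_rel : relCheckTwo t21 Data.tail Data.letters Data.conjugators = true := by
  decide +kernel

theorem tail_lin : Data.tail.checkLin = true := by decide +kernel

theorem tail_forms : Data.tail.toOne.checkForms = true := by decide +kernel

theorem two_part {Γ : Type*} [Group Γ] [Finite Γ] (σ : Γ →* t21.S) (hs : Function.Surjective σ)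
    (hc : σ.ker ≤ center Γ) (hd : σ.ker ≤ _root_.commutator Γ) :
    ∃ z₀ z₁ : Γ, z₀ ^ 4 = 1 ∧ z₁ ^ 4 = 1 ∧ z₀ ∈ σ.ker ∧ z₁ ∈ σ.ker ∧
      ∀ z ∈ σ.ker, ∀ j : ℕ, z ^ 2 ^ j = 1 → ∃ a b : ℤ, z = z₀ ^ a * z₁ ^ b := by
  refine two_part_coded σ hs hc hd Data.tail tail_rel tail_lin tail_forms (m := 6)
    (by decide +kernel) ?_
  rw [card_t21, show (20160 : ℕ) = 2 ^ 6 * 315 by norm_num,
    Nat.factorization_mul (by norm_num) (by norm_num), Nat.Prime.factorization_pow Nat.prime_two]
  simp [Nat.factorization_eq_zero_of_not_dvd (show ¬ 2 ∣ 315 by norm_num)]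

end CfsgLib.SchurM21
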