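import Cfsg.Agent.Lib.Schur.TableCocycle
import Cfsg.Agent.Lib.Schur.M21Two
import Cfsg.Agent.Lib.Schur.M21Data

/-!
A stem extension of PSL(3,4), as a three-point stabiliser of M24, with kernel of order 16 and
exponent 4: corestriction of two cocycles on a Sylow 2-subgroup.
-/

set_option autoImplicit false

namespace CfsgLib.SchurM21

open Cfsg CfsgLib.Comp CfsgLib.M24Elt CfsgLib.Golay CfsgLib.SchurCoded CfsgLib.SchurTable Subgroup
open scoped commutatorElement

/-- The tables of the first cocycle. -/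
def tab1 : Table := ⟨Data.els, Data.mulRows, Data.valRows1, Data.gens, Data.words, Data.one⟩

/-- The tables of the second cocycle. -/
def tab2 : Table := ⟨Data.els, Data.mulRows, Data.valRows2, Data.gens, Data.words, Data.one⟩

/-- A coset representative. -/
def rep (i : ℕ) : ℕ := (Data.reps.getD (i / 64) []).getD (i % 64) 0

/-- An entry of a packed table. -/
def entry (T : List ℕ) (B i : ℕ) : ℕ := T.getD (i / 64) 0 / B ^ (i % 64) % B

/-- The key of a permutation. -/
def keyf (O : List (List ℕ)) (f : ℕ → ℕ) : ℕ := (O.map fun T => (T.map fun b => 2 ^ f b).sum ^ 2).sum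

/-- The orderings of the orbit. -/
def variants : List (List (List ℕ)) :=
  [[[5, 18], [20, 22]], [[18, 5], [20, 22]], [[5, 18], [22, 20]], [[18, 5], [22, 20]],
   [[20, 22], [5, 18]], [[20, 22], [18, 5]], [[22, 20], [5, 18]], [[22, 20], [18, 5]]]

theorem keyf_variant {O : List (List ℕ)} (h : O ∈ variants) (f : ℕ → ℕ) :
    keyf O f = keyf Data.orbit f := by
  simp only [variants, List.mem_cons, List.not_mem_nil, or_false] at h
  rcases h with rfl | rfl | rfl | rfl | rfl | rfl | rfl | rfl <;>
    (simp only [keyf, Data.orbit, List.map_cons, List.map_nil, List.sum_cons, List.sum_nil] <;>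
      ring)

/-- The key of a code. -/
def keyc (c : ℕ) : ℕ := keyf Data.orbit (PermCode.get c)

/-- The checks of the action of an element on the cosets. -/
noncomputable def actCheck (u : ℕ) (t l : List ℕ) : Bool :=
  t21.ok u && PermCode.allLt 315 fun i =>
    Nat.blt (entry t 4096 i) 315 &&
      eqc (PermCode.mul 24 u (rep i))
        (PermCode.mul 24 (rep (entry t 4096 i)) (tab1.code (entry l 64 i)))

/-- The sum over the cosets. -/
noncomputable def total (F : ℕ → ℕ) : ℕ := Nat.rec 0 (fun j ih => F j + ih) 315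

theorem total_eq (F : ℕ → ℕ) : total F = ∑ i ∈ Finset.range 315, F i := by
  have : ∀ k : ℕ, (Nat.rec 0 (fun j ih => F j + ih) k : ℕ) = ∑ i ∈ Finset.range k, F i := by
    intro k
    induction k with
    | zero => rfl
    | succ k ih => rw [Finset.sum_range_succ, ← ih]; exact Nat.add_comm _ _
  exact this 315

theorem tab1_check : tab1.check t21 4 = true := by decide +kernel

theorem tab2_check : tab2.check t21 4 = true := by decide +kernel

theorem tab1_n : tab1.n = 64 := by decide +kernel

theorem orbit_check : ((Data.orbit.flatten.all fun b => Nat.blt b 24) &&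
    (Data.els.all fun a => decide (Data.orbit.map (List.map (PermCode.get a)) ∈ variants))) =
      true := by decide +kernel

theorem rep_check : ((PermCode.allLt 315 fun i => t21.ok (rep i)) &&
    (PermCode.allLt 314 fun i => Nat.blt (keyc (rep i)) (keyc (rep (i + 1))))) = true := by
  decide +kernel

theorem acts : (actCheck Data.elemA1 Data.tA1 Data.lA1 && (actCheck Data.elemB1 Data.tB1 Data.lB1 &&
    (actCheck Data.elemA2 Data.tA2 Data.lA2 && actCheck Data.elemB2 Data.tB2 Data.lB2))) = true := by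
  decide +kernel

theorem comm_check : (eqw t21 [Data.elemA1, Data.elemB1] [Data.elemB1, Data.elemA1] &&
    eqw t21 [Data.elemA2, Data.elemB2] [Data.elemB2, Data.elemA2]) = true := by decide +kernel

/-- The sum of a cocycle table over the cosets. -/
noncomputable def tot (T : Table) (la tb lb : List ℕ) : ℕ :=
  total fun i => T.v 4 (entry la 64 (entry tb 4096 i)) (entry lb 64 i)

/-- A commutator value. -/
noncomputable def valCheck (T : Table) (ta la tb lb : List ℕ) (m : ℕ) : Bool :=
  Nat.beq (tot T la tb lb % 4) ((tot T lb ta la + m) % 4)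

theorem value_check :
    (valCheck tab1 Data.tA1 Data.lA1 Data.tB1 Data.lB1 1 &&
    (valCheck tab2 Data.tA1 Data.lA1 Data.tB1 Data.lB1 0 &&
    (valCheck tab1 Data.tA2 Data.lA2 Data.tB2 Data.lB2 0 &&
    valCheck tab2 Data.tA2 Data.lA2 Data.tB2 Data.lB2 1))) = true := by decide +kernel

theorem exists_stem_sixteen :
    ∃ (Γ : Type) (_ : Group Γ) (_ : Finite Γ) (σ : Γ →* t21.S),
      Cfsg.IsStemExtension σ ∧ Nat.card σ.ker = 16 := by
  classical
  have : NeZero (4 : ℕ) := ⟨by norm_num⟩
  obtain ⟨U, c₁, hmem, hsurj, hU, hval₁⟩ := exists_cocycle (τ := t21) (N := 4) tab1_check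
  obtain ⟨U₂, c₂, hmem₂, hsurj₂, -, hval₂⟩ := exists_cocycle (τ := t21) (N := 4) tab2_check
  have hUU : U₂ = U := by
    ext x
    constructor
    · intro hx
      obtain ⟨i, hi, rfl⟩ := hsurj₂ x hx
      exact hmem i hi
    · intro hx
      obtain ⟨i, hi, rfl⟩ := hsurj x hx
      exact hmem₂ i hi
  subst hUU
  rw [tab1_n] at hU
  have hG : Nat.card t21.S = 20160 := card_t21
  have hidx : U₂.index = 315 := by
    have := U₂.card_mul_index
    rw [hU, hG] at this
    omega
  have hr := rep_check
  rw [Bool.and_eq_true] at hr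
  have hrok : ∀ i, i < 315 → t21.ok (rep i) = true := fun i hi => PermCode.allLt_spec hr.1 i hi
  have hmono : ∀ j, j < 315 → ∀ i, i < j → keyc (rep i) < keyc (rep j) := by
    intro j
    induction j with
    | zero => intro _ i hi; omega
    | succ k ih =>
      intro hk i hi
      have h := PermCode.allLt_spec hr.2 k (by omega)
      rw [Nat.blt_eq] at h
      rcases Nat.lt_succ_iff_lt_or_eq.1 hi with hi | rfl
      · exact lt_trans (ih (by omega) i hi) h
      · exact h
  have ho := orbit_check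
  rw [Bool.and_eq_true, List.all_eq_true] at ho
  have horb : ∀ T ∈ Data.orbit, ∀ b ∈ T, b < 24 := fun T hT b hb =>
    by
    have h := ho.1 b (List.mem_flatten.2 ⟨T, hT, hb⟩)
    rwa [Nat.blt_eq] at h
  let keyG : t21.S → ℕ := fun g => keyf Data.orbit fun b => bit ((g : Equiv.Perm GolayPt) (Golay.pt b))
  have hgetb : ∀ a b, t21.ok a = true → b < 24 →
      bit ((el t21 a : Equiv.Perm GolayPt) (Golay.pt b)) = PermCode.get a b := by
    intro a b ha hb
    rw [coe_el t21 ha, bit_pm (t21.sound a ha).1, bit_pt hb]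
  have hkc : ∀ a, t21.ok a = true → keyG (el t21 a) = keyc a := by
    intro a ha
    unfold keyc
    simp only [keyG, keyf]
    refine congrArg List.sum (List.map_congr_left fun T hT => ?_)
    refine congrArg (fun l : List ℕ => l.sum ^ 2) (List.map_congr_left fun b hb => ?_)
    rw [hgetb a b ha (horb T hT b hb)]
  have hok4 : ∀ i, i < 64 → t21.ok (tab1.code i) = true ∧ tab1.code i ∈ Data.els := by
    intro i hi
    have hl : i < Data.els.length := by
      have := tab1_n
      simp only [Table.n, tab1] at this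
      omega
    have hm : tab1.code i ∈ Data.els := by
      simp only [Table.code, tab1]
      rw [List.getD_eq_getElem _ _ hl]
      exact List.getElem_mem _
    refine ⟨?_, hm⟩
    have h := tab1_check
    simp only [Table.check, Bool.and_eq_true] at h
    exact List.all_eq_true.1 h.1 _ hm
  have hinv : ∀ g, ∀ h ∈ U₂, keyG (g * h) = keyG g := by
    intro g h hh
    obtain ⟨i, hi, rfl⟩ := hsurj h hh
    rw [tab1_n] at hi
    obtain ⟨ha, hm⟩ := hok4 i hi
    have hv : Data.orbit.map (List.map (PermCode.get (tab1.code i))) ∈ variants :=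
      of_decide_eq_true (List.all_eq_true.1 ho.2 _ hm)
    show keyf _ _ = keyf _ _
    rw [← keyf_variant hv (fun b => bit ((g : Equiv.Perm GolayPt) (Golay.pt b)))]
    unfold keyf
    rw [List.map_map]
    refine congrArg List.sum (List.map_congr_left fun T hT => ?_)
    rw [Function.comp_apply, List.map_map]
    refine congrArg (fun l : List ℕ => l.sum ^ 2) (List.map_congr_left fun b hb => ?_)
    show 2 ^ bit _ = 2 ^ bit _
    rw [← hgetb (tab1.code i) b ha (horb T hT b hb), pt_bit, Subgroup.coe_mul, Equiv.Perm.mul_apply]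
  let e₀ : Fin 315 → t21.S ⧸ U₂ := fun i => QuotientGroup.mk (el t21 (rep i))
  have he₀ : Function.Injective e₀ := by
    intro i j h
    have hh := hinv (el t21 (rep i)) _ (QuotientGroup.eq.1 h)
    rw [mul_inv_cancel_left, hkc _ (hrok i i.2), hkc _ (hrok j j.2)] at hh
    rcases lt_trichotomy (i : ℕ) j with h' | h' | h'
    · exact absurd hh (Nat.ne_of_gt (hmono j j.2 i h'))
    · exact Fin.ext h'
    · exact absurd hh (Nat.ne_of_lt (hmono i i.2 j h'))
  let e : Fin 315 ≃ t21.S ⧸ U₂ := Equiv.ofBijective e₀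
    ((Nat.bijective_iff_injective_and_card e₀).2 ⟨he₀, by rw [Nat.card_fin]; exact hidx.symm⟩)
  let s : t21.S ⧸ U₂ → t21.S := fun x => el t21 (rep (e.symm x))
  have hs : ∀ x, (s x : t21.S ⧸ U₂) = x := fun x => e.apply_symm_apply x
  have hsm : ∀ i, s (e i) = el t21 (rep i) := fun i => by simp only [s, Equiv.symm_apply_apply]
  have : Fintype (t21.S ⧸ U₂) := Fintype.ofFinite _
  have hlab : ∀ (u : ℕ) (t l : List ℕ), actCheck u t l = true → ∀ i : Fin 315,
      ∃ hj : entry t 4096 i < 315, el t21 u • e i = e ⟨_, hj⟩ ∧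
        (SchurCor.label U₂ s hs (el t21 u) (e i) : t21.S) = el t21 (tab1.code (entry l 64 i)) ∧
        entry l 64 i < 64 := by
    intro u t l h i
    simp only [actCheck, Bool.and_eq_true] at h
    obtain ⟨hu, hall⟩ := h
    have h := PermCode.allLt_spec hall i i.2
    rw [Bool.and_eq_true] at h
    have hj : entry t 4096 i < 315 := by rw [Nat.blt_eq] at h; exact h.1
    have hl : entry l 64 i < 64 := Nat.mod_lt _ (by norm_num)
    obtain ⟨hlok, -⟩ := hok4 _ hl
    have hp : el t21 u * el t21 (rep i) =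
        el t21 (rep (entry t 4096 i)) * el t21 (tab1.code (entry l 64 i)) := by
      apply Subtype.ext
      rw [Subgroup.coe_mul, Subgroup.coe_mul, coe_el t21 hu, coe_el t21 (hrok i i.2),
        coe_el t21 (hrok _ hj), coe_el t21 hlok]
      have o1 := (t21.sound _ hu).1
      have o2 := (t21.sound _ (hrok i i.2)).1
      have o3 := (t21.sound _ (hrok _ hj)).1
      have o4 := (t21.sound _ hlok).1
      rw [← pm_mul o1 o2, ← pm_mul o3 o4]
      exact pm_eq_of_eqc (ok_pm_mul o1 o2) (ok_pm_mul o3 o4) h.2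
    have hm : el t21 (tab1.code (entry l 64 i)) ∈ U₂ := hmem _ (by rw [tab1_n]; exact hl)
    have hsmul : el t21 u • e i = e ⟨_, hj⟩ := by
      show ((el t21 u * el t21 (rep i) : t21.S) : t21.S ⧸ U₂) = QuotientGroup.mk (el t21 (rep _))
      rw [hp]
      exact QuotientGroup.mk_mul_of_mem _ hm
    refine ⟨hj, hsmul, ?_, hl⟩
    show (s (el t21 u • e i))⁻¹ * el t21 u * s (e i) = _
    rw [hsmul, hsm, hsm, mul_assoc, hp, inv_mul_cancel_left]
  let c : SchurCor.Cocycle U₂ (ZMod 4 × ZMod 4) :=
    ⟨fun x y => (c₁.f x y, c₂.f x y), fun g => Prod.ext (c₁.one_left g) (c₂.one_left g),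
      fun g => Prod.ext (c₁.one_right g) (c₂.one_right g),
      fun g h k => Prod.ext (c₁.assoc g h k) (c₂.assoc g h k)⟩
  let c' := SchurCor.cores U₂ s hs c
  have hsum : ∀ (a b : ℕ) (ta la tb lb : List ℕ), actCheck a ta la = true → actCheck b tb lb = true →
      c'.f (el t21 a) (el t21 b) = (((tot tab1 la tb lb : ℕ) : ZMod 4), ((tot tab2 la tb lb : ℕ) : ZMod 4)) := by
    intro a b ta la tb lb ha hb
    show ∑ x, _ = _
    have h2n : tab2.n = 64 := tab1_n
    rw [← Equiv.sum_comp e, tot, tot, total_eq, total_eq, Nat.cast_sum, Nat.cast_sum,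
      ← Fin.sum_univ_eq_sum_range, ← Fin.sum_univ_eq_sum_range]
    have key : ∀ i : Fin 315, c.f (SchurCor.label U₂ s hs (el t21 a) (el t21 b • e i))
        (SchurCor.label U₂ s hs (el t21 b) (e i)) =
        (((tab1.v 4 (entry la 64 (entry tb 4096 i)) (entry lb 64 i) : ℕ) : ZMod 4),
          ((tab2.v 4 (entry la 64 (entry tb 4096 i)) (entry lb 64 i) : ℕ) : ZMod 4)) := by
      intro i
      obtain ⟨hj, hsm', hlb, hlb'⟩ := hlab b tb lb hb i
      rw [hsm']
      obtain ⟨-, -, hla, hla'⟩ := hlab a ta la ha ⟨_, hj⟩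
      exact Prod.ext (hval₁ _ _ _ _ (by rw [tab1_n]; exact hla') (by rw [tab1_n]; exact hlb') hla hlb)
        (hval₂ _ _ _ _ (by rw [h2n]; exact hla') (by rw [h2n]; exact hlb') hla hlb)
    rw [Finset.sum_congr rfl fun i _ => key i]
    exact Prod.ext Prod.fst_sum Prod.snd_sum
  have hact := acts
  simp only [Bool.and_eq_true] at hact
  obtain ⟨hA1, hB1, hA2, hB2⟩ := hact
  have hvc := value_check
  simp only [Bool.and_eq_true, valCheck] at hvc
  obtain ⟨v11, v12, v21, v22⟩ := hvc
  have hdiff : ∀ {a b m : ℕ}, Nat.beq (a % 4) ((b + m) % 4) = true →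
      (a : ZMod 4) - (b : ZMod 4) = (m : ZMod 4) := by
    intro a b m h
    have e' := congrArg (fun n : ℕ => (n : ZMod 4)) (Nat.eq_of_beq_eq_true h)
    simp only [ZMod.natCast_mod, Nat.cast_add] at e'
    rw [e']
    ring
  have hgen1 : c'.f (el t21 Data.elemA1) (el t21 Data.elemB1) -
      c'.f (el t21 Data.elemB1) (el t21 Data.elemA1) = (1, 0) := by
    rw [hsum _ _ _ _ _ _ hA1 hB1, hsum _ _ _ _ _ _ hB1 hA1]
    exact Prod.ext ((hdiff v11).trans Nat.cast_one) ((hdiff v12).trans Nat.cast_zero)
  have hgen2 : c'.f (el t21 Data.elemA2) (el t21 Data.elemB2) -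
      c'.f (el t21 Data.elemB2) (el t21 Data.elemA2) = (0, 1) := by
    rw [hsum _ _ _ _ _ _ hA2 hB2, hsum _ _ _ _ _ _ hB2 hA2]
    exact Prod.ext ((hdiff v21).trans Nat.cast_zero) ((hdiff v22).trans Nat.cast_one)
  have hcc := comm_check
  rw [Bool.and_eq_true] at hcc
  refine ⟨SchurCor.Ext c', inferInstance, inferInstance, SchurCor.Ext.proj c',
    ⟨SchurCor.Ext.proj_surjective, SchurCor.Ext.ker_proj_le_center, fun x hx => ?_⟩, ?_⟩
  · have hm : ∀ (a b : ℕ) (z : ZMod 4 × ZMod 4), eqw t21 [a, b] [b, a] = true →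
        c'.f (el t21 a) (el t21 b) - c'.f (el t21 b) (el t21 a) = z →
        SchurCor.Ext.incl c' z ∈ _root_.commutator (SchurCor.Ext c') := by
      intro a b z h e
      have hcm := SchurCor.Ext.commutator_of_commute (c := c') ⟨el t21 a, 0⟩ ⟨el t21 b, 0⟩ (eq_two h)
      rw [e] at hcm
      rw [← hcm, _root_.commutator_def]
      exact Subgroup.commutator_mem_commutator (Subgroup.mem_top _) (Subgroup.mem_top _)
    have hx' : x = SchurCor.Ext.incl c' ((1 : ZMod 4), (0 : ZMod 4)) ^ x.fib.1.val *
        SchurCor.Ext.incl c' ((0 : ZMod 4), (1 : ZMod 4)) ^ x.fib.2.val := by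
      rw [← SchurCor.Ext.incl_nsmul, ← SchurCor.Ext.incl_nsmul, ← SchurCor.Ext.incl_add]
      refine (SchurCor.Ext.mem_ker_proj.1 hx).trans (congrArg (SchurCor.Ext.incl c') ?_)
      simp only [Prod.smul_mk, nsmul_one, nsmul_zero, Prod.mk_add_mk, add_zero, zero_add,
        ZMod.natCast_rightInverse _]
    rw [hx']
    exact mul_mem (pow_mem (hm _ _ _ hcc.1 hgen1) _) (pow_mem (hm _ _ _ hcc.2 hgen2) _)
  · rw [← Nat.card_congr (SchurCor.Ext.kerEquiv c').toEquiv, Nat.card_congr Multiplicative.toAdd,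
      Nat.card_prod, Nat.card_zmod]

end CfsgLib.SchurM21
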