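import Cfsg.Agent.Lib.Schur.M22Three

/-!
The Schur multiplier of M22 is cyclic of order 12.
-/

set_option autoImplicit false

namespace CfsgLib.SchurM22

open Cfsg CfsgLib.Comp CfsgLib.M24Elt CfsgLib.Golay CfsgLib.SchurCoded Subgroup

universe u

/-- Stem extensions with kernels of coprime orders combine. -/
theorem exists_stem_coprime_mul {G : Type u} [Group G] {p q : ℕ} (hcop : p.Coprime q)
    (hp : ∃ (Γ : Type u) (_ : Group Γ) (_ : Finite Γ) (σ : Γ →* G),
      Cfsg.IsStemExtension σ ∧ Nat.card σ.ker = p)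
    (hq : ∃ (Γ : Type u) (_ : Group Γ) (_ : Finite Γ) (σ : Γ →* G),
      Cfsg.IsStemExtension σ ∧ Nat.card σ.ker = q) :
    ∃ (Γ : Type u) (_ : Group Γ) (_ : Finite Γ) (σ : Γ →* G),
      Cfsg.IsStemExtension σ ∧ Nat.card σ.ker = p * q := by
  obtain ⟨A, _, _, f, hf, hfk⟩ := hp
  obtain ⟨B, _, _, g, hg, hgk⟩ := hq
  let σ : Schur.fibre f g →* G := f.comp (Schur.fibreFst f g)
  -- components of kernel elements as elements of the derived subgroup
  have hfst : ∀ a : A, f a = 1 → ∃ h : (a, (1 : B)) ∈ Schur.fibre f g,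
      (⟨(a, 1), h⟩ : Schur.fibre f g) ∈ _root_.commutator (Schur.fibre f g) := by
    intro a ha
    refine ⟨by rw [Schur.mem_fibre, ha, map_one], ?_⟩
    obtain ⟨a', ha', rfl⟩ : ∃ a', f a' = 1 ∧ a' ^ q = a := by
      have hbij := (powCoprime (G := f.ker) (n := q) (by rw [hfk]; exact hcop)).surjective ⟨a, ha⟩
      obtain ⟨a', ha'⟩ := hbij
      exact ⟨a', a'.2, congrArg Subtype.val ha'⟩
    have hmem : a' ∈ (_root_.commutator (Schur.fibre f g)).map (Schur.fibreFst f g) := by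
      rw [_root_.commutator_def, map_commutator,
        map_top_of_surjective _ (Schur.fibreFst_surjective f hg.1)]
      exact hf.2.2 ha'
    obtain ⟨w, hw, hwa⟩ := hmem
    have hw1 : (w : A × B).1 = a' := hwa
    have hw2 : (w : A × B).2 ^ q = 1 := by
      have hk : g (w : A × B).2 = 1 := by
        rw [← Schur.mem_fibre.1 w.2, hw1, ha']
      have := pow_card_eq_one' (x := (⟨(w : A × B).2, hk⟩ : g.ker))
      rw [hgk] at this
      exact congrArg Subtype.val this
    convert pow_mem hw q using 1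
    exact Subtype.ext (Prod.ext (congrArg (· ^ q) hw1).symm hw2.symm)
  have hsnd : ∀ b : B, g b = 1 → ∃ h : ((1 : A), b) ∈ Schur.fibre f g,
      (⟨(1, b), h⟩ : Schur.fibre f g) ∈ _root_.commutator (Schur.fibre f g) := by
    intro b hb
    refine ⟨by rw [Schur.mem_fibre, hb, map_one], ?_⟩
    obtain ⟨b', hb', rfl⟩ : ∃ b', g b' = 1 ∧ b' ^ p = b := by
      obtain ⟨b', hb'⟩ :=
        (powCoprime (G := g.ker) (n := p) (by rw [hgk]; exact hcop.symm)).surjective ⟨b, hb⟩
      exact ⟨b', b'.2, congrArg Subtype.val hb'⟩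
    have hmem : b' ∈ (_root_.commutator (Schur.fibre f g)).map (Schur.fibreSnd f g) := by
      rw [_root_.commutator_def, map_commutator,
        map_top_of_surjective _ (Schur.fibreSnd_surjective g hf.1)]
      exact hg.2.2 hb'
    obtain ⟨w, hw, hwb⟩ := hmem
    have hw2 : (w : A × B).2 = b' := hwb
    have hw1 : (w : A × B).1 ^ p = 1 := by
      have hk : f (w : A × B).1 = 1 := by
        rw [Schur.mem_fibre.1 w.2, hw2, hb']
      have := pow_card_eq_one' (x := (⟨(w : A × B).1, hk⟩ : f.ker))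
      rw [hfk] at this
      exact congrArg Subtype.val this
    convert pow_mem hw p using 1
    exact Subtype.ext (Prod.ext hw1.symm (congrArg (· ^ p) hw2).symm)
  refine ⟨Schur.fibre f g, inferInstance, inferInstance, σ,
    ⟨hf.1.comp (Schur.fibreFst_surjective f hg.1), ?_, ?_⟩, ?_⟩
  · intro z hz
    have h1 : f (z : A × B).1 = 1 := hz
    have h2 : g (z : A × B).2 = 1 := by rw [← Schur.mem_fibre.1 z.2, h1]
    exact mem_center_iff.2 fun w => Subtype.ext (Prod.ext (mem_center_iff.1 (hf.2.1 h1) _)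
      (mem_center_iff.1 (hg.2.1 h2) _))
  · intro z hz
    have h1 : f (z : A × B).1 = 1 := hz
    have h2 : g (z : A × B).2 = 1 := by rw [← Schur.mem_fibre.1 z.2, h1]
    obtain ⟨_, ha⟩ := hfst _ h1
    obtain ⟨_, hb⟩ := hsnd _ h2
    convert mul_mem ha hb using 1
    exact Subtype.ext (Prod.ext (mul_one _).symm (one_mul _).symm)
  · rw [← hfk, ← hgk, ← Nat.card_prod]
    exact Nat.card_congr
      { toFun := fun z => (⟨(z.1 : A × B).1, z.2⟩, ⟨(z.1 : A × B).2, by
          rw [MonoidHom.mem_ker, ← Schur.mem_fibre.1 z.1.2]; exact z.2⟩)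
        invFun := fun ab => ⟨⟨((ab.1 : A), (ab.2 : B)), by
          rw [Schur.mem_fibre, MonoidHom.mem_ker.1 ab.1.2, MonoidHom.mem_ker.1 ab.2.2]⟩, ab.1.2⟩
        left_inv := fun _ => rfl
        right_inv := fun _ => rfl }


theorem kernel_bound {Γ : Type} [Group Γ] [Finite Γ] (σ : Γ →* t22.S)
    (hσ : Cfsg.IsStemExtension σ) : Nat.card σ.ker ∣ 12 ∧ IsCyclic σ.ker := by
  classical
  obtain ⟨hs, hc, hd⟩ := hσ
  let instC : CommGroup σ.ker := { (inferInstance : Group σ.ker) with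
    mul_comm := fun a b => Subtype.ext (mem_center_iff.1 (hc b.2) a) }
  obtain ⟨z₀, hz₀, hz⟩ := two_part σ hs hc hd
  have h9 := nine_not_dvd σ hs hc hd
  have key : ∀ p k : ℕ, p.Prime → p ^ k ∣ Nat.card σ.ker →
      p ^ k ∣ 12 ∧ ∃ x : σ.ker, orderOf x = p ^ k := by
    intro p k hp hpk
    have := Fact.mk hp
    rcases Nat.eq_zero_or_pos k with rfl | hk
    · exact ⟨by simp, 1, by simp⟩
    have hp1 : p ∣ Nat.card σ.ker := (dvd_pow_self p hk.ne').trans hpk
    rcases eq_or_ne p 2 with rfl | h2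
    · obtain ⟨H, hH⟩ := Sylow.exists_subgroup_card_pow_prime 2 hpk
      let H' : Subgroup Γ := H.map σ.ker.subtype
      have hH' : Nat.card H' = 2 ^ k := by
        rw [← hH, card_map_of_injective σ.ker.subtype_injective]
      have hle : H' ≤ zpowers z₀ := by
        rintro _ ⟨x, hx, rfl⟩
        refine hz _ x.2 k ?_
        have := congrArg (fun y : H => ((y : σ.ker) : Γ)) (pow_card_eq_one' (x := (⟨x, hx⟩ : H)))
        simpa [hH] using this
      have h4 : 2 ^ k ∣ 4 := by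
        rw [← hH']
        exact ((card_dvd_of_le hle).trans (by rw [Nat.card_zpowers])).trans
          (orderOf_dvd_iff_pow_eq_one.2 hz₀)
      refine ⟨h4.trans (by norm_num), ?_⟩
      have : IsCyclic H' := isCyclic_of_injective (inclusion hle) (inclusion_injective hle)
      have : IsCyclic H :=
        (H.equivMapOfInjective _ σ.ker.subtype_injective).isCyclic.2 this
      obtain ⟨x, hx⟩ := IsCyclic.exists_generator (α := H)
      exact ⟨x, by rw [Subgroup.orderOf_coe, orderOf_eq_card_of_forall_mem_zpowers hx, hH]⟩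
    rcases eq_or_ne p 3 with rfl | h3
    · obtain rfl : k = 1 := by
        by_contra hk1
        exact h9 ((pow_dvd_pow 3 (by omega : 2 ≤ k)).trans hpk)
      obtain ⟨x, hx⟩ := exists_prime_orderOf_dvd_card' 3 hp1
      exact ⟨by norm_num, x, by rw [hx, pow_one]⟩
    · refine absurd hp1 (SchurBound.not_dvd_card_ker_of_sq_not_dvd σ hs hc hd fun hsq => ?_)
      have hG : Nat.card t22.S = 2 ^ 7 * (3 ^ 2 * (5 * 7 * 11)) := by
        rw [show Nat.card t22.S = 443520 from Golay.card_M22]; norm_num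
      rw [hG] at hsq
      have c2 : Nat.Coprime (p ^ 2) (2 ^ 7) :=
        Nat.Coprime.pow _ _ ((Nat.coprime_primes hp Nat.prime_two).2 h2)
      have c3 : Nat.Coprime (p ^ 2) (3 ^ 2) :=
        Nat.Coprime.pow _ _ ((Nat.coprime_primes hp Nat.prime_three).2 h3)
      have h' := c3.dvd_of_dvd_mul_left (c2.dvd_of_dvd_mul_left hsq)
      have hsf : Squarefree (5 * 7 * 11 : ℕ) := by decide +kernel
      exact hp.ne_one (Nat.isUnit_iff.1 (hsf p (by rwa [← sq])))
  refine ⟨(Nat.dvd_iff_prime_pow_dvd_dvd 12 _).2 fun p k hp h => (key p k hp h).1, ?_⟩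
  rw [IsCyclic.iff_exponent_eq_card]
  refine Nat.dvd_antisymm Group.exponent_dvd_nat_card
    ((Nat.dvd_iff_prime_pow_dvd_dvd _ _).2 fun p k hp h => ?_)
  obtain ⟨x, hx⟩ := (key p k hp h).2
  exact hx ▸ Monoid.order_dvd_exponent x

theorem hasCyclic_twelve : Cfsg.HasCyclicSchurMultiplier t22.S 12 := by
  have hcard : Nat.card (Multiplicative (ZMod 12)) = 12 := by
    rw [Nat.card_congr Multiplicative.toAdd, Nat.card_zmod]
  refine ⟨?_, fun Γ _ _ σ hσ => ?_⟩
  · obtain ⟨Γ₄, i1, i2, σ₄, hσ₄, hk₄, -⟩ := exists_stem_four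
    obtain ⟨Γ, j1, j2, σ, hσ, hk⟩ := exists_stem_coprime_mul (p := 4) (q := 3) (by norm_num)
      ⟨Γ₄, i1, i2, σ₄, hσ₄, hk₄⟩ exists_stem_three
    have := (kernel_bound σ hσ).2
    exact ⟨Γ, j1, j2, σ, hσ, ⟨mulEquivOfCyclicCardEq (hk.trans hcard.symm)⟩⟩
  · obtain ⟨hd, hcy⟩ := kernel_bound σ hσ
    obtain ⟨g, hg⟩ := IsCyclic.exists_generator (α := σ.ker)
    have hgn : g ^ 12 = 1 := orderOf_dvd_iff_pow_eq_one.1 ((orderOf_dvd_natCard g).trans hd)
    let π0 : ZMod 12 →+ Additive σ.ker := ZMod.lift 12 ⟨zmultiplesHom _ (Additive.ofMul g), by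
      show ((12 : ℕ) : ℤ) • Additive.ofMul g = 0
      rw [natCast_zsmul, ← ofMul_pow, hgn, ofMul_one]⟩
    refine ⟨AddMonoidHom.toMultiplicativeLeft π0, fun y => ?_⟩
    obtain ⟨k, rfl⟩ := hg y
    refine ⟨Multiplicative.ofAdd (k : ZMod 12), ?_⟩
    show Additive.toMul (π0 (k : ZMod 12)) = g ^ k
    rw [ZMod.lift_coe]
    rfl

end CfsgLib.SchurM22
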