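import Cfsg.Agent.Lib.Schur.M22TailData
import Cfsg.Agent.Lib.Schur.CodedCert
import Cfsg.Agent.Lib.Golay.Mathieu

/-!
The 2-part of the kernel of a stem extension of M22 is cyclic of order dividing 4.
-/

set_option autoImplicit false

namespace CfsgLib.SchurM22

open Cfsg CfsgLib.Comp CfsgLib.M24Elt CfsgLib.Golay CfsgLib.SchurCoded CfsgLib.SchurTail Subgroup
open scoped commutatorElement CfsgLib.SchurTail

/-- The membership test for M22. -/
noncomputable def ok22 (c : ℕ) : Bool :=
  good c && (Nat.beq (PermCode.get c 23) 23 && Nat.beq (PermCode.get c 0) 0)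

/-- The test for M22. -/
noncomputable def t22 : Test :=
  ⟨Spor.M22, ok22, fun c h => by
    simp only [ok22, Bool.and_eq_true] at h
    obtain ⟨hg, h23, h0⟩ := h
    have hfix : ∀ p : GolayPt, PermCode.get c (bit p) = bit p → pm c • p = p := fun p e => by
      rw [Equiv.Perm.smul_def]
      apply bit_injective
      rw [bit_pm (good_ok hg), e]
    exact ⟨good_ok hg, Subgroup.mem_inf.2 ⟨Subgroup.mem_inf.2 ⟨pm_mem hg,
      MulAction.mem_stabilizer_iff.2 (hfix none (Nat.eq_of_beq_eq_true h23))⟩,
      MulAction.mem_stabilizer_iff.2 (hfix (some 0) (Nat.eq_of_beq_eq_true h0))⟩⟩⟩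

/-- The code of a letter. -/
def lc (i : ℕ) : ℕ := Data.letters.getD i 0

/-- The code of a conjugator. -/
def gc (i : ℕ) : ℕ := Data.conjugators.getD i 0

/-- All relations used. -/
noncomputable def relCheck : Bool :=
  (Data.tail.rules.all fun r => eqw t22 [lc r.1, lc r.2.1] (r.2.2.map lc)) &&
  ((Data.tail.conjs.all fun c => eqw t22 (gc c.1 :: c.2.1.map lc) (c.2.2.map lc ++ [gc c.1])) &&
  ((Data.tail.defs.all fun d => eqw t22 [lc d.2.1, lc d.2.2] [lc d.1, lc d.2.2, lc d.2.1]) &&
  ((Data.tail.forms.all fun w => (w.map lc).all t22.ok) &&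
    incr (Data.tail.forms.map fun w => prodc (w.map lc)))))

theorem relCheck_true : relCheck = true := by decide +kernel

theorem checkLin_true : Data.tail.checkLin = true := by decide +kernel

theorem checkForms_true : Data.tail.checkForms = true := by decide +kernel

theorem shape : (∀ d ∈ Data.tail.derived, d < Data.tail.n) ∧
    ([] ∈ Data.tail.forms ∧ [] ∈ Data.tail.dforms) ∧ (∀ w ∈ Data.tail.dforms, w ∈ Data.tail.forms) ∧
    Data.tail.forms.length = 2 ^ 7 ∧ Data.tail.defs = [(3, 0, 1), (4, 0, 2), (5, 1, 4), (6, 0, 4)] := by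
  decide +kernel

theorem two_part {Γ : Type} [Group Γ] [Finite Γ] (σ : Γ →* t22.S) (hs : Function.Surjective σ)
    (hc : σ.ker ≤ center Γ) (hd : σ.ker ≤ _root_.commutator Γ) :
    ∃ z₀ : Γ, z₀ ^ 4 = 1 ∧ ∀ z ∈ σ.ker, ∀ j : ℕ, z ^ 2 ^ j = 1 → z ∈ zpowers z₀ := by
  classical
  have h := relCheck_true
  simp only [relCheck, Bool.and_eq_true, List.all_eq_true] at h
  obtain ⟨hrules, hconj, hdefs, hok, hincr⟩ := h
  obtain ⟨hder, hnil, hsub, hlen, hdefeq⟩ := shape
  -- the lifts
  choose lift hlift using fun c : ℕ => hs (el t22 c)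
  let l4 : Γ := ⁅lift (lc 0), lift (lc 2)⁆
  let L : ℕ → Γ := fun i =>
    if i = 3 then ⁅lift (lc 0), lift (lc 1)⁆
    else if i = 4 then l4
    else if i = 5 then ⁅lift (lc 1), l4⁆
    else if i = 6 then ⁅lift (lc 0), l4⁆
    else lift (lc i)
  have hd3 : ∀ d ∈ Data.tail.defs, el t22 (lc d.1) = ⁅el t22 (lc d.2.1), el t22 (lc d.2.2)⁆ := by
    intro d hd
    have e := eqw_spec (List.all_eq_true.1 (List.all_eq_true.2 hdefs) d hd)
    simp only [elw, List.map_cons, List.map_nil, List.prod_cons, List.prod_nil, mul_one] at e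
    rw [commutatorElement_def, e]
    group
  rw [hdefeq] at hd3
  have e3 := hd3 (3, 0, 1) (by simp)
  have e4 := hd3 (4, 0, 2) (by simp)
  have e5 := hd3 (5, 1, 4) (by simp)
  have e6 := hd3 (6, 0, 4) (by simp)
  have hσl4 : σ l4 = el t22 (lc 4) := by
    rw [e4]; show σ ⁅_, _⁆ = _; rw [map_commutatorElement, hlift, hlift]
  have hσL : ∀ i, σ (L i) = el t22 (lc i) := by
    intro i
    simp only [L]
    split_ifs with h3 h4 h5 h6
    · subst h3; rw [map_commutatorElement, hlift, hlift, e3]
    · subst h4; exact hσl4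
    · subst h5; rw [map_commutatorElement, hlift, hσl4, e5]
    · subst h6; rw [map_commutatorElement, hlift, hσl4, e6]
    · exact hlift _
  have hσW : ∀ w : List ℕ, σ (evW L w) = elw t22 (w.map lc) := fun w => by
    simp [evW, elw, map_list_prod, hσL, Function.comp_def]
  -- the tails
  let κf : ℕ → Γ := fun k =>
    if k < Data.tail.rules.length then
      (evW L (Data.tail.rules.getD k (0, 0, [])).2.2)⁻¹ *
        (L (Data.tail.rules.getD k (0, 0, [])).1 * L (Data.tail.rules.getD k (0, 0, [])).2.1)
    else if k - Data.tail.rules.length < Data.tail.conjs.length then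
      (evW L (Data.tail.conjs.getD (k - Data.tail.rules.length) (0, [], [])).2.2)⁻¹ *
        (lift (gc (Data.tail.conjs.getD (k - Data.tail.rules.length) (0, [], [])).1) *
          evW L (Data.tail.conjs.getD (k - Data.tail.rules.length) (0, [], [])).2.1 *
          (lift (gc (Data.tail.conjs.getD (k - Data.tail.rules.length) (0, [], [])).1))⁻¹)
    else 1
  have hκ : ∀ k, σ (κf k) = 1 := by
    intro k
    simp only [κf]
    split_ifs with h1 h2
    · have hmem : Data.tail.rules.getD k (0, 0, []) ∈ Data.tail.rules := by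
        rw [List.getD_eq_getElem _ _ h1]; exact List.getElem_mem _
      have e := eqw_spec (hrules _ hmem)
      simp only [map_mul, map_inv, hσL, hσW]
      rw [show el t22 (lc (Data.tail.rules.getD k (0, 0, [])).1) *
        el t22 (lc (Data.tail.rules.getD k (0, 0, [])).2.1) =
        elw t22 [lc (Data.tail.rules.getD k (0, 0, [])).1, lc (Data.tail.rules.getD k (0, 0, [])).2.1] by
          simp [elw], e, inv_mul_cancel]
    · set c := Data.tail.conjs.getD (k - Data.tail.rules.length) (0, [], []) with hcdef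
      have hmem : c ∈ Data.tail.conjs := by
        rw [hcdef, List.getD_eq_getElem _ _ h2]; exact List.getElem_mem _
      have e := eqw_spec (hconj _ hmem)
      simp only [map_mul, map_inv, hσW, hlift]
      have e' : el t22 (gc c.1) * elw t22 (c.2.1.map lc) = elw t22 (c.2.2.map lc) * el t22 (gc c.1) := by
        simpa [elw] using e
      rw [e', mul_inv_cancel_right, inv_mul_cancel]
    · exact map_one σ
  let κ : ℕ → center Γ := fun k => ⟨κf k, hc (hκ k)⟩
  have hR : Holds Data.tail.rules L κ := by
    intro k a b W hk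
    obtain ⟨hk', e⟩ := List.getElem?_eq_some_iff.1 hk
    show L a * L b = evW L W * κf k
    simp only [κf, hk', if_true, List.getD_eq_getElem _ _ hk', e]
    rw [mul_inv_cancel_left]
  have hC : ConjHolds Data.tail.rules Data.tail.conjs L κ := by
    refine ⟨fun c => lift (gc c), fun p c U W hp => ?_⟩
    obtain ⟨hp', e⟩ := List.getElem?_eq_some_iff.1 hp
    show lift (gc c) * evW L U * (lift (gc c))⁻¹ = evW L W * κf (Data.tail.rules.length + p)
    have h1 : ¬ Data.tail.rules.length + p < Data.tail.rules.length := by omega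
    simp only [κf, h1, if_false, Nat.add_sub_cancel_left, hp', if_true,
      List.getD_eq_getElem _ _ hp', e]
    rw [mul_inv_cancel_left]
  have hinj : (Data.tail.forms.map fun w => evW (fun a => σ (L a)) w).Nodup := by
    have heq : ∀ w : List ℕ, evW (fun a => σ (L a)) w = elw t22 (w.map lc) := fun w => by
      simp [evW, elw, hσL, Function.comp_def]
    have hnd : (Data.tail.forms.map fun w => prodc (w.map lc)).Nodup :=
      (incr_pairwise hincr).imp fun h => Nat.ne_of_lt h
    rw [List.Nodup, List.pairwise_map] at hnd ⊢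
    refine List.Pairwise.imp_of_mem (fun {v w} hv hw hne e => hne ?_) hnd
    rw [heq, heq] at e
    exact prodc_inj (List.all_eq_true.2 (hok v hv)) (List.all_eq_true.2 (hok w hw)) e
  have hdef : ∀ d ∈ Data.tail.defs, L d.1 = ⁅L d.2.1, L d.2.2⁆ := by
    rw [hdefeq]
    intro d hd
    simp only [List.mem_cons, List.not_mem_nil, or_false] at hd
    rcases hd with rfl | rfl | rfl | rfl <;> simp [L, l4]
  have hG : (Nat.card t22.S).factorization 2 = 7 := by
    show (Nat.card Spor.M22).factorization 2 = 7
    rw [Golay.card_M22, show (443520 : ℕ) = 2 ^ 7 * 3465 by norm_num,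
      Nat.factorization_mul (by norm_num) (by norm_num), Nat.Prime.factorization_pow Nat.prime_two]
    simp [Nat.factorization_eq_zero_of_not_dvd (show ¬ 2 ∣ 3465 by norm_num)]
  exact ⟨_, SchurTail.two_part hs hc hd Data.tail hR hC hκ hdef checkLin_true checkForms_true hder
    hnil hinj hsub hlen hG⟩

end CfsgLib.SchurM22
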