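import Cfsg.Agent.Lib.Schur.TableCocycle
import Cfsg.Agent.Lib.Schur.M22Two
import Cfsg.Agent.Lib.Schur.M22StemData
import Cfsg.Agent.Lib.Schur.M22CosetData

/-!
A stem extension of M22 with cyclic kernel of order 4: corestriction of a cocycle on a Sylow
2-subgroup.
-/

set_option autoImplicit false

namespace CfsgLib.SchurM22

open Cfsg CfsgLib.Comp CfsgLib.M24Elt CfsgLib.Golay CfsgLib.SchurCoded CfsgLib.SchurTable Subgroup
open scoped commutatorElement

/-- The tables on the Sylow subgroup. -/
def tab4 : Table :=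
  ⟨StemData.els, StemData.mulRows, StemData.valRows, StemData.gens, StemData.words, StemData.one⟩

/-- A coset representative. -/
def rep (i : ℕ) : ℕ := (StemData.reps.getD (i / 64) []).getD (i % 64) 0

/-- An entry of a packed table. -/
def entry (T : List ℕ) (B i : ℕ) : ℕ := T.getD (i / 64) 0 / B ^ (i % 64) % B

/-- The key of a permutation. -/
def keyf (O : List (List ℕ)) (f : ℕ → ℕ) : ℕ := (O.map fun T => (T.map fun b => 2 ^ f b).sum ^ 2).sum

/-- The orderings of the orbit. -/
def variants : List (List (List ℕ)) :=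
  [[[5, 14], [10, 22]], [[14, 5], [10, 22]], [[5, 14], [22, 10]], [[14, 5], [22, 10]],
   [[10, 22], [5, 14]], [[10, 22], [14, 5]], [[22, 10], [5, 14]], [[22, 10], [14, 5]]]

theorem keyf_variant {O : List (List ℕ)} (h : O ∈ variants) (f : ℕ → ℕ) :
    keyf O f = keyf StemData.orbit f := by
  simp only [variants, List.mem_cons, List.not_mem_nil, or_false] at h
  rcases h with rfl | rfl | rfl | rfl | rfl | rfl | rfl | rfl <;>
    (simp only [keyf, StemData.orbit, List.map_cons, List.map_nil, List.sum_cons, List.sum_nil] <;>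
      ring)

/-- The key of a code. -/
def keyc (c : ℕ) : ℕ := keyf StemData.orbit (PermCode.get c)

/-- The checks of the action of an element on the cosets. -/
noncomputable def actCheck (u : ℕ) (t l : List ℕ) : Bool :=
  t22.ok u && PermCode.allLt 3465 fun i =>
    Nat.blt (entry t 4096 i) 3465 &&
      eqc (PermCode.mul 24 u (rep i))
        (PermCode.mul 24 (rep (entry t 4096 i)) (tab4.code (entry l 128 i)))

/-- The sum over the cosets. -/
noncomputable def total (F : ℕ → ℕ) : ℕ := Nat.rec 0 (fun j ih => F j + ih) 3465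

theorem total_eq (F : ℕ → ℕ) : total F = ∑ i ∈ Finset.range 3465, F i := by
  have : ∀ k : ℕ, (Nat.rec 0 (fun j ih => F j + ih) k : ℕ) = ∑ i ∈ Finset.range k, F i := by
    intro k
    induction k with
    | zero => rfl
    | succ k ih => rw [Finset.sum_range_succ, ← ih]; exact Nat.add_comm _ _
  exact this 3465

theorem tab4_check : tab4.check t22 4 = true := by decide +kernel

theorem tab4_n : tab4.n = 128 := by decide +kernel

theorem orbit_check : ((StemData.orbit.flatten.all fun b => Nat.blt b 24) &&
    (StemData.els.all fun a => decide (StemData.orbit.map (List.map (PermCode.get a)) ∈ variants))) =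
      true := by decide +kernel

theorem rep_check : ((PermCode.allLt 3465 fun i => t22.ok (rep i)) &&
    (PermCode.allLt 3464 fun i => Nat.blt (keyc (rep i)) (keyc (rep (i + 1))))) = true := by
  decide +kernel

theorem actU : actCheck StemData.pairU StemData.tu StemData.lu = true := by decide +kernel

theorem actV : actCheck StemData.pairV StemData.tv StemData.lv = true := by decide +kernel

theorem comm_check : eqw t22 [StemData.pairU, StemData.pairV] [StemData.pairV, StemData.pairU] = true := by
  decide +kernel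

theorem value_check :
    Nat.beq
      (total (fun i => tab4.v 4 (entry StemData.lu 128 (entry StemData.tv 4096 i))
        (entry StemData.lv 128 i)) % 4)
      ((total (fun i => tab4.v 4 (entry StemData.lv 128 (entry StemData.tu 4096 i))
        (entry StemData.lu 128 i)) + 1) % 4) = true := by decide +kernel

theorem exists_stem_four :
    ∃ (Γ : Type) (_ : Group Γ) (_ : Finite Γ) (σ : Γ →* t22.S),
      Cfsg.IsStemExtension σ ∧ Nat.card σ.ker = 4 ∧ IsCyclic σ.ker := by
  classical
  have : NeZero (4 : ℕ) := ⟨by norm_num⟩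
  obtain ⟨U, c, hmem, hsurj, hU, hval⟩ := exists_cocycle (τ := t22) (N := 4) tab4_check
  rw [tab4_n] at hU
  have hG : Nat.card t22.S = 443520 := Golay.card_M22
  have hidx : U.index = 3465 := by
    have := U.card_mul_index
    rw [hU, hG] at this
    omega
  have hr := rep_check
  rw [Bool.and_eq_true] at hr
  have hrok : ∀ i, i < 3465 → t22.ok (rep i) = true := fun i hi => PermCode.allLt_spec hr.1 i hi
  have hmono : ∀ j, j < 3465 → ∀ i, i < j → keyc (rep i) < keyc (rep j) := by
    intro j
    induction j with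
    | zero => intro _ i hi; omega
    | succ k ih =>
      intro hk i hi
      have h := PermCode.allLt_spec hr.2 k (by omega)
      rw [Nat.blt_eq] at h
      rcases Nat.lt_succ_iff_lt_or_eq.1 hi with hi | rfl
      · exact lt_trans (ih (by omega) i hi) h
      · exact h
  have ho := orbit_check
  rw [Bool.and_eq_true, List.all_eq_true] at ho
  have horb : ∀ T ∈ StemData.orbit, ∀ b ∈ T, b < 24 := fun T hT b hb =>
    by
    have h := ho.1 b (List.mem_flatten.2 ⟨T, hT, hb⟩)
    rwa [Nat.blt_eq] at h
  let keyG : t22.S → ℕ := fun g => keyf StemData.orbit fun b => bit ((g : Equiv.Perm GolayPt) (Golay.pt b))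
  have hgetb : ∀ a b, t22.ok a = true → b < 24 →
      bit ((el t22 a : Equiv.Perm GolayPt) (Golay.pt b)) = PermCode.get a b := by
    intro a b ha hb
    rw [coe_el t22 ha, bit_pm (t22.sound a ha).1, bit_pt hb]
  have hkc : ∀ a, t22.ok a = true → keyG (el t22 a) = keyc a := by
    intro a ha
    unfold keyc
    simp only [keyG, keyf]
    refine congrArg List.sum (List.map_congr_left fun T hT => ?_)
    refine congrArg (fun l : List ℕ => l.sum ^ 2) (List.map_congr_left fun b hb => ?_)
    rw [hgetb a b ha (horb T hT b hb)]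
  have hok4 : ∀ i, i < 128 → t22.ok (tab4.code i) = true ∧ tab4.code i ∈ StemData.els := by
    intro i hi
    have hl : i < StemData.els.length := by
      have := tab4_n
      simp only [Table.n, tab4] at this
      omega
    have hm : tab4.code i ∈ StemData.els := by
      simp only [Table.code, tab4]
      rw [List.getD_eq_getElem _ _ hl]
      exact List.getElem_mem _
    refine ⟨?_, hm⟩
    have h := tab4_check
    simp only [Table.check, Bool.and_eq_true] at h
    exact List.all_eq_true.1 h.1 _ hm
  have hinv : ∀ g, ∀ h ∈ U, keyG (g * h) = keyG g := by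
    intro g h hh
    obtain ⟨i, hi, rfl⟩ := hsurj h hh
    rw [tab4_n] at hi
    obtain ⟨ha, hm⟩ := hok4 i hi
    have hv : StemData.orbit.map (List.map (PermCode.get (tab4.code i))) ∈ variants :=
      of_decide_eq_true (List.all_eq_true.1 ho.2 _ hm)
    show keyf _ _ = keyf _ _
    rw [← keyf_variant hv (fun b => bit ((g : Equiv.Perm GolayPt) (Golay.pt b)))]
    unfold keyf
    rw [List.map_map]
    refine congrArg List.sum (List.map_congr_left fun T hT => ?_)
    rw [Function.comp_apply, List.map_map]
    refine congrArg (fun l : List ℕ => l.sum ^ 2) (List.map_congr_left fun b hb => ?_)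
    show 2 ^ bit _ = 2 ^ bit _
    rw [← hgetb (tab4.code i) b ha (horb T hT b hb), pt_bit, Subgroup.coe_mul, Equiv.Perm.mul_apply]
  let e₀ : Fin 3465 → t22.S ⧸ U := fun i => QuotientGroup.mk (el t22 (rep i))
  have he₀ : Function.Injective e₀ := by
    intro i j h
    have hh := hinv (el t22 (rep i)) _ (QuotientGroup.eq.1 h)
    rw [mul_inv_cancel_left, hkc _ (hrok i i.2), hkc _ (hrok j j.2)] at hh
    rcases lt_trichotomy (i : ℕ) j with h' | h' | h'
    · exact absurd hh (Nat.ne_of_gt (hmono j j.2 i h'))
    · exact Fin.ext h'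
    · exact absurd hh (Nat.ne_of_lt (hmono i i.2 j h'))
  let e : Fin 3465 ≃ t22.S ⧸ U := Equiv.ofBijective e₀
    ((Nat.bijective_iff_injective_and_card e₀).2 ⟨he₀, by rw [Nat.card_fin]; exact hidx.symm⟩)
  let s : t22.S ⧸ U → t22.S := fun x => el t22 (rep (e.symm x))
  have hs : ∀ x, (s x : t22.S ⧸ U) = x := fun x => e.apply_symm_apply x
  have hsm : ∀ i, s (e i) = el t22 (rep i) := fun i => by simp only [s, Equiv.symm_apply_apply]
  have : Fintype (t22.S ⧸ U) := Fintype.ofFinite _
  have hlab : ∀ (u : ℕ) (t l : List ℕ), actCheck u t l = true → ∀ i : Fin 3465,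
      ∃ hj : entry t 4096 i < 3465, el t22 u • e i = e ⟨_, hj⟩ ∧
        (SchurCor.label U s hs (el t22 u) (e i) : t22.S) = el t22 (tab4.code (entry l 128 i)) ∧
        entry l 128 i < 128 := by
    intro u t l h i
    simp only [actCheck, Bool.and_eq_true] at h
    obtain ⟨hu, hall⟩ := h
    have h := PermCode.allLt_spec hall i i.2
    rw [Bool.and_eq_true] at h
    have hj : entry t 4096 i < 3465 := by rw [Nat.blt_eq] at h; exact h.1
    have hl : entry l 128 i < 128 := Nat.mod_lt _ (by norm_num)
    obtain ⟨hlok, -⟩ := hok4 _ hl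
    have hp : el t22 u * el t22 (rep i) =
        el t22 (rep (entry t 4096 i)) * el t22 (tab4.code (entry l 128 i)) := by
      apply Subtype.ext
      rw [Subgroup.coe_mul, Subgroup.coe_mul, coe_el t22 hu, coe_el t22 (hrok i i.2),
        coe_el t22 (hrok _ hj), coe_el t22 hlok]
      have o1 := (t22.sound _ hu).1
      have o2 := (t22.sound _ (hrok i i.2)).1
      have o3 := (t22.sound _ (hrok _ hj)).1
      have o4 := (t22.sound _ hlok).1
      rw [← pm_mul o1 o2, ← pm_mul o3 o4]
      exact pm_eq_of_eqc (ok_pm_mul o1 o2) (ok_pm_mul o3 o4) h.2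
    have hm : el t22 (tab4.code (entry l 128 i)) ∈ U := hmem _ (by rw [tab4_n]; exact hl)
    have hsmul : el t22 u • e i = e ⟨_, hj⟩ := by
      show ((el t22 u * el t22 (rep i) : t22.S) : t22.S ⧸ U) = QuotientGroup.mk (el t22 (rep _))
      rw [hp]
      exact QuotientGroup.mk_mul_of_mem _ hm
    refine ⟨hj, hsmul, ?_, hl⟩
    show (s (el t22 u • e i))⁻¹ * el t22 u * s (e i) = _
    rw [hsmul, hsm, hsm, mul_assoc, hp, inv_mul_cancel_left]
  let u := el t22 StemData.pairU
  let v := el t22 StemData.pairV
  let c' := SchurCor.cores U s hs c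
  have hsum : ∀ (a b : ℕ) (ta la tb lb : List ℕ), actCheck a ta la = true → actCheck b tb lb = true →
      c'.f (el t22 a) (el t22 b) =
        ((total fun i => tab4.v 4 (entry la 128 (entry tb 4096 i)) (entry lb 128 i) : ℕ) : ZMod 4) := by
    intro a b ta la tb lb ha hb
    show ∑ x, _ = _
    rw [← Equiv.sum_comp e, total_eq, Nat.cast_sum, ← Fin.sum_univ_eq_sum_range]
    refine Finset.sum_congr rfl fun i _ => ?_
    obtain ⟨hj, hsm', hlb, hlb'⟩ := hlab b tb lb hb i
    rw [hsm']
    obtain ⟨-, -, hla, hla'⟩ := hlab a ta la ha ⟨_, hj⟩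
    exact hval _ _ _ _ (by rw [tab4_n]; exact hla') (by rw [tab4_n]; exact hlb') hla hlb
  have hone : c'.f u v - c'.f v u = 1 := by
    have e' := congrArg (fun n : ℕ => (n : ZMod 4)) (Nat.eq_of_beq_eq_true value_check)
    simp only [ZMod.natCast_mod, Nat.cast_add, Nat.cast_one] at e'
    rw [hsum _ _ _ _ _ _ actU actV, hsum _ _ _ _ _ _ actV actU, e']
    ring
  refine ⟨SchurCor.Ext c', inferInstance, inferInstance, SchurCor.Ext.proj c',
    ⟨SchurCor.Ext.proj_surjective, SchurCor.Ext.ker_proj_le_center, fun x hx => ?_⟩, ?_, ?_⟩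
  · have hcm := SchurCor.Ext.commutator_of_commute (c := c') ⟨u, 0⟩ ⟨v, 0⟩
      (eq_two comm_check)
    rw [hone] at hcm
    have hx' : x = SchurCor.Ext.incl c' (1 : ZMod 4) ^ x.fib.val := by
      rw [← SchurCor.Ext.incl_nsmul, nsmul_one, ZMod.natCast_rightInverse]
      exact SchurCor.Ext.mem_ker_proj.1 hx
    rw [hx', ← hcm]
    exact Subgroup.pow_mem _ (by
      rw [_root_.commutator_def]
      exact Subgroup.commutator_mem_commutator (Subgroup.mem_top _) (Subgroup.mem_top _)) _
  · rw [← Nat.card_congr (SchurCor.Ext.kerEquiv c').toEquiv, Nat.card_congr Multiplicative.toAdd,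
      Nat.card_zmod]
  · exact (SchurCor.Ext.kerEquiv c').isCyclic.1 inferInstance

end CfsgLib.SchurM22
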