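import Cfsg.Agent.Lib.Schur.TailBound

/-!
The certificate for the 2-part of the multiplier of M22.
-/

set_option autoImplicit false
set_option maxRecDepth 100000

namespace CfsgLib.SchurM22.Data

open CfsgLib.SchurTail

/-- The letters of the Sylow subgroup. -/
def letters : List ℕ := [564919185394254767161431177722554914050553753760576962816, 564440648836146778836253250431866566679917033118056775936, 564438402524967524179369286124710987198182467630514308096, 564923682440479520294559081303323564875734183279048458496, 564920681885916891659665028295592031482547293823918343936, 566073053993344890791762330183110671592605297785036280576, 566067791223044824875048270552988357389992483078942167296]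

/-- The conjugating elements. -/
def conjugators : List ℕ := [565972407774099179332423910410406604079106809723800393216, 564247977636430806338154562247307808607339454849487078656, 564062394668654080372108420102834615787629747692980994816, 565878104312710118093126698262894211780757663551517691136]

/-- The certificate. -/
def tail : TailData where
  n := 7
  derived := [3, 4, 5, 6]
  defs := [(3, 0, 1), (4, 0, 2), (5, 1, 4), (6, 0, 4)]
  rules := [(0, 0, []), (1, 1, [3]), (2, 2, [4]), (3, 3, []), (4, 4, [6]), (5, 5, []), (6, 6, []), (1, 0, [0, 1, 3]), (2, 0, [0, 2, 4]), (2, 1, [1, 2, 3, 4]), (3, 0, [0, 3]), (3, 1, [1, 3]), (3, 2, [2, 3, 5, 6]), (4, 0, [0, 4, 6]), (4, 1, [1, 4, 5, 6]), (4, 2, [2, 4]), (4, 3, [3, 4, 6]), (5, 0, [0, 5, 6]), (5, 1, [1, 5, 6]), (5, 2, [2, 5, 6]), (5, 3, [3, 5]), (5, 4, [4, 5]), (6, 0, [0, 6]), (6, 1, [1, 6]), (6, 2, [2, 6]), (6, 3, [3, 6]), (6, 4, [4, 6]), (6, 5, [5, 6])]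
  conjs := [(0, [0], [3, 4, 5, 6]), (0, [3, 4, 5], [0, 3, 4, 5]), (1, [0], [0, 6]), (1, [3], [6]), (1, [0, 1, 3], [5, 6]), (1, [0, 3, 6], [0, 3, 6]), (1, [0, 1, 3, 5, 6], [0, 1, 3]), (2, [0], [0, 1, 5]), (2, [0, 3, 6], [0, 1, 3]), (2, [0, 1, 5, 6], [0, 4, 6]), (3, [0], [3, 5, 6]), (3, [3], [6]), (3, [0, 1, 3], [3, 4]), (3, [0, 3, 6], [0, 3, 4, 5, 6])]
  srcs := [.word [[1, 0], [0]] [[1], [0, 0]], .word [[1, 1], [0]] [[1], [1, 0]], .word [[1, 1], [1]] [[1], [1, 1]], .word [[2, 0], [0]] [[2], [0, 0]], .word [[2, 1], [0]] [[2], [1, 0]], .word [[2, 1], [1]] [[2], [1, 1]], .word [[2, 2], [0]] [[2], [2, 0]], .word [[2, 2], [1]] [[2], [2, 1]], .word [[2, 2], [2]] [[2], [2, 2]], .word [[3, 2], [0]] [[3], [2, 0]], .word [[3, 2], [1]] [[3], [2, 1]], .word [[3, 2], [2]] [[3], [2, 2]], .word [[3, 3], [2]] [[3], [3, 2]], .word [[4, 0], [0]] [[4], [0, 0]], .word [[4, 1], [0]] [[4], [1, 0]], .word [[4, 1], [1]] [[4], [1, 1]], .word [[4, 2], [0]] [[4],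 [2, 0]], .word [[4, 2], [1]] [[4], [2, 1]], .word [[4, 3], [0]] [[4], [3, 0]], .word [[4, 3], [1]] [[4], [3, 1]], .word [[4, 3], [2]] [[4], [3, 2]], .word [[4, 4], [0]] [[4], [4, 0]], .word [[0, 1]] [[3, 1, 0]], .word [[0, 2]] [[4, 2, 0]], .word [[1, 4]] [[5, 4, 1]], .word [[0, 4]] [[6, 4, 0]], .conj 1 [3, 2] [2, 3], .conj 1 [3, 3] [], .conj 1 [2, 3, 4] [4, 2], .conj 2 [7, 7] [], .conj 2 [8, 8] [], .conj 2 [9, 7] [8, 9], .conj 3 [11, 11] [], .conj 3 [10, 11, 12] [12, 10], .conj 3 [11, 12, 13] [13, 12]]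
  k := 9
  targets := [(3, 0, [(1, 1), (2, -7), (3, 2), (4, -2), (5, 6), (6, 2), (7, 6), (8, 8), (9, -6), (10, 7), (11, -6), (12, -7), (14, 6), (15, -7), (16, -1), (17, -6), (18, -2), (19, 6), (20, -1), (21, 1), (22, -2), (26, 1)]), (4, 0, [(3, -2), (6, -1), (8, -3), (13, 1), (23, -2), (25, 1)]), (5, 2, [(0, 3696), (1, 2137), (2, -10372), (3, 3055), (4, -4273), (5, 10559), (6, 3056), (7, 10560), (8, 13614), (9, -11338), (10, 13475), (11, -10894), (12, -13031), (13, 120), (14, 10912), (15, -13087), (16, -247), (17, -10894), (18, -4679), (19, 10132), (20, -247), (21, 1431), (22, -2), (23, -2), (24, -2), (26, 1564), (27, 798), (28, -1596), (29, -390), (30, 390), (31, 780), (32, -20), (33, 38), (34, 2)]), (6, 0, [(0, -1), (1, -1), (2, 5), (4, 2), (5, -6), (7, -6), (8, -6), (9, 6), (10, -7), (11, 6), (12, 7), (13, -3), (14, -6), (15, 7), (16, 1), (17, 6), (18, 2), (19, -6), (20, 1), (21, -1), (25, -2)]), (7, 0, [(0, 1), (2, 1), (22, 1)]),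 (8, 0, [(3, 1), (8, 1), (23, 1)]), (9, 1, []), (10, 0, [(0, -1), (1, -1), (2, 5), (3, -2), (4, 2), (5, -6), (6, -2), (7, -6), (8, -8), (9, 6), (10, -7), (11, 6), (12, 7), (14, -6), (15, 7), (16, 1), (17, 6), (18, 2), (19, -6), (20, 1), (21, -1), (26, -1)]), (11, 0, [(2, 1)]), (12, 2, [(0, -59082), (1, -34137), (2, 165733), (3, -48827), (4, 68276), (5, -168712), (6, -48826), (7, -168711), (8, -217539), (9, 181176), (10, -215313), (11, 174032), (12, 208169), (13, -1923), (14, -174336), (15, 209082), (16, 3922), (17, 174032), (18, 74748), (19, -161841), (20, 3922), (21, -22859), (22, -2), (23, -2), (24, 1), (25, 1), (26, -24973), (27, -12768), (28, 25536), (29, 6232), (30, -6232), (31, -12464), (32, 320), (33, -608), (34, -32)]), (13, 0, [(0, 1), (1, 1), (2, -5), (3, 1), (4, -2), (5, 6), (6, 1), (7, 6), (8, 7), (9, -6), (10, 7), (11, -6), (12, -7), (13, 2), (14, 6), (15, -7), (16, -1), (17, -6), (18, -2), (19, 6), (20, -1), (21, 1), (25,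 1)]), (14, 0, [(0, -1847), (1, -1067), (2, 5177), (3, -1526), (4, 2134), (5, -5270), (6, -1526), (7, -5270), (8, -6796), (9, 5660), (10, -6727), (11, 5438), (12, 6505), (13, -59), (14, -5447), (15, 6533), (16, 122), (17, 5438), (18, 2337), (19, -5057), (20, 122), (21, -714), (24, 1), (25, 1), (26, -781), (27, -399), (28, 798), (29, 195), (30, -195), (31, -390), (32, 10), (33, -19), (34, -1)]), (15, 0, [(8, 1)]), (16, 2, [(0, 5538), (1, 3201), (2, -15545), (3, 4578), (4, -6401), (5, 15823), (6, 4579), (7, 15824), (8, 20401), (9, -16991), (10, 20192), (11, -16321), (12, -19522), (13, 180), (14, 16349), (15, -19608), (16, -370), (17, -16321), (18, -7008), (19, 15178), (20, -370), (21, 2144), (22, -2), (23, -2), (25, 1), (26, 2343), (27, 1197), (28, -2394), (29, -584), (30, 584), (31, 1168), (32, -30), (33, 57), (34, 3)]), (17, 2, [(0, -31389), (1, -18136), (2, 88046), (3, -25940), (4, 36273), (5, -89630), (6, -25939), (7, -89629), (8, -115570),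 (9, 96252), (10, -114388), (11, 92456), (12, 110592), (13, -1022), (14, -92618), (15, 111077), (16, 2082), (17, 92456), (18, 39711), (19, -85979), (20, 2082), (21, -12144), (22, -2), (23, -2), (25, 1), (26, -13267), (27, -6783), (28, 13566), (29, 3311), (30, -3311), (31, -6622), (32, 170), (33, -323), (34, -17)]), (18, 2, [(0, -60932), (1, -35207), (2, 170926), (3, -50358), (4, 70415), (5, -174001), (6, -50357), (7, -174000), (8, -224359), (9, 186854), (10, -222061), (11, 179487), (12, 214694), (13, -1983), (14, -179801), (15, 215635), (16, 4046), (17, 179487), (18, 77089), (19, -166915), (20, 4046), (21, -23576), (22, -2), (23, -2), (25, 1), (26, -25755), (27, -13167), (28, 26334), (29, 6427), (30, -6427), (31, -12854), (32, 330), (33, -627), (34, -33)]), (19, 0, [(0, -24005), (1, -13871), (2, 67343), (3, -19841), (4, 27742), (5, -68555), (6, -19841), (7, -68555), (8, -88396), (9, 73618), (10, -87490), (11, 70717), (12, 84588), (13,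 -780), (14, -70840), (15, 84958), (16, 1595), (17, 70716), (18, 30371), (19, -65763), (20, 1594), (21, -9289), (25, 1), (26, -10147), (27, -5187), (28, 10374), (29, 2532), (30, -2532), (31, -5064), (32, 130), (33, -247), (34, -13)]), (20, 2, [(0, -66470), (1, -38407), (2, 186463), (3, -54934), (4, 76815), (5, -189817), (6, -54933), (7, -189816), (8, -244751), (9, 203839), (10, -242246), (11, 195801), (12, 234208), (13, -2165), (14, -196144), (15, 235235), (16, 4414), (17, 195801), (18, 84096), (19, -182086), (20, 4414), (21, -25719), (22, -2), (23, -2), (26, -28096), (27, -14364), (28, 28728), (29, 7011), (30, -7011), (31, -14022), (32, 360), (33, -684), (34, -36)]), (21, 0, [(0, -7386), (1, -4268), (2, 20720), (3, -6104), (4, 8536), (5, -21093), (6, -6104), (7, -21093), (8, -27197), (9, 22651), (10, -26919), (11, 21758), (12, 26026), (13, -241), (14, -21796), (15, 26140), (16, 491), (17, 21758), (18, 9345), (19, -20234), (20, 491), (21,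 -2858), (26, -3122), (27, -1596), (28, 3192), (29, 779), (30, -779), (31, -1558), (32, 40), (33, -76), (34, -4)]), (22, 0, [(0, -1), (1, -1), (2, 5), (3, -2), (4, 2), (5, -6), (6, -2), (7, -6), (8, -8), (9, 6), (10, -7), (11, 6), (12, 7), (14, -6), (15, 7), (16, 1), (17, 6), (18, 2), (19, -6), (20, 1), (21, -1)]), (23, 2, [(0, -36929), (1, -21338), (2, 103593), (3, -30520), (4, 42677), (5, -105458), (6, -30519), (7, -105457), (8, -135978), (9, 113248), (10, -134586), (11, 108782), (12, 130120), (13, -1204), (14, -108973), (15, 130691), (16, 2452), (17, 108782), (18, 46721), (19, -101162), (20, 2452), (21, -14289), (22, -2), (23, -2), (26, -15608), (27, -7980), (28, 15960), (29, 3895), (30, -3895), (31, -7790), (32, 200), (33, -380), (34, -20)]), (24, 0, [(0, -1), (1, -1), (2, 5), (3, -1), (4, 2), (5, -6), (6, -1), (7, -6), (8, -7), (9, 6), (10, -7), (11, 6), (12, 7), (13, -1), (14, -6), (15, 7), (17, 6), (18, 2), (19, -6), (20, 1), (21,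 -1)]), (25, 0, [(0, -1), (1, -1), (2, 5), (3, -2), (4, 2), (5, -6), (6, -2), (7, -6), (8, -8), (9, 6), (10, -7), (11, 6), (12, 7), (14, -6), (15, 7), (16, 1), (17, 6), (18, 1), (19, -6), (20, 1), (21, -1)]), (26, 0, [(0, 1), (1, 1), (2, -5), (3, 1), (4, -2), (5, 6), (6, 1), (7, 6), (8, 7), (9, -6), (10, 7), (11, -6), (12, -7), (13, 1), (14, 6), (15, -7), (16, -1), (17, -6), (18, -2), (19, 6), (20, -1), (21, 1)]), (27, 0, [(0, -1), (1, -1), (2, 4), (3, -1), (4, 2), (5, -5), (6, -1), (7, -5), (8, -6), (9, 5), (10, -6), (11, 5), (12, 6), (13, -1), (14, -5), (15, 6), (17, 5), (18, 2), (19, -5), (21, -1)])]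
  four := [(0, 66471), (1, 38407), (2, -186460), (3, 54934), (4, -76816), (5, 189816), (6, 54932), (7, 189814), (8, 244750), (9, -203838), (10, 242245), (11, -195800), (12, -234207), (13, 2167), (14, 196143), (15, -235234), (16, -4413), (17, -195800), (18, -84096), (19, 182085), (20, -4413), (21, 25719), (22, 4), (23, 4), (26, 28094), (27, 14364), (28, -28728), (29, -7011), (30, 7011), (31, 14022), (32, -360), (33, 684), (34, 36)]
  forms := [[2, 3, 4, 6], [0, 2, 3, 4, 6], [2, 6], [0, 2, 6], [0, 2], [2], [0, 1], [1, 3, 4, 6], [0, 1, 5], [1, 3, 4, 5], [2, 5, 6], [0, 2, 5], [0, 1, 3, 4, 5, 6], [1, 5, 6], [0, 1, 3, 4, 6], [1], [0, 2, 5, 6], [2, 5], [1, 5], [0, 1, 3, 4, 5], [1, 6], [0, 1, 3, 4], [0, 2, 3, 4], [2, 3, 4], [2, 3, 4, 5, 6], [0, 2, 3, 4, 5], [0, 2, 3, 4, 5, 6], [2, 3, 4, 5], [1, 3, 4], [0, 1, 6], [1, 3, 4, 5, 6], [0, 1, 5, 6], [0, 1, 2, 4, 5], [1, 2, 3, 4, 6], [0, 1, 2, 3], [1, 2, 5], [1, 2, 5, 6], [0, 1, 2, 3, 6], [3, 6], [0,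 3, 4], [3, 5, 6], [0, 3, 4, 5, 6], [0, 1, 2, 3, 5], [1, 2, 6], [4, 6], [0], [4, 5, 6], [0, 5, 6], [1, 2], [0, 1, 2, 3, 5, 6], [0, 6], [4], [0, 5], [4, 5], [1, 2, 3, 4], [0, 1, 2, 4, 5, 6], [0, 1, 2, 4], [1, 2, 3, 4, 5], [1, 2, 3, 4, 5, 6], [0, 1, 2, 4, 6], [0, 3, 4, 6], [3], [0, 3, 4, 5], [3, 5], [2, 4, 5], [0, 2, 4, 5], [2, 3, 5, 6], [0, 2, 3, 5, 6], [0, 2, 3, 5], [2, 3, 5], [0, 1, 3, 5], [1, 4, 5], [0, 1, 3], [1, 4, 6], [2, 3, 6], [0, 2, 3], [0, 1, 4], [1, 3, 6], [0, 1, 4, 5], [1, 3, 5], [0, 2, 3, 6], [2, 3], [1, 3], [0, 1, 4, 6], [1, 3, 5, 6], [0, 1, 4, 5, 6], [0, 2, 4, 5, 6], [2, 4, 5, 6], [2, 4], [0, 2, 4, 6], [0, 2, 4], [2, 4, 6], [1, 4, 5, 6], [0, 1, 3, 5, 6], [1, 4], [0, 1, 3, 6], [0, 1, 2, 3, 4, 6], [1, 2, 4, 5], [0, 1, 2, 5], [1, 2, 3], [1, 2, 3, 6], [0, 1, 2, 5, 6], [5, 6], [0, 4, 5, 6], [6], [0, 4], [0, 1, 2], [1, 2, 3, 5, 6], [3, 4, 5], [0, 3, 5], [3, 4], [0, 3, 6], [1, 2, 3, 5], [0, 1, 2, 6], [0, 3, 5, 6], [3, 4, 5, 6],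 [0, 3], [3, 4, 6], [1, 2, 4, 5, 6], [0, 1, 2, 3, 4], [0, 1, 2, 3, 4, 5, 6], [1, 2, 4, 6], [1, 2, 4], [0, 1, 2, 3, 4, 5], [0, 4, 5], [5], [0, 4, 6], []]
  dforms := [[3, 6], [3, 5, 6], [4, 6], [4, 5, 6], [4], [4, 5], [3], [3, 5], [5, 6], [6], [3, 4, 5], [3, 4], [3, 4, 5, 6], [3, 4, 6], [5], []]

end CfsgLib.SchurM22.Data
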