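import Cfsg.Agent.Lib.Schur.M22Four
import Cfsg.Agent.Lib.Schur.M22ThreeData
import Cfsg.Agent.Lib.Schur.Bound

/-!
The prime 3 for the multiplier of M22: a stem extension with kernel of order 3, and the bound.
-/

set_option autoImplicit false

namespace CfsgLib.SchurM22

open Cfsg CfsgLib.Comp CfsgLib.M24Elt CfsgLib.Golay CfsgLib.SchurCoded CfsgLib.SchurTable Subgroup

/-- The tables on the Sylow 3-subgroup. -/
def tab3 : Table :=
  ⟨StemData.els3, StemData.mul3, StemData.val3, StemData.gens3, StemData.words3, StemData.one3⟩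

/-- The conjugators, as pairs of indices. -/
def clist : List ℕ := StemData.classBlocks.flatten

/-- Evaluate an argument before use. -/
noncomputable def force {α : Type} (n : ℕ) (f : ℕ → α) : α := Nat.rec (f 0) (fun m _ => f (m + 1)) n

theorem force_eq {α : Type} (n : ℕ) (f : ℕ → α) : force n f = f n := by cases n <;> rfl

/-- The graph of the conjugate of the first generator, as a number. -/
noncomputable def k3body (h : ℕ) : ℕ :=
  Nat.rec 0 (fun x ih =>
    2 ^ (24 * PermCode.get h x + PermCode.get h (PermCode.get StemData.gu x)) + ih) 24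

/-- The code of a conjugator. -/
noncomputable def clsc (c : ℕ) : ℕ := PermCode.mul 24 (rep (c / 128)) (tab4.code (c % 128))

/-- The key of a conjugator. -/
noncomputable def keyOf (c : ℕ) : ℕ :=
  force (rep (c / 128)) fun a => force (tab4.code (c % 128)) fun b =>
    force (PermCode.mul 24 a b) k3body

theorem keyOf_eq (c : ℕ) : keyOf c = k3body (clsc c) := by
  simp only [keyOf, clsc, force_eq]

/-- Strictly increasing keys, above a bound. -/
noncomputable def chk (key : ℕ → ℕ) : List ℕ → ℕ → Bool :=
  fun l => List.rec (motive := fun _ => ℕ → Bool) (fun _ => true)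
    (fun c _ ih prev => force (key c) fun v => Nat.blt prev v && ih v) l

theorem chk_spec (key : ℕ → ℕ) : ∀ (l : List ℕ) (prev : ℕ), chk key l prev = true →
    (l.map key).Pairwise (· < ·) ∧ ∀ x ∈ l.map key, prev < x
  | [], _, _ => by simp
  | c :: l, prev, h => by
    have h' : (force (key c) fun v => Nat.blt prev v && chk key l v) = true := h
    rw [force_eq, Bool.and_eq_true, Nat.blt_eq] at h'
    obtain ⟨hlt, hrest⟩ := h'
    obtain ⟨hp, hmem⟩ := chk_spec key l (key c) hrest
    rw [List.map_cons, List.pairwise_cons]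
    refine ⟨⟨hmem, hp⟩, fun x hx => ?_⟩
    rcases List.mem_cons.1 hx with rfl | hx
    · exact hlt
    · exact lt_trans hlt (hmem x hx)

/-- The checks of the conjugates. -/
noncomputable def classCheck : Bool :=
  Nat.beq clist.length 12320 &&
    ((clist.all fun c => Nat.blt (c / 128) 3465) && chk keyOf clist 0)

/-- The checks of the centraliser and of the conjugators. -/
noncomputable def centCheck : Bool :=
  (StemData.cent.all fun c => eqw t22 [c, StemData.gu] [StemData.gu, c]) &&
  (incr (StemData.cent.map fun c => prodc [c]) &&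
  (Nat.beq StemData.cent.length 36 &&
  ((PermCode.allLt 9 fun i => Nat.beq i StemData.one3 ||
    eqw t22 [StemData.gu, StemData.conjTo.getD i 0] [StemData.conjTo.getD i 0, tab3.code i]) &&
  (t22.ok StemData.gv &&
    (StemData.conjTo.all t22.ok && Nat.beq StemData.conjTo.length 9)))))

/-- The check of the commutator values. -/
noncomputable def valueCheck : Bool :=
  StemData.cent.all fun c => PermCode.allLt 9 fun i => Nat.beq i StemData.one3 ||
    PermCode.allLt 9 fun j =>
      !eqc (PermCode.mul 24 StemData.gv (PermCode.mul 24 c (StemData.conjTo.getD i 0)))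
          (PermCode.mul 24 (PermCode.mul 24 c (StemData.conjTo.getD i 0)) (tab3.code j)) ||
        Nat.beq (tab3.v 3 i j) ((tab3.v 3 j i + 1) % 3)

/-- The checks of the generators. -/
noncomputable def genCheck : Bool :=
  eqw t22 [StemData.gu, StemData.gv] [StemData.gv, StemData.gu] &&
  (eqw t22 [StemData.gu, StemData.gu, StemData.gu] [] &&
  (eqw t22 [StemData.gv, StemData.gv, StemData.gv] [] &&
  (eqw t22 [tab3.code 1] [StemData.gu] && (eqw t22 [tab3.code 3] [StemData.gv] &&
  ((!eqw t22 [StemData.gu] []) &&
  (PermCode.allLt 9 fun i => wordOk [StemData.gu, StemData.gv] (StemData.words3.getD i []) &&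
    eqw t22 [tab3.code i] (word [StemData.gu, StemData.gv] (StemData.words3.getD i []))))))))

theorem rec_sum (F : ℕ → ℕ) : ∀ n : ℕ,
    (Nat.rec 0 (fun j ih => F j + ih) n : ℕ) = ∑ i ∈ Finset.range n, F i
  | 0 => rfl
  | n + 1 => by rw [Finset.sum_range_succ, ← rec_sum F n]; exact Nat.add_comm _ _

theorem k3body_eq (h : ℕ) : k3body h = ∑ i : Fin 24,
    2 ^ (24 * PermCode.get h i + PermCode.get h (PermCode.get StemData.gu i)) :=
  (rec_sum (fun x => 2 ^ (24 * PermCode.get h x + PermCode.get h (PermCode.get StemData.gu x))) 24).trans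
    (Fin.sum_univ_eq_sum_range
      (fun x => 2 ^ (24 * PermCode.get h x + PermCode.get h (PermCode.get StemData.gu x))) 24).symm

theorem tab3_check : tab3.check t22 3 = true := by decide +kernel

theorem tab3_n : tab3.n = 9 := by decide +kernel

theorem class_check : classCheck = true := by decide +kernel

theorem cent_check : centCheck = true := by decide +kernel

theorem value3_check : valueCheck = true := by decide +kernel

theorem gen_check : genCheck = true := by decide +kernel

theorem ne_one_of_eqw {a : ℕ} (ha : t22.ok a = true) (h : eqw t22 [a] [] = false) : el t22 a ≠ 1 := by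
  intro e
  have : eqw t22 [a] [] = true := by
    simp only [eqw, List.all_cons, ha, List.all_nil, Bool.true_and, Bool.and_true]
    obtain ⟨o1, e1⟩ := prodc_spec t22 (l := [a]) (by simp [ha])
    refine eqc_of_pm_eq o1 (prodc_spec t22 (l := []) rfl).1 ?_
    rw [← e1, ← (prodc_spec t22 (l := []) rfl).2]
    simp [elw, e]
  rw [h] at this
  exact Bool.noConfusion this

set_option maxHeartbeats 2000000 in
theorem centralizer_gu {g : t22.S} (hg : g ∈ centralizer {el t22 StemData.gu}) :
    ∃ c ∈ StemData.cent, g = el t22 c := by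
  classical
  have hcl := class_check
  simp only [classCheck, Bool.and_eq_true] at hcl
  have hcc := cent_check
  simp only [centCheck, Bool.and_eq_true, List.all_eq_true] at hcc
  obtain ⟨hcomm, hincr, hlen, -⟩ := hcc
  have hr := rep_check
  rw [Bool.and_eq_true] at hr
  have hgenc := gen_check
  simp only [genCheck, Bool.and_eq_true] at hgenc
  have hguok : t22.ok StemData.gu = true := by
    have h := hgenc.1
    simp only [eqw, List.all_cons, Bool.and_eq_true] at h
    exact h.1.1
  have hclok : ∀ c ∈ clist, t22.ok (rep (c / 128)) = true ∧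
      t22.ok (tab4.code (c % 128)) = true := by
    intro k hk
    have hb := List.all_eq_true.1 hcl.2.1 k hk
    rw [Nat.blt_eq] at hb
    refine ⟨PermCode.allLt_spec hr.1 _ hb, ?_⟩
    have h := tab4_check
    simp only [Table.check, Bool.and_eq_true] at h
    refine List.all_eq_true.1 h.1 _ ?_
    have hl : k % 128 < StemData.els.length := by
      have := tab4_n
      simp only [Table.n, tab4] at this
      omega
    simp only [Table.code, tab4]
    rw [List.getD_eq_getElem _ _ hl]
    exact List.getElem_mem _
  let u := el t22 StemData.gu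
  let key : t22.S → ℕ := fun g => ∑ p : GolayPt,
    2 ^ (24 * bit ((g : Equiv.Perm GolayPt) p) +
      bit ((g : Equiv.Perm GolayPt) ((u : Equiv.Perm GolayPt) p)))
  let H := centralizer ({u} : Set t22.S)
  have hinv : ∀ g, ∀ h ∈ H, key (g * h) = key g := by
    intro g h hh
    have hc : (h : Equiv.Perm GolayPt) * (u : Equiv.Perm GolayPt) =
        (u : Equiv.Perm GolayPt) * (h : Equiv.Perm GolayPt) :=
      (congrArg Subtype.val (mem_centralizer_iff.1 hh u rfl)).symm
    simp only [key, Subgroup.coe_mul, Equiv.Perm.mul_apply]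
    refine Fintype.sum_equiv (h : Equiv.Perm GolayPt) _ _ fun p => ?_
    have := congrArg (fun q : Equiv.Perm GolayPt => q p) hc
    simp only [Equiv.Perm.mul_apply] at this
    rw [this]
  let L : ℕ → t22.S := fun c => el t22 (rep (c / 128)) * el t22 (tab4.code (c % 128))
  have hkey : ∀ c ∈ clist, key (L c) = keyOf c := by
    intro k hk
    obtain ⟨h1, h2⟩ := hclok k hk
    have o1 := (t22.sound _ h1).1
    have o2 := (t22.sound _ h2).1
    have hL : (L k : Equiv.Perm GolayPt) = pm (clsc k) := by
      rw [Subgroup.coe_mul, coe_el t22 h1, coe_el t22 h2, clsc, pm_mul o1 o2]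
    have hu : (u : Equiv.Perm GolayPt) = pm StemData.gu := coe_el t22 hguok
    simp only [key]
    rw [hL, hu, keyOf_eq, k3body_eq]
    refine Fintype.sum_equiv num _ _ fun p => ?_
    have ok : PermCode.Ok 24 (clsc k) := ok_pm_mul o1 o2
    rw [bit_pm ok, bit_pm ok, bit_pm (t22.sound _ hguok).1]
    rfl
  have hidx : 12320 ≤ H.index := by
    have hp : ((clist.map L).map key).Pairwise (· < ·) := by
      rw [List.map_map, List.map_congr_left (f := key ∘ L) (g := keyOf) fun c hc => hkey c hc]
      exact (chk_spec keyOf clist 0 hcl.2.2).1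
    have := length_le_index key hinv hp
    rwa [List.length_map, Nat.eq_of_beq_eq_true hcl.1] at this
  have hcard : Nat.card H ≤ 36 := by
    have h1 := H.card_mul_index
    have h2 : Nat.card t22.S = 443520 := Golay.card_M22
    rw [h2] at h1
    by_contra hcon
    have := Nat.mul_le_mul (show 37 ≤ Nat.card H by omega) hidx
    omega
  have hmem : ∀ c ∈ StemData.cent, t22.ok c = true ∧ el t22 c ∈ H := by
    intro c hc
    have h := hcomm c hc
    refine ⟨?_, ?_⟩
    · simp only [eqw, List.all_cons, Bool.and_eq_true] at h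
      exact h.1.1
    · rw [mem_centralizer_iff]
      intro x hx
      rw [Set.mem_singleton_iff.1 hx]
      exact (eq_two h).symm
  have hnd : (StemData.cent.map (el t22)).Nodup := by
    have h : (StemData.cent.map fun c => prodc [c]).Nodup :=
      (incr_pairwise hincr).imp fun h => Nat.ne_of_lt h
    rw [List.Nodup, List.pairwise_map] at h ⊢
    refine List.Pairwise.imp_of_mem (fun {a b} ha hb hne e => hne ?_) h
    exact prodc_inj (τ := t22) (by simp [(hmem a ha).1]) (by simp [(hmem b hb).1]) (by simp [elw, e])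
  have hsub : (StemData.cent.map (el t22)).toFinset ⊆ (H : Set t22.S).toFinite.toFinset := by
    intro x hx
    obtain ⟨c, hc, rfl⟩ := List.mem_map.1 (List.mem_toFinset.1 hx)
    exact (Set.Finite.mem_toFinset _).2 (hmem c hc).2
  have heq := Finset.eq_of_subset_of_card_le hsub (by
    rw [List.toFinset_card_of_nodup hnd, List.length_map, Nat.eq_of_beq_eq_true hlen,
      ← Set.ncard_eq_toFinset_card _, ← Nat.card_coe_set_eq]
    exact hcard)
  have hg' : g ∈ (StemData.cent.map (el t22)).toFinset := by
    rw [heq]; exact (Set.Finite.mem_toFinset _).2 hg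
  obtain ⟨c, hc, rfl⟩ := List.mem_map.1 (List.mem_toFinset.1 hg')
  exact ⟨c, hc, rfl⟩

theorem exists_sylow_three : ∃ (U : Subgroup t22.S) (c : SchurCor.Cocycle U (ZMod 3)),
    (∀ i, i < 9 → el t22 (tab3.code i) ∈ U) ∧
    (∀ x ∈ U, ∃ i, i < 9 ∧ x = el t22 (tab3.code i)) ∧ Nat.card U = 9 ∧
    (∀ i j (a b : U), i < 9 → j < 9 → (a : t22.S) = el t22 (tab3.code i) →
      (b : t22.S) = el t22 (tab3.code j) → c.f a b = (tab3.v 3 i j : ZMod 3)) ∧ U.index = 49280 := by
  have : NeZero (3 : ℕ) := ⟨by norm_num⟩
  obtain ⟨U, c, h1, h2, h3, h4⟩ := exists_cocycle (τ := t22) (N := 3) tab3_check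
  rw [tab3_n] at h3
  refine ⟨U, c, fun i hi => h1 i (by rw [tab3_n]; exact hi),
    fun x hx => by simpa [tab3_n] using h2 x hx, h3,
    fun i j a b hi hj => h4 i j a b (by rw [tab3_n]; exact hi) (by rw [tab3_n]; exact hj), ?_⟩
  have := U.card_mul_index
  have hG : Nat.card t22.S = 443520 := Golay.card_M22
  rw [h3, hG] at this
  omega

theorem exists_stem_three :
    ∃ (Γ : Type) (_ : Group Γ) (_ : Finite Γ) (σ : Γ →* t22.S),
      Cfsg.IsStemExtension σ ∧ Nat.card σ.ker = 3 := by
  have := Fact.mk Nat.prime_three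
  obtain ⟨U, c, -, hsurj, -, hval, hidx⟩ := exists_sylow_three
  have hg := gen_check
  simp only [genCheck, Bool.and_eq_true, Bool.not_eq_true'] at hg
  obtain ⟨huv, hu3, hv3, -, -, hune, -⟩ := hg
  have hcc := cent_check
  simp only [centCheck, Bool.and_eq_true, List.all_eq_true] at hcc
  obtain ⟨hcomm, -, -, hconj, hvok, hcok, hclen⟩ := hcc
  have huok : t22.ok StemData.gu = true := by
    have h := huv
    simp only [eqw, List.all_cons, Bool.and_eq_true] at h
    exact h.1.1
  have hu := eqw_spec hu3
  have hv := eqw_spec hv3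
  refine SchurCor.exists_stem_of_cor U (p := 3) (by rw [hidx]; norm_num) c (el t22 StemData.gu)
    (el t22 StemData.gv) (eq_two huv) (by simpa [elw, pow_succ, mul_assoc] using hu)
    (by simpa [elw, pow_succ, mul_assoc] using hv) 1 one_ne_zero fun g a b ha hb => ?_
  obtain ⟨i, hi, hai⟩ := hsurj _ a.2
  obtain ⟨j, hj, hbj⟩ := hsurj _ b.2
  have hi1 : i ≠ StemData.one3 := by
    rintro rfl
    have h1 : el t22 (tab3.code StemData.one3) = 1 := by
      have h := tab3_check
      simp only [Table.check, Bool.and_eq_true] at h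
      obtain ⟨-, -, -, h, -⟩ := h
      have h' := eqw_spec h
      simpa [elw, tab3] using h'
    rw [hai, h1] at ha
    exact ne_one_of_eqw huok hune (by
      rw [show el t22 StemData.gu = g * (g⁻¹ * el t22 StemData.gu * g) * g⁻¹ by group, ← ha]
      group)
  have hc' := PermCode.allLt_spec hconj i hi
  rw [Bool.or_eq_true, or_iff_right (fun h => hi1 (Nat.eq_of_beq_eq_true h))] at hc'
  have hconj' := eq_two hc'
  obtain ⟨cc, hcc, hgc⟩ := centralizer_gu (g := g * (el t22 (StemData.conjTo.getD i 0))⁻¹) (by
    rw [mem_centralizer_iff]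
    intro x hx
    rw [Set.mem_singleton_iff.1 hx]
    have h1 : el t22 StemData.gu * g = g * el t22 (tab3.code i) := by
      rw [← hai, ha]; group
    have h2 : (el t22 (StemData.conjTo.getD i 0))⁻¹ * el t22 StemData.gu =
        el t22 (tab3.code i) * (el t22 (StemData.conjTo.getD i 0))⁻¹ := by
      rw [inv_mul_eq_iff_eq_mul, ← mul_assoc, ← hconj', mul_inv_cancel_right]
    rw [mul_assoc, h2, ← mul_assoc, h1, mul_assoc])
  have hg' : g = el t22 cc * el t22 (StemData.conjTo.getD i 0) := eq_mul_of_mul_inv_eq hgc
  have hccok : t22.ok cc = true := by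
    have h := hcomm cc hcc
    simp only [eqw, List.all_cons, Bool.and_eq_true] at h
    exact h.1.1
  have hdok : t22.ok (StemData.conjTo.getD i 0) = true := by
    have hl := Nat.eq_of_beq_eq_true hclen
    rw [List.getD_eq_getElem _ _ (show i < StemData.conjTo.length by omega)]
    exact hcok _ (List.getElem_mem _)
  have hjok : t22.ok (tab3.code j) = true := by
    have h := tab3_check
    simp only [Table.check, Bool.and_eq_true] at h
    refine List.all_eq_true.1 h.1 _ ?_
    have hl : j < tab3.els.length := by have := tab3_n; simp only [Table.n] at this; omega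
    rw [Table.code, List.getD_eq_getElem _ _ hl]
    exact List.getElem_mem _
  have hve := PermCode.allLt_spec (List.all_eq_true.1 value3_check cc hcc) i hi
  rw [Bool.or_eq_true, or_iff_right (fun h => hi1 (Nat.eq_of_beq_eq_true h))] at hve
  have hve := PermCode.allLt_spec hve j hj
  have heq : el t22 StemData.gv * (el t22 cc * el t22 (StemData.conjTo.getD i 0)) =
      el t22 cc * el t22 (StemData.conjTo.getD i 0) * el t22 (tab3.code j) := by
    rw [← hg', ← hbj, hb]; group
  have oc := (t22.sound _ hccok).1
  have od := (t22.sound _ hdok).1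
  have ov := (t22.sound _ hvok).1
  have oj := (t22.sound _ hjok).1
  have heqc : eqc (PermCode.mul 24 StemData.gv (PermCode.mul 24 cc (StemData.conjTo.getD i 0)))
      (PermCode.mul 24 (PermCode.mul 24 cc (StemData.conjTo.getD i 0)) (tab3.code j)) = true := by
    refine eqc_of_pm_eq (ok_pm_mul ov (ok_pm_mul oc od)) (ok_pm_mul (ok_pm_mul oc od) oj) ?_
    have e := congrArg Subtype.val heq
    simp only [Subgroup.coe_mul, coe_el t22 hvok, coe_el t22 hccok, coe_el t22 hdok,
      coe_el t22 hjok] at e
    rw [pm_mul ov (ok_pm_mul oc od), pm_mul (ok_pm_mul oc od) oj, pm_mul oc od]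
    exact e
  rw [heqc, Bool.not_true, Bool.false_or] at hve
  have e' := congrArg (fun n : ℕ => (n : ZMod 3)) (Nat.eq_of_beq_eq_true hve)
  simp only [ZMod.natCast_mod, Nat.cast_add, Nat.cast_one] at e'
  rw [hval i j a b hi hj hai hbj, hval j i b a hj hi hbj hai, e']
  ring

theorem nine_not_dvd {Γ : Type} [Group Γ] [Finite Γ] (σ : Γ →* t22.S) (hs : Function.Surjective σ)
    (hc : σ.ker ≤ center Γ) (hd : σ.ker ≤ _root_.commutator Γ) : ¬ 3 ^ 2 ∣ Nat.card σ.ker := by
  have := Fact.mk Nat.prime_three
  obtain ⟨U, -, hmem, hsurj, hU, -, hidx⟩ := exists_sylow_three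
  have hg := gen_check
  simp only [genCheck, Bool.and_eq_true] at hg
  obtain ⟨huv, hu3, -, h1, h3, -, hwords⟩ := hg
  have e1 : el t22 (tab3.code 1) = el t22 StemData.gu := by simpa [elw] using eqw_spec h1
  have e3 : el t22 (tab3.code 3) = el t22 StemData.gv := by simpa [elw] using eqw_spec h3
  have hP : IsPGroup 3 U := IsPGroup.of_card (n := 2) (by rw [hU]; norm_num)
  refine SchurBound.sq_not_dvd_of_abelian σ hs hc hd (hP.toSylow (by rw [hidx]; norm_num))
    (a := ⟨el t22 StemData.gu, e1 ▸ hmem 1 (by norm_num)⟩)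
    (b := ⟨el t22 StemData.gv, e3 ▸ hmem 3 (by norm_num)⟩) ?_ (Subtype.ext (eq_two huv))
    (Subtype.ext ?_)
  · rw [eq_top_iff]
    rintro ⟨x, hx⟩ -
    obtain ⟨i, hi, rfl⟩ := hsurj x hx
    have hw := PermCode.allLt_spec hwords i hi
    rw [Bool.and_eq_true] at hw
    have hxm : el t22 (tab3.code i) ∈ closure {el t22 StemData.gu, el t22 StemData.gv} := by
      have e := eqw_spec hw.2
      rw [show elw t22 [tab3.code i] = el t22 (tab3.code i) by simp [elw]] at e
      rw [e]
      refine elw_mem (fun c hc => subset_closure ?_) hw.1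
      simp only [List.mem_cons, List.not_mem_nil, or_false] at hc
      rcases hc with rfl | rfl <;> simp
    refine (mem_map_iff_mem (f := U.subtype) U.subtype_injective).1 ?_
    erw [MonoidHom.map_closure, Set.image_pair]
    exact hxm
  · show el t22 StemData.gu ^ 3 = 1
    simpa [elw, pow_succ, mul_assoc] using eqw_spec hu3

end CfsgLib.SchurM22
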