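import Cfsg.Agent.Lib.Schur.MathieuData
import Cfsg.Agent.Lib.Golay.Mathieu

/-!
The Schur multipliers of M23 and M24 are trivial.
-/

set_option autoImplicit false

namespace CfsgLib.SchurCoded

open Cfsg CfsgLib.Comp CfsgLib.M24Elt CfsgLib.Golay

/-- The test for M24. -/
noncomputable def t24 : Test := ⟨M24, good, fun _ h => ⟨good_ok h, pm_mem h⟩⟩

/-- The test for M23. -/
noncomputable def t23 : Test :=
  ⟨Spor.M23, fun c => good c && Nat.beq (PermCode.get c 23) 23, fun c h => by
    rw [Bool.and_eq_true] at h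
    refine ⟨good_ok h.1, Subgroup.mem_inf.2 ⟨pm_mem h.1, ?_⟩⟩
    rw [MulAction.mem_stabilizer_iff, Equiv.Perm.smul_def]
    apply bit_injective
    rw [bit_pm (good_ok h.1)]
    exact Nat.eq_of_beq_eq_true h.2⟩

theorem check24 : check2 t24 Data.m24two = true := by decide +kernel

theorem check23 : check2 t23 Data.m23two = true := by decide +kernel

theorem check24three : checkExtra t24 Data.m24a Data.m24b Data.m24z Data.m24ta Data.m24tb
    Data.m24three = true ∧ t24.ok Data.m24z = true := by decide +kernel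

theorem check23three : checkSwap t23 Data.m23a Data.m23b Data.m23t Data.m23three = true := by
  decide +kernel

theorem data_facts : (Data.m24two.elts.length = 2 ^ 10 ∧ Data.m23two.elts.length = 2 ^ 7) ∧
    (Data.m24three.length = 3 ^ 3 ∧ Data.m23three.length = 3 ^ 2) ∧
    (2 ^ Data.m24two.B.length * (if eqw t24 [Data.m24two.u] [] then 8 else 16) = 2 ^ 10) ∧
    (2 ^ Data.m23two.B.length * (if eqw t23 [Data.m23two.u] [] then 8 else 16) = 2 ^ 7) := by
  decide +kernel

theorem fac_of {N p k m : ℕ} (hp : p.Prime) (hN : N = p ^ k * m) (hm : ¬ p ∣ m) :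
    N.factorization p = k := by
  have h0 : m ≠ 0 := fun e => hm (e ▸ dvd_zero p)
  rw [hN, Nat.factorization_mul (pow_ne_zero _ hp.ne_zero) h0, Nat.Prime.factorization_pow hp]
  simp [Nat.factorization_eq_zero_of_not_dvd hm]

theorem trivial_of {S : Subgroup (Equiv.Perm GolayPt)} {N : ℕ} (hN : Nat.card S = N)
    (hsq : ∀ r : ℕ, r.Prime → r ^ 2 ∣ N → r = 2 ∨ r = 3)
    (h : ∀ (Γ : Type) [Group Γ] [Finite Γ] (σ : Γ →* S), Function.Surjective σ →
      σ.ker ≤ Subgroup.center Γ → σ.ker ≤ commutator Γ →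
        ¬ 2 ∣ Nat.card σ.ker ∧ ¬ 3 ∣ Nat.card σ.ker) :
    Cfsg.HasCyclicSchurMultiplier S 1 := by
  have : Finite S := inferInstance
  refine SchurTrivial.hasCyclic_one fun Γ _ _ σ hs hc hd r hr _ => ?_
  by_cases hsqr : r ^ 2 ∣ N
  · rcases hsq r hr hsqr with rfl | rfl
    exacts [(h Γ σ hs hc hd).1, (h Γ σ hs hc hd).2]
  · have := Fact.mk hr
    exact SchurBound.not_dvd_card_ker_of_sq_not_dvd σ hs hc hd (hN.symm ▸ hsqr)

theorem two_or_three {N a b m r : ℕ} (hN : N = 2 ^ a * (3 ^ b * m)) (hm : Squarefree m)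
    (hr : r.Prime) (h : r ^ 2 ∣ N) : r = 2 ∨ r = 3 := by
  by_contra hcon
  push Not at hcon
  have c2 : Nat.Coprime (r ^ 2) (2 ^ a) :=
    Nat.Coprime.pow _ _ ((Nat.coprime_primes hr Nat.prime_two).2 hcon.1)
  have c3 : Nat.Coprime (r ^ 2) (3 ^ b) :=
    Nat.Coprime.pow _ _ ((Nat.coprime_primes hr Nat.prime_three).2 hcon.2)
  rw [hN] at h
  have h' := c3.dvd_of_dvd_mul_left (c2.dvd_of_dvd_mul_left h)
  exact hr.ne_one (Nat.isUnit_iff.1 (hm r (by rwa [← sq])))

theorem squarefree_1771 : Squarefree (5 * 7 * 11 * 23 : ℕ) := by decide +kernel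

theorem multiplier_M24 : Cfsg.HasCyclicSchurMultiplier M24 1 := by
  refine trivial_of card_M24 (fun r hr h => two_or_three (a := 10) (b := 3) (m := 5 * 7 * 11 * 23)
    (by norm_num) squarefree_1771 hr h) fun Γ _ _ σ hs hc hd => ⟨?_, ?_⟩
  · exact not_two_dvd check24 data_facts.1.1 data_facts.2.2.1 (by
      show (Nat.card M24).factorization 2 = 10
      rw [card_M24]; exact fac_of (m := 239085) Nat.prime_two (by norm_num) (by norm_num)) σ hs hc hd
  · exact not_three_dvd_extra check24three.1 check24three.2 data_facts.2.1.1 (by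
      show (Nat.card M24).factorization 3 = 3
      rw [card_M24]; exact fac_of (m := 9067520) Nat.prime_three (by norm_num) (by norm_num)) σ hs hc hd

theorem multiplier_M23 : Cfsg.HasCyclicSchurMultiplier Spor.M23 1 := by
  refine trivial_of Golay.card_M23 (fun r hr h => two_or_three (a := 7) (b := 2)
    (m := 5 * 7 * 11 * 23) (by norm_num) squarefree_1771 hr h) fun Γ _ _ σ hs hc hd => ⟨?_, ?_⟩
  · exact not_two_dvd check23 data_facts.1.2 data_facts.2.2.2 (by
      show (Nat.card Spor.M23).factorization 2 = 7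
      rw [Golay.card_M23]; exact fac_of (m := 79695) Nat.prime_two (by norm_num) (by norm_num)) σ hs hc hd
  · exact not_three_dvd_swap check23three data_facts.2.1.2 (by
      show (Nat.card Spor.M23).factorization 3 = 2
      rw [Golay.card_M23]; exact fac_of (m := 1133440) Nat.prime_three (by norm_num) (by norm_num)) σ hs hc hd

end CfsgLib.SchurCoded
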