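import Cfsg.Agent.Lib.Schur.Splitting
import Mathlib.Data.List.GetD
import Mathlib.Algebra.BigOperators.Fin

/-!
Bounding the 2-part of the kernel of a stem extension by collection in a Sylow subgroup: the unknown
central tails of the rewriting rules satisfy linear equations from overlaps and from conjugations.
-/

set_option autoImplicit false

namespace CfsgLib.SchurTail

open Subgroup
open scoped commutatorElement

/-- The centre is commutative. -/
scoped instance centerCommGroup {Γ : Type*} [Group Γ] : CommGroup (center Γ) :=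
  { (inferInstance : Group (center Γ)) with
    mul_comm := fun a b => Subtype.ext (mem_center_iff.1 b.2 a) }

/-- Rewriting rules `g a * g b = g W * κ k`, indexed by the tail `k`. -/
abbrev Rules : Type := List (ℕ × ℕ × List ℕ)

/-- The index and right hand side of the rule for a pair. -/
def findRule : Rules → ℕ → ℕ → ℕ → Option (List ℕ × ℕ)
  | [], _, _, _ => none
  | r :: rs, a, b, k => bif Nat.beq r.1 a && Nat.beq r.2.1 b then some (r.2.2, k) else findRule rs a b (k + 1)

/-- One rewriting at the first position where this is possible. -/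
def step (R : Rules) : List ℕ → Option (List ℕ × ℕ)
  | [] => none
  | [_] => none
  | a :: b :: l =>
    match findRule R a b 0 with
    | some (W, k) => some (W ++ l, k)
    | none => match step R (b :: l) with
      | some (w, k) => some (a :: w, k)
      | none => none

/-- Collection. -/
def coll (R : Rules) : ℕ → List ℕ → List ℕ × List ℕ
  | 0, w => (w, [])
  | n + 1, w =>
    match step R w with
    | some (w', k) => ((coll R n w').1, k :: (coll R n w').2)
    | none => (w, [])

/-- Collection of the segments, then of their product. -/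
def collSegs (R : Rules) (fuel : ℕ) (ls : List (List ℕ)) : List ℕ × List ℕ :=
  ((coll R fuel (ls.flatMap fun l => (coll R fuel l).1)).1,
    (ls.flatMap fun l => (coll R fuel l).2) ++ (coll R fuel (ls.flatMap fun l => (coll R fuel l).1)).2)

variable {Γ : Type*} [Group Γ]

/-- The value of a word. -/
def evW (L : ℕ → Γ) (w : List ℕ) : Γ := (w.map L).prod

/-- The value of a list of tails. -/
def evK (κ : ℕ → center Γ) (v : List ℕ) : center Γ := (v.map κ).prod

variable {L : ℕ → Γ} {κ : ℕ → center Γ}

theorem evW_nil : evW L [] = 1 := rfl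

theorem evW_cons (a : ℕ) (w : List ℕ) : evW L (a :: w) = L a * evW L w := by simp [evW]

theorem evW_append (v w : List ℕ) : evW L (v ++ w) = evW L v * evW L w := by simp [evW]

theorem evK_cons (a : ℕ) (w : List ℕ) : evK κ (a :: w) = κ a * evK κ w := by simp [evK]

theorem evK_append (v w : List ℕ) : evK κ (v ++ w) = evK κ v * evK κ w := by simp [evK]

theorem central (z : center Γ) (x : Γ) : x * (z : Γ) = (z : Γ) * x := mem_center_iff.1 z.2 x

/-- The rules hold. -/
def Holds (R : Rules) (L : ℕ → Γ) (κ : ℕ → center Γ) : Prop :=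
  ∀ k a b W, R[k]? = some (a, b, W) → L a * L b = evW L W * (κ k : Γ)

theorem findRule_spec : ∀ {rs : Rules} {a b k : ℕ} {W : List ℕ} {j : ℕ},
    findRule rs a b k = some (W, j) → ∃ i, j = k + i ∧ rs[i]? = some (a, b, W)
  | [], _, _, _, _, _, h => by simp [findRule] at h
  | r :: rs, a, b, k, W, j, h => by
    rw [findRule] at h
    cases hb : (Nat.beq r.1 a && Nat.beq r.2.1 b)
    · rw [hb, cond_false] at h
      obtain ⟨i, rfl, hi⟩ := findRule_spec h
      exact ⟨i + 1, by omega, by simpa using hi⟩
    · rw [hb, cond_true, Option.some.injEq, Prod.mk.injEq] at h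
      rw [Bool.and_eq_true] at hb
      refine ⟨0, by omega, ?_⟩
      obtain ⟨x, y, z⟩ := r
      simp only [List.getElem?_cons_zero, Option.some.injEq, Prod.mk.injEq]
      exact ⟨Nat.eq_of_beq_eq_true hb.1, Nat.eq_of_beq_eq_true hb.2, h.1⟩

theorem step_spec {R : Rules} (hR : Holds R L κ) : ∀ {w w' : List ℕ} {k : ℕ},
    step R w = some (w', k) → evW L w = evW L w' * (κ k : Γ)
  | [], _, _, h => by simp [step] at h
  | [_], _, _, h => by simp [step] at h
  | a :: b :: l, w', k, h => by
    rw [step] at h
    split at h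
    · next W j hf =>
      rw [Option.some.injEq, Prod.mk.injEq] at h
      obtain ⟨rfl, rfl⟩ := h
      obtain ⟨i, hi, hget⟩ := findRule_spec hf
      rw [Nat.zero_add] at hi
      subst hi
      rw [evW_cons, evW_cons, evW_append, ← mul_assoc, hR _ _ _ _ hget, mul_assoc, mul_assoc,
        central]
    · split at h
      · next w₁ j hs =>
        rw [Option.some.injEq, Prod.mk.injEq] at h
        obtain ⟨rfl, rfl⟩ := h
        rw [evW_cons, step_spec hR hs, evW_cons, mul_assoc]
      · exact absurd h (by simp)

theorem coll_spec {R : Rules} (hR : Holds R L κ) : ∀ (n : ℕ) (w : List ℕ),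
    evW L w = evW L (coll R n w).1 * (evK κ (coll R n w).2 : Γ)
  | 0, w => by simp [coll, evK]
  | n + 1, w => by
    rw [coll]
    split
    · next w' k hs =>
      rw [step_spec hR hs, coll_spec hR n w', evK_cons, Subgroup.coe_mul, mul_assoc,
        ← central (κ k) (evK κ (coll R n w').2 : Γ)]
    · simp [evK]

theorem collSegs_spec {R : Rules} (hR : Holds R L κ) (fuel : ℕ) (ls : List (List ℕ)) :
    evW L ls.flatten = evW L (collSegs R fuel ls).1 * (evK κ (collSegs R fuel ls).2 : Γ) := by
  have h : evW L ls.flatten = evW L (ls.flatMap fun l => (coll R fuel l).1) *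
      (evK κ (ls.flatMap fun l => (coll R fuel l).2) : Γ) := by
    induction ls with
    | nil => simp [evW, evK]
    | cons l ls ih =>
      simp only [List.flatten_cons, List.flatMap_cons, evW_append, evK_append, Subgroup.coe_mul]
      rw [coll_spec hR fuel l, ih]
      simp only [mul_assoc]
      rw [← mul_assoc (evK κ (coll R fuel l).2 : Γ), ← central, mul_assoc]
  rw [h, coll_spec hR fuel (ls.flatMap fun l => (coll R fuel l).1), collSegs, evK_append,
    Subgroup.coe_mul, mul_assoc, ← central (evK κ (ls.flatMap fun l => (coll R fuel l).2))]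

/-- The data of the conjugations: class, word, image word. The tail of entry `p` is `R.length + p`. -/
abbrev Conjs : Type := List (ℕ × List ℕ × List ℕ)

/-- The conjugation equations hold. -/
def ConjHolds (R : Rules) (C : Conjs) (L : ℕ → Γ) (κ : ℕ → center Γ) : Prop :=
  ∃ Gc : ℕ → Γ, ∀ p c U W, C[p]? = some (c, U, W) →
    Gc c * evW L U * (Gc c)⁻¹ = evW L W * (κ (R.length + p) : Γ)

/-- The word of an entry list. -/
def uWord (C : Conjs) (l : List ℕ) : List ℕ := l.flatMap fun p => (C.getD p (0, [], [])).2.1

/-- The image word of an entry list. -/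
def wWord (C : Conjs) (l : List ℕ) : List ℕ := l.flatMap fun p => (C.getD p (0, [], [])).2.2

/-- Sources of equations. -/
inductive Src where
  /-- Two bracketings, or two sides of a definition. -/
  | word (ls rs : List (List ℕ))
  /-- Two products of conjugated words. -/
  | conj (c : ℕ) (l r : List ℕ)

/-- The equation from a source: equal products of two lists of tails. -/
def equation (R : Rules) (C : Conjs) (defs : List (List ℕ × List ℕ)) (fuel : ℕ) :
    Src → Option (List ℕ × List ℕ)
  | .word ls rs =>
    if (ls.flatten = rs.flatten ∨ (ls.flatten, rs.flatten) ∈ defs) ∧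
        (collSegs R fuel ls).1 = (collSegs R fuel rs).1
    then some ((collSegs R fuel ls).2, (collSegs R fuel rs).2) else none
  | .conj c l r =>
    if (∀ p ∈ l ++ r, p < C.length ∧ (C.getD p (0, [], [])).1 = c) ∧
        (coll R fuel (uWord C l)).1 = (coll R fuel (uWord C r)).1 ∧
        (coll R fuel (wWord C l)).1 = (coll R fuel (wWord C r)).1
    then some ((coll R fuel (wWord C l)).2 ++ l.map (R.length + ·) ++ (coll R fuel (uWord C r)).2,
      (coll R fuel (wWord C r)).2 ++ r.map (R.length + ·) ++ (coll R fuel (uWord C l)).2)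
    else none

theorem conj_word {R : Rules} {C : Conjs} {c : ℕ} {Gc : ℕ → Γ}
    (hG : ∀ p c U W, C[p]? = some (c, U, W) →
      Gc c * evW L U * (Gc c)⁻¹ = evW L W * (κ (R.length + p) : Γ)) :
    ∀ l : List ℕ, (∀ p ∈ l, p < C.length ∧ (C.getD p (0, [], [])).1 = c) →
      Gc c * evW L (uWord C l) * (Gc c)⁻¹ =
        evW L (wWord C l) * (evK κ (l.map (R.length + ·)) : Γ)
  | [], _ => by simp [uWord, wWord, evW, evK]
  | p :: l, h => by
    obtain ⟨hp, hpc⟩ := h p (List.mem_cons_self ..)
    have ih := conj_word hG l fun q hq => h q (List.mem_cons_of_mem _ hq)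
    obtain ⟨U, W, hUW⟩ : ∃ U W, C.getD p (0, [], []) = (c, U, W) :=
      ⟨_, _, by rw [← hpc]⟩
    have hget : C[p]? = some (c, U, W) := by
      rw [List.getElem?_eq_getElem hp, ← hUW, List.getD_eq_getElem _ _ hp]
    simp only [uWord, wWord, List.flatMap_cons, hUW, evW_append, List.map_cons, evK_cons,
      Subgroup.coe_mul]
    change Gc c * (evW L U * evW L (uWord C l)) * (Gc c)⁻¹ =
      evW L W * evW L (wWord C l) *
        ((κ (R.length + p) : Γ) * (evK κ (l.map (R.length + ·)) : Γ))
    rw [show Gc c * (evW L U * evW L (uWord C l)) * (Gc c)⁻¹ =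
      (Gc c * evW L U * (Gc c)⁻¹) * (Gc c * evW L (uWord C l) * (Gc c)⁻¹) by group,
      hG p c U W hget, ih]
    simp only [mul_assoc]
    rw [← mul_assoc (κ (R.length + p) : Γ), ← central, mul_assoc]

theorem equation_spec {R : Rules} {C : Conjs} {defs : List (List ℕ × List ℕ)} (hR : Holds R L κ)
    (hC : ConjHolds R C L κ) (hD : ∀ d ∈ defs, evW L d.1 = evW L d.2) {fuel : ℕ} {s : Src}
    {e : List ℕ × List ℕ} (h : equation R C defs fuel s = some e) : evK κ e.1 = evK κ e.2 := by
  cases s with
  | word ls rs =>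
    rw [equation] at h
    split at h
    · next hc =>
      rw [Option.some.injEq] at h
      subst h
      have heq : evW L ls.flatten = evW L rs.flatten := by
        rcases hc.1 with e | e
        · rw [e]
        · exact hD _ e
      rw [collSegs_spec hR fuel ls, collSegs_spec hR fuel rs, hc.2] at heq
      exact Subtype.ext (mul_left_cancel heq)
    · exact absurd h (by simp)
  | conj c l r =>
    rw [equation] at h
    split at h
    · next hc =>
      rw [Option.some.injEq] at h
      subst h
      obtain ⟨Gc, hG⟩ := hC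
      obtain ⟨hcl, hu, hw⟩ := hc
      have el := conj_word hG l fun p hp => hcl p (List.mem_append_left _ hp)
      have er := conj_word hG r fun p hp => hcl p (List.mem_append_right _ hp)
      rw [coll_spec hR fuel (uWord C l), coll_spec hR fuel (wWord C l), hu, hw] at el
      rw [coll_spec hR fuel (uWord C r), coll_spec hR fuel (wWord C r)] at er
      set X := evW L (coll R fuel (uWord C r)).1
      set Y := evW L (coll R fuel (wWord C r)).1
      set a₁ := evK κ (coll R fuel (uWord C l)).2
      set a₂ := evK κ (coll R fuel (uWord C r)).2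
      have move : ∀ z : center Γ, Gc c * (X * (z : Γ)) * (Gc c)⁻¹ = Gc c * X * (Gc c)⁻¹ * (z : Γ) :=
        fun z => by
        rw [show Gc c * (X * (z : Γ)) * (Gc c)⁻¹ = Gc c * X * ((z : Γ) * (Gc c)⁻¹) by
          simp only [mul_assoc], ← central z, ← mul_assoc]
      rw [move, mul_assoc Y, ← Subgroup.coe_mul] at el er
      set b₁ := evK κ (coll R fuel (wWord C l)).2 * evK κ (l.map (R.length + ·)) with hb₁
      set b₂ := evK κ (coll R fuel (wWord C r)).2 * evK κ (r.map (R.length + ·)) with hb₂
      set Z := Gc c * X * (Gc c)⁻¹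
      have e1 : Y⁻¹ * Z = ((b₁ * a₁⁻¹ : center Γ) : Γ) := by
        rw [eq_mul_inv_of_mul_eq el, mul_assoc Y, inv_mul_cancel_left]; rfl
      have e2 : Y⁻¹ * Z = ((b₂ * a₂⁻¹ : center Γ) : Γ) := by
        rw [eq_mul_inv_of_mul_eq er, mul_assoc Y, inv_mul_cancel_left]; rfl
      have e3 : b₁ * a₁⁻¹ = b₂ * a₂⁻¹ := Subtype.ext (e1.symm.trans e2)
      rw [evK_append, evK_append, evK_append, evK_append, ← hb₁, ← hb₂]
      have : b₁ = b₂ * a₂⁻¹ * a₁ := by rw [← e3, inv_mul_cancel_right]
      rw [this, mul_assoc _ a₁, mul_comm a₁, ← mul_assoc, inv_mul_cancel_right]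
    · exact absurd h (by simp)

/-! ### Linear combinations -/

/-- The exponent vector of a linear combination of equations. -/
def combVec (eqs : List (List ℕ × List ℕ)) : List (ℕ × ℤ) → ℕ → ℤ
  | [], _ => 0
  | c :: cs, j =>
    c.2 * (((eqs.getD c.1 ([], [])).1.count j : ℤ) - ((eqs.getD c.1 ([], [])).2.count j : ℤ)) +
      combVec eqs cs j

/-- The product of the tails with given exponents. -/
def φ (κ : ℕ → center Γ) (N : ℕ) (v : ℕ → ℤ) : center Γ := ∏ j ∈ Finset.range N, κ j ^ v j

theorem φ_add (N : ℕ) (v w : ℕ → ℤ) : φ κ N (fun j => v j + w j) = φ κ N v * φ κ N w := by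
  simp only [φ, zpow_add, Finset.prod_mul_distrib]

theorem φ_smul (N : ℕ) (m : ℤ) (v : ℕ → ℤ) : φ κ N (fun j => m * v j) = φ κ N v ^ m := by
  simp only [φ, ← Finset.prod_zpow]
  exact Finset.prod_congr rfl fun j _ => by rw [← zpow_mul, mul_comm]

theorem φ_single (N a : ℕ) (ha : a < N) : φ κ N (fun j => if j = a then 1 else 0) = κ a := by
  rw [φ, Finset.prod_eq_single a]
  · simp
  · intro b _ hb; simp [hb]
  · intro h; exact absurd (Finset.mem_range.2 ha) h

theorem φ_count (N : ℕ) : ∀ l : List ℕ, (∀ a ∈ l, a < N) →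
    φ κ N (fun j => (l.count j : ℤ)) = evK κ l
  | [], _ => by simp [φ, evK]
  | a :: l, h => by
    rw [evK_cons, ← φ_count N l fun b hb => h b (List.mem_cons_of_mem _ hb),
      ← φ_single (κ := κ) N a (h a (List.mem_cons_self ..)), ← φ_add]
    congr 1
    funext j
    by_cases hj : j = a
    · subst hj
      rw [List.count_cons_self, if_pos rfl]; push_cast; ring
    · rw [List.count_cons_of_ne (fun e => hj e.symm), if_neg hj, zero_add]

theorem φ_comb (N : ℕ) (eqs : List (List ℕ × List ℕ))
    (hb : ∀ e ∈ eqs, ∀ a ∈ e.1 ++ e.2, a < N) (he : ∀ e ∈ eqs, evK κ e.1 = evK κ e.2) :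
    ∀ cs : List (ℕ × ℤ), φ κ N (combVec eqs cs) = 1
  | [] => by simp [combVec, φ]
  | c :: cs => by
    have hdiff : ∀ e : List ℕ × List ℕ, (e ∈ eqs ∨ e = ([], [])) →
        φ κ N (fun j => c.2 * ((e.1.count j : ℤ) - (e.2.count j : ℤ))) = 1 := by
      intro e h
      have hlt : ∀ a ∈ e.1 ++ e.2, a < N := h.elim (hb e) fun e' => by subst e'; simp
      have heq : evK κ e.1 = evK κ e.2 := h.elim (he e) fun e' => by subst e'; rfl
      rw [φ_smul]
      have : φ κ N (fun j => (e.1.count j : ℤ) - (e.2.count j : ℤ)) * evK κ e.2 = evK κ e.1 := by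
        rw [← φ_count N e.2 fun a ha => hlt a (List.mem_append_right _ ha),
          ← φ_count N e.1 fun a ha => hlt a (List.mem_append_left _ ha), ← φ_add]
        congr 1
        funext j
        ring
      rw [heq] at this
      rw [mul_eq_right.1 this, one_zpow]
    show φ κ N (fun j => _ + combVec eqs cs j) = 1
    rw [φ_add, φ_comb N eqs hb he cs, mul_one]
    refine hdiff _ ?_
    rw [List.getD_eq_getElem?_getD]
    rcases h : eqs[c.1]? with _ | e
    · exact Or.inr rfl
    · exact Or.inl (List.mem_of_getElem? h)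

/-- The check that a combination gives `t - m k`. -/
def combCheck (N : ℕ) (eqs : List (List ℕ × List ℕ)) (t k : ℕ) (m : ℤ) (cs : List (ℕ × ℤ)) : Bool :=
  decide (t < N) && decide (k < N) && (List.range N).all fun j =>
    decide (combVec eqs cs j = (if j = t then 1 else 0) + (-m) * (if j = k then 1 else 0))

theorem eq_zpow_of_comb {N : ℕ} {eqs : List (List ℕ × List ℕ)}
    (hb : ∀ e ∈ eqs, ∀ a ∈ e.1 ++ e.2, a < N) (he : ∀ e ∈ eqs, evK κ e.1 = evK κ e.2)
    {t k : ℕ} {m : ℤ} {cs : List (ℕ × ℤ)} (h : combCheck N eqs t k m cs = true) :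
    κ t = κ k ^ m := by
  simp only [combCheck, Bool.and_eq_true, decide_eq_true_eq, List.all_eq_true, List.mem_range] at h
  obtain ⟨⟨ht, hk⟩, hv⟩ := h
  have h1 := φ_comb N eqs hb he cs
  have h2 : φ κ N (combVec eqs cs) =
      φ κ N (fun j => (if j = t then (1 : ℤ) else 0) + (-m) * (if j = k then 1 else 0)) :=
    Finset.prod_congr rfl fun j hj => by rw [hv j (Finset.mem_range.1 hj)]
  rw [h2, φ_add, φ_smul, φ_single N t ht, φ_single N k hk, zpow_neg, mul_inv_eq_one] at h1
  exact h1

/-! ### Closed sets of normal forms -/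

/-- Products of listed forms by a letter stay listed, with tails among the listed tails. -/
def closedCheck (R : Rules) (fuel : ℕ) (forms : List (List ℕ)) (gens : List ℕ)
    (good : ℕ → Bool) : Bool :=
  forms.contains [] && forms.all fun w => gens.all fun a =>
    forms.contains (coll R fuel (w ++ [a])).1 && (coll R fuel (w ++ [a])).2.all good

theorem mem_forms {R : Rules} (hR : Holds R L κ) [Finite Γ] {fuel : ℕ} {forms : List (List ℕ)}
    {gens : List ℕ} {good : ℕ → Bool} (h : closedCheck R fuel forms gens good = true)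
    (Z : Subgroup Γ) (hgood : ∀ j, good j = true → (κ j : Γ) ∈ Z) (hZc : Z ≤ center Γ) :
    ∀ y ∈ closure (L '' {a | a ∈ gens}) ⊔ Z, ∃ w ∈ forms, ∃ z ∈ Z, y = evW L w * z := by
  simp only [closedCheck, Bool.and_eq_true, List.all_eq_true, List.contains_iff_mem] at h
  obtain ⟨hnil, hstep⟩ := h
  have hmul : ∀ y, (∃ w ∈ forms, ∃ z ∈ Z, y = evW L w * z) → ∀ a ∈ gens,
      ∃ w ∈ forms, ∃ z ∈ Z, y * L a = evW L w * z := by
    rintro _ ⟨w, hw, z, hz, rfl⟩ a ha
    obtain ⟨h1, h2⟩ := hstep w hw a ha
    have hk : ((evK κ (coll R fuel (w ++ [a])).2 : center Γ) : Γ) ∈ Z := by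
      generalize (coll R fuel (w ++ [a])).2 = v at h2
      induction v with
      | nil => simp [evK]
      | cons b v ih =>
        rw [evK_cons, Subgroup.coe_mul]
        exact mul_mem (hgood b (h2 b (List.mem_cons_self ..)))
          (ih fun c hc => h2 c (List.mem_cons_of_mem _ hc))
    refine ⟨_, h1, _, mul_mem hk hz, ?_⟩
    have e := coll_spec hR fuel (w ++ [a])
    rw [evW_append, evW_cons, evW_nil, mul_one] at e
    rw [mul_assoc, ← mem_center_iff.1 (hZc hz) (L a), ← mul_assoc, e, mul_assoc]
  intro y hy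
  have hcl : closure (L '' {a | a ∈ gens}) ⊔ Z = closure (L '' {a | a ∈ gens} ∪ Z) := by
    rw [Subgroup.closure_union, closure_eq]
  rw [hcl] at hy
  have hmonoid : y ∈ Submonoid.closure (L '' {a | a ∈ gens} ∪ Z) := by
    rwa [← Subgroup.closure_toSubmonoid_of_finite]
  induction hmonoid using Submonoid.closure_induction_right with
  | one => exact ⟨[], hnil, 1, one_mem _, by simp [evW]⟩
  | mul_right x hx s hs ih =>
    obtain ih := ih (by
      have := (Subgroup.closure_toSubmonoid_of_finite (s := L '' {a | a ∈ gens} ∪ (Z : Set Γ))).ge hx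
      exact this)
    rcases hs with ⟨a, ha, rfl⟩ | hs
    · exact hmul x ih a ha
    · obtain ⟨w, hw, z, hz, rfl⟩ := ih
      exact ⟨w, hw, z * s, mul_mem hz hs, mul_assoc _ _ _⟩

end CfsgLib.SchurTail
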