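import Cfsg.Agent.Lib.Schur.TailLift

/-!
Tail certificates in which the good tails are multiples of a distinguished tail of prime order `p`:
then `p ^ 2` does not divide the kernel of a stem extension.
-/

set_option autoImplicit false

namespace CfsgLib.SchurTail

open Subgroup
open scoped commutatorElement

/-- The combinations give multiples of the distinguished tail, and kill `p` times it. -/
def TailData.packedCheckMod (D : TailData) (E : List (List ℕ × List ℕ)) (M p : ℕ) : Bool :=
  decide (D.srcs.map (fun s => equation D.rules D.conjs D.defEqs fuel s) = E.map some) &&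
  ((E.all fun e => Nat.ble (e.1.length + e.2.length) M &&
    (e.1 ++ e.2).all fun a => Nat.blt a D.N) &&
  ((D.targets.all fun t => Nat.blt t.1 D.N && (Nat.blt (weight t.2.2 * M + 1 + t.2.1.natAbs) (2 ^ 79) &&
    decide (packComb E t.2.2 = base ^ t.1 - t.2.1 * base ^ D.k))) &&
  (Nat.blt D.k D.N && (Nat.blt (weight D.four * M + p) (2 ^ 79) &&
    decide (packComb E D.four = (p : ℤ) * base ^ D.k)))))

variable {Γ : Type*} [Group Γ] {κ : ℕ → Subgroup.center Γ}

theorem abs_single_le (a : ℤ) (i j : ℕ) : |if j = i then a else 0| ≤ (a.natAbs : ℤ) := by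
  split <;> simp

/-- A combination with the packed value of a small vector has that vector. -/
theorem combVec_eq_of_packed {E : List (List ℕ × List ℕ)} {N M : ℕ}
    (hb : ∀ e ∈ E, ∀ a ∈ e.1 ++ e.2, a < N) (hM : ∀ e ∈ E, e.1.length + e.2.length ≤ M)
    {cs : List (ℕ × ℤ)} {i k : ℕ} {a b : ℤ} (hi : i < N) (hk : k < N)
    (hw : weight cs * M + a.natAbs + b.natAbs < 2 ^ 79)
    (hp : packComb E cs = a * base ^ i + b * base ^ k) (j : ℕ) (hj : j < N) :
    combVec E cs j = (if j = i then a else 0) + (if j = k then b else 0) := by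
  obtain ⟨hsum, habs⟩ := combVec_spec E N M hb hM cs
  refine sub_eq_zero.1 (eq_zero_of_packed N
    (fun j => combVec E cs j - ((if j = i then a else 0) + (if j = k then b else 0))) (fun j _ => ?_) ?_ j hj)
  · have h1 := (abs_sub (combVec E cs j) ((if j = i then a else 0) + (if j = k then b else 0))).trans
      (add_le_add (habs j) ((abs_add_le _ _).trans (add_le_add (abs_single_le a i j) (abs_single_le b k j))))
    refine lt_of_le_of_lt h1 ?_
    have h2 : ((weight cs * M + a.natAbs + b.natAbs : ℕ) : ℤ) < ((2 ^ 79 : ℕ) : ℤ) := Int.ofNat_lt.2 hw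
    push_cast at h2 ⊢
    have : (2 : ℤ) ^ 79 ≤ base := by norm_num [base]
    omega
  · simp only [sub_mul, add_mul, Finset.sum_sub_distrib, Finset.sum_add_distrib, ← hsum, hp, ite_mul,
      zero_mul, Finset.sum_ite_eq', Finset.mem_range, hi, hk, if_true, sub_self]

theorem φ_single_zpow (N i : ℕ) (a : ℤ) (hi : i < N) :
    φ κ N (fun j => if j = i then a else 0) = κ i ^ a := by
  rw [φ, Finset.prod_eq_single i]
  · simp
  · intro b _ hb; simp [hb]
  · intro h; exact absurd (Finset.mem_range.2 hi) h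

theorem packed_relation {E : List (List ℕ × List ℕ)} {N M : ℕ}
    (hb : ∀ e ∈ E, ∀ a ∈ e.1 ++ e.2, a < N) (hM : ∀ e ∈ E, e.1.length + e.2.length ≤ M)
    (he : ∀ e ∈ E, evK κ e.1 = evK κ e.2)
    {cs : List (ℕ × ℤ)} {i k : ℕ} {a b : ℤ} (hi : i < N) (hk : k < N)
    (hw : weight cs * M + a.natAbs + b.natAbs < 2 ^ 79)
    (hp : packComb E cs = a * base ^ i + b * base ^ k) : κ i ^ a * κ k ^ b = 1 := by
  have h := φ_comb (κ := κ) N E hb he cs
  rw [φ, Finset.prod_congr rfl (fun j hj => by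
    rw [combVec_eq_of_packed hb hM hi hk hw hp j (Finset.mem_range.1 hj)]), ← φ, φ_add,
    φ_single_zpow N i a hi, φ_single_zpow N k b hk] at h
  exact h

variable {G : Type*} [Group G] {σ : Γ →* G}

/-- The certificate bounds the `p`-part of the kernel by `p`. -/
theorem sq_not_dvd_card_ker_mod [Finite Γ] {p : ℕ} [hp : Fact p.Prime] (hs : Function.Surjective σ)
    (hc : σ.ker ≤ center Γ) (hd : σ.ker ≤ _root_.commutator Γ) (D : TailData)
    (hord : D.defsOk = true) (x c : ℕ → G)
    (hrules : ∀ r ∈ D.rules, x r.1 * x r.2.1 = evW x r.2.2)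
    (hconj : ∀ q ∈ D.conjs, c q.1 * evW x q.2.1 = evW x q.2.2 * c q.1)
    (hdefs : ∀ d ∈ D.defs, x d.2.1 * x d.2.2 = x d.1 * x d.2.2 * x d.2.1)
    {E : List (List ℕ × List ℕ)} {M : ℕ} (hpack : D.packedCheckMod E M p = true)
    (hforms : D.checkForms = true)
    (hderived : ∀ d ∈ D.derived, d < D.n) (hdnil : [] ∈ D.forms ∧ [] ∈ D.dforms)
    (hinj : (D.forms.map fun w => evW x w).Nodup) (hsub : ∀ w ∈ D.dforms, w ∈ D.forms)
    {m : ℕ} (hlen : D.forms.length = p ^ m) (hG : (Nat.card G).factorization p = m) :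
    ¬ p ^ 2 ∣ Nat.card σ.ker := by
  obtain ⟨L, κ, hR, hC, hκ, hdef, hσL⟩ := exists_lift hs hc D hord x c hrules hconj hdefs
  have hDefs : ∀ d ∈ D.defEqs, evW L d.1 = evW L d.2 := by
    intro d hd
    obtain ⟨⟨k, a, b⟩, he, rfl⟩ := List.mem_map.1 hd
    simp only [evW_cons, evW_nil, mul_one]
    rw [hdef _ he, commutatorElement_def]
    group
  simp only [TailData.packedCheckMod, Bool.and_eq_true, List.all_eq_true, decide_eq_true_eq,
    Nat.blt_eq, Nat.ble_eq] at hpack
  obtain ⟨hE, hEb, htar, hkN, hw4, hfour⟩ := hpack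
  have heq : ∀ e ∈ E, evK κ e.1 = evK κ e.2 := by
    intro e he
    have : some e ∈ D.srcs.map (fun s => equation D.rules D.conjs D.defEqs fuel s) := by
      rw [hE]; exact List.mem_map.2 ⟨e, he, rfl⟩
    obtain ⟨s, -, hs⟩ := List.mem_map.1 this
    exact equation_spec hR hC hDefs hs
  have hb : ∀ e ∈ E, ∀ a ∈ e.1 ++ e.2, a < D.N := fun e he a ha => (hEb e he).2 a ha
  have hM : ∀ e ∈ E, e.1.length + e.2.length ≤ M := fun e he => (hEb e he).1
  have hkp : κ D.k ^ (p : ℤ) = 1 := by
    have h := packed_relation hb hM heq (i := D.k) (k := D.k) (a := (p : ℤ)) (b := 0) hkN hkN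
      (by simpa using hw4) (by rw [hfour, zero_mul, add_zero])
    simpa using h
  set Z : Subgroup Γ := zpowers (κ D.k : Γ) with hZ
  have hgood : ∀ j, D.isGood j = true → (κ j : Γ) ∈ Z := by
    intro j hj
    obtain ⟨t, ht, e⟩ := List.any_eq_true.1 hj
    obtain rfl := Nat.eq_of_beq_eq_true e
    obtain ⟨hlt, hw, hpk⟩ := htar t ht
    have h := packed_relation hb hM heq (i := t.1) (k := D.k) (a := 1) (b := -t.2.1) hlt hkN
      (by simpa [Int.natAbs_neg] using hw) (by rw [hpk]; ring)
    rw [zpow_one, zpow_neg, mul_inv_eq_one] at h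
    exact mem_zpowers_iff.2 ⟨t.2.1, by rw [h, Subgroup.coe_zpow]⟩
  have hσ : (fun a => σ (L a)) = x := funext hσL
  have hmain := p_part_core hs hc hd D hR hκ hforms hderived hdnil (by rw [hσ]; exact hinj) hsub
    hlen hG Z (zpowers_le.2 (κ D.k).2) hgood (zpowers_le.2 (MonoidHom.mem_ker.2 (hκ D.k)))
  intro hdvd
  obtain ⟨K, hK⟩ := Sylow.exists_subgroup_card_pow_prime p hdvd
  have hle : K.map σ.ker.subtype ≤ Z := by
    rintro _ ⟨z, hz, rfl⟩
    refine hmain _ z.2 2 ?_
    have h := pow_card_eq_one' (x := (⟨z, hz⟩ : K))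
    rw [hK] at h
    exact congrArg (fun w : K => ((w : σ.ker) : Γ)) h
  have hcard := card_le_of_le hle
  rw [card_map_of_injective (σ.ker.subtype_injective), hK, Nat.card_zpowers] at hcard
  have hdo : orderOf (κ D.k : Γ) ≤ p := Nat.le_of_dvd hp.out.pos (orderOf_dvd_of_pow_eq_one (by
    rw [← zpow_natCast, ← Subgroup.coe_zpow, hkp, Subgroup.coe_one]))
  have := hp.out.one_lt
  nlinarith

end CfsgLib.SchurTail
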