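import Mathlib

set_option autoImplicit false

/-! Certificate data for the multiplier of `PSp₆(2)`: spin matrices of the simple roots of E7 modulo 3 and the
simple roots modulo 2, with a check that the transvections reach every non-zero vector. -/

namespace CfsgLib.Schur.PSpSixTwo

open scoped commutatorElement

local notation "V" => (Fin 3 ⊕ Fin 3 → ZMod 2)

/-- Spin matrices of the simple roots of E7 modulo 3. -/
def spinMat : Fin 7 → Matrix (Fin 8) (Fin 8) (ZMod 3) := ![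
  !![0, 1, 0, 2, 2, 2, 0, 0; 2, 0, 2, 0, 0, 0, 1, 1; 0, 1, 0, 2, 1, 1, 0, 0; 1, 0, 1, 0, 0, 0, 1, 1; 1, 0, 2, 0, 0, 0, 2, 1; 1, 0, 2, 0, 0, 0, 1, 2; 0, 2, 0, 2, 1, 2, 0, 0; 0, 2, 0, 2, 2, 1, 0, 0],
  !![0, 0, 0, 0, 0, 0, 2, 0; 0, 0, 0, 0, 0, 2, 0, 0; 0, 0, 0, 0, 0, 0, 0, 1; 0, 0, 0, 0, 2, 0, 0, 0; 0, 0, 0, 1, 0, 0, 0, 0; 0, 1, 0, 0, 0, 0, 0, 0; 1, 0, 0, 0, 0, 0, 0, 0; 0, 0, 2, 0, 0, 0, 0, 0],
  !![0, 0, 0, 0, 0, 2, 0, 0; 0, 0, 0, 0, 0, 0, 1, 0; 0, 0, 0, 2, 0, 0, 0, 0; 0, 0, 1, 0, 0, 0, 0, 0; 0, 0, 0, 0, 0, 0, 0, 1; 1, 0, 0, 0, 0, 0, 0, 0; 0, 2, 0, 0, 0, 0, 0, 0; 0, 0, 0, 0, 2, 0, 0, 0],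
  !![0, 0, 2, 0, 1, 2, 2, 0; 0, 0, 1, 0, 1, 2, 1, 0; 1, 2, 0, 2, 0, 0, 0, 1; 0, 0, 1, 0, 2, 2, 2, 0; 2, 2, 0, 1, 0, 0, 0, 1; 1, 1, 0, 1, 0, 0, 0, 1; 1, 2, 0, 1, 0, 0, 0, 2; 0, 0, 2, 0, 2, 2, 1, 0],
  !![0, 0, 2, 0, 0, 0, 0, 0; 0, 0, 0, 0, 1, 0, 0, 0; 1, 0, 0, 0, 0, 0, 0, 0; 0, 0, 0, 0, 0, 2, 0, 0; 0, 2, 0, 0, 0, 0, 0, 0; 0, 0, 0, 1, 0, 0, 0, 0; 0, 0, 0, 0, 0, 0, 0, 2; 0, 0, 0, 0, 0, 0, 1, 0],
  !![0, 0, 2, 1, 2, 0, 0, 2; 0, 0, 2, 2, 1, 0, 0, 2; 1, 1, 0, 0, 0, 2, 2, 0; 2, 1, 0, 0, 0, 2, 1, 0; 1, 2, 0, 0, 0, 2, 1, 0; 0, 0, 1, 1, 1, 0, 0, 2; 0, 0, 1, 2, 2, 0, 0, 2; 1, 1, 0, 0, 0, 1, 1, 0],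
  !![0, 0, 0, 0, 0, 0, 0, 2; 0, 0, 0, 2, 0, 0, 0, 0; 0, 0, 0, 0, 0, 0, 2, 0; 0, 1, 0, 0, 0, 0, 0, 0; 0, 0, 0, 0, 0, 2, 0, 0; 0, 0, 0, 0, 1, 0, 0, 0; 0, 0, 1, 0, 0, 0, 0, 0; 1, 0, 0, 0, 0, 0, 0, 0]]

/-- The simple roots modulo 2. -/
def rootVec : Fin 7 → V := ![
  Sum.elim ![0, 0, 0] ![0, 0, 1],
  Sum.elim ![0, 0, 0] ![0, 1, 0],
  Sum.elim ![0, 0, 1] ![0, 0, 0],
  Sum.elim ![0, 1, 0] ![0, 0, 1],
  Sum.elim ![0, 0, 0] ![1, 1, 0],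
  Sum.elim ![1, 0, 0] ![0, 0, 0],
  Sum.elim ![0, 0, 0] ![1, 0, 0]]

/-- The alternating form over the field with two elements. -/
def bform (u v : V) : ZMod 2 :=
  ∑ i : Fin 3, (u (.inr i) * v (.inl i) - u (.inl i) * v (.inr i))

/-- A transvection applied to a vector. -/
def move (v : V) (i : Fin 7) : V := v + bform v (rootVec i) • rootVec i

/-- Steps reaching every non-zero vector from the simple roots. -/
def steps : List (ℕ × Fin 7) := [(0, 2), (1, 3), (2, 3), (3, 4), (4, 5), (5, 6), (7, 3), (8, 2), (8, 4), (9, 4), (10, 5), (11, 6), (13, 1), (13, 4), (14, 4), (15, 5), (16, 5), (17, 6), (19, 4), (20, 5), (21, 3), (21, 5), (22, 6), (23, 6), (25, 3), (25, 5), (26, 6), (27, 5), (28, 6), (31, 2), (31, 5), (32, 6), (34, 4), (34, 6), (36, 5), (37, 4), (37, 6), (39, 6), (41, 4), (41, 6), (42, 6), (44, 5), (45, 3), (45, 6), (47, 5), (49, 1), (49,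 6), (50, 5), (52, 6), (53, 5), (55, 5), (56, 4), (57, 4), (59, 3), (60, 2), (61, 0)]

/-- The vectors reached. -/
def reached : List V :=
  steps.foldl (fun L p => L ++ [move (L.getD p.1 (rootVec 0)) p.2]) (List.ofFn rootVec)

theorem reached_complete : ∀ v : V, v ≠ 0 → v ∈ reached := by decide +kernel

theorem spinMat_sq : ∀ i, spinMat i * spinMat i = -1 := by decide +kernel

/-- The spin elements. -/
def spin (i : Fin 7) : (Matrix (Fin 8) (Fin 8) (ZMod 3))ˣ :=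
  ⟨spinMat i, -spinMat i, by rw [mul_neg, spinMat_sq, neg_neg], by rw [neg_mul, spinMat_sq, neg_neg]⟩

set_option backward.isDefEq.respectTransparency false in
theorem spin_rel : ∀ i j : Fin 7,
    (CoxeterMatrix.E₇ i j = 2 → spinMat i * spinMat j = -(spinMat j * spinMat i)) ∧
    (CoxeterMatrix.E₇ i j = 3 →
      spinMat i * spinMat j * spinMat i = spinMat j * spinMat i * spinMat j) := by
  decide +kernel

set_option backward.isDefEq.respectTransparency false in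
theorem laced : ∀ i j : Fin 7, i ≠ j → CoxeterMatrix.E₇ i j = 2 ∨ CoxeterMatrix.E₇ i j = 3 := by
  decide +kernel

set_option backward.isDefEq.respectTransparency false in
theorem rootVec_rel : ∀ i j : Fin 7,
    (CoxeterMatrix.E₇ i j = 2 → bform (rootVec i) (rootVec j) = 0) ∧
    (CoxeterMatrix.E₇ i j = 3 → bform (rootVec i) (rootVec j) = 1) := by
  decide +kernel

theorem rootVec_ne_zero : ∀ i, rootVec i ≠ 0 := by decide +kernel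

theorem spin_witness :
    spinMat 0 * -spinMat 1 * (spinMat 1 * -spinMat 5) * (spinMat 1 * -spinMat 0) *
      (spinMat 5 * -spinMat 1) = -1 := by
  decide +kernel

theorem spin_val (i : Fin 7) : (spin i).val = spinMat i := rfl

theorem spin_inv_val (i : Fin 7) : ((spin i)⁻¹).val = -spinMat i := rfl

theorem spin_commutator :
    ⁅spin 0 * (spin 1)⁻¹, spin 1 * (spin 5)⁻¹⁆ = -1 := by
  refine Units.ext ?_
  simp only [commutatorElement_def, _root_.mul_inv_rev, inv_inv, Units.val_mul, spin_val, spin_inv_val,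
    Units.val_neg, Units.val_one]
  exact spin_witness

end CfsgLib.Schur.PSpSixTwo
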