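import Mathlib
import Cfsg.Prelude.Def_KGroupFacts
import Cfsg.Agent.Lib.Schur.CoxeterCover
import Cfsg.Agent.Lib.Schur.PSpSixTwoData
import Cfsg.Agent.Lib.Weyl.E7
import Cfsg.Agent.Lib.Linear.SympCard
import Cfsg.Agent.Lib.Linear.SympSimple

set_option autoImplicit false

/-! The Schur multiplier of `PSp₆(2)` has order 2. The group is the quotient of the Coxeter group of type E7
by a subgroup of order 2 meeting the derived group trivially; the double cover is the derived group of the
lift of the simple reflections by spin matrices modulo 3. -/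

namespace CfsgLib.Schur.PSpSixTwo

open Subgroup CfsgLib.Linear CfsgLib.Schur.CoxeterCover
open scoped commutatorElement

local notation "W" => CoxeterMatrix.E₇.Group
local notation "V" => (Fin 3 ⊕ Fin 3 → ZMod 2)

section sympl

variable {F : Type*} [Field F] (f : ZMod 2 ≃+* F)

include f in
theorem two_eq_zero : (1 : F) + 1 = 0 := by
  rw [← map_one f, ← map_add, show (1 : ZMod 2) + 1 = 0 from rfl, map_zero]

/-- A vector over `ZMod 2` moved to `F`. -/
def up (v : V) : Fin 3 ⊕ Fin 3 → F := fun x => f (v x)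

theorem form_up (u v : V) : Cfsg.sympForm 3 F (up f u) (up f v) = f (bform u v) := by
  rw [Symp.sympForm_eq_sum, bform, map_sum]
  simp [up]

theorem up_add_smul (u v : V) (a : ZMod 2) : up f (u + a • v) = up f u + f a • up f v := by
  funext x
  simp [up]

/-- The image of a root vector in the projective symplectic group. -/
noncomputable def gen (v : V) : Cfsg.PSp 3 F :=
  QuotientGroup.mk' (center (Matrix.symplecticGroup (Fin 3) F)) (Symp.tv (up f v) 1)

theorem gen_sq (v : V) : gen f v * gen f v = 1 := by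
  rw [gen, ← map_mul, Symp.tv_add, two_eq_zero f, Symp.tv_zero, map_one]

theorem tv_conj_root (u v : V) :
    Symp.tv (up f u) 1 * Symp.tv (up f v) 1 * (Symp.tv (up f u) 1)⁻¹ =
      Symp.tv (up f (v + bform v u • u)) 1 := by
  rw [Symp.tv_conj, Symp.tv_smul, one_mul, form_up, up_add_smul]

theorem tv_inv_self (u : V) : (Symp.tv (up f u) 1)⁻¹ = Symp.tv (up f u) 1 := by
  rw [Symp.tv_inv, neg_eq_of_add_eq_zero_left (two_eq_zero f)]

theorem gen_conj (u v : V) : gen f u * gen f v * gen f u = gen f (v + bform v u • u) := by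
  conv_lhs => arg 2; rw [gen, ← tv_inv_self f u]
  rw [gen, gen, gen, ← map_mul, ← map_mul, tv_conj_root]

theorem gen_liftable : CoxeterMatrix.E₇.IsLiftable fun i => gen f (rootVec i) := by
  intro i j
  by_cases hij : i = j
  · subst hij
    rw [CoxeterMatrix.diagonal, pow_one, gen_sq]
  rcases laced i j hij with hm | hm <;> rw [hm]
  · have h1 : gen f (rootVec i) * gen f (rootVec j) = gen f (rootVec j) * gen f (rootVec i) := by
      rw [gen, gen, ← map_mul, ← map_mul, Symp.tv_commute]
      rw [form_up, (rootVec_rel i j).1 hm, map_zero]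
    rw [pow_two]
    conv_lhs => arg 2; rw [h1]
    rw [mul_assoc, ← mul_assoc (gen f (rootVec j)) (gen f (rootVec j)), gen_sq, one_mul, gen_sq]
  · have hji : CoxeterMatrix.E₇ j i = 3 := by rw [CoxeterMatrix.symmetric]; exact hm
    have h1 : gen f (rootVec i) * gen f (rootVec j) * gen f (rootVec i) =
        gen f (rootVec j) * gen f (rootVec i) * gen f (rootVec j) := by
      rw [gen_conj, gen_conj, (rootVec_rel i j).2 hm, (rootVec_rel j i).2 hji, one_smul, one_smul,
        add_comm]
    calc (gen f (rootVec i) * gen f (rootVec j)) ^ 3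
        = (gen f (rootVec i) * gen f (rootVec j) * gen f (rootVec i)) *
          (gen f (rootVec j) * gen f (rootVec i) * gen f (rootVec j)) := by
          rw [pow_succ, pow_two]; group
      _ = 1 := by
          rw [← h1]
          calc _ = gen f (rootVec i) * (gen f (rootVec j) * ((gen f (rootVec i) * gen f (rootVec i)) *
                gen f (rootVec j))) * gen f (rootVec i) := by group
            _ = 1 := by rw [gen_sq, one_mul, gen_sq, mul_one, gen_sq]

/-- The map of the Coxeter group of type E7 onto `PSp₆(2)`. -/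
noncomputable def phi : W →* Cfsg.PSp 3 F :=
  CoxeterMatrix.E₇.toCoxeterSystem.lift ⟨_, gen_liftable f⟩

theorem phi_simple (i : Fin 7) : phi f (CoxeterMatrix.E₇.simple i) = gen f (rootVec i) :=
  CoxeterMatrix.E₇.toCoxeterSystem.lift_apply_simple (gen_liftable f) i

theorem reached_mem_range : ∀ v ∈ reached, gen f v ∈ (phi f).range := by
  have hbase : ∀ i, gen f (rootVec i) ∈ (phi f).range := fun i => ⟨_, phi_simple f i⟩
  have key : ∀ (l : List (ℕ × Fin 7)) (L : List V), (∀ v ∈ L, gen f v ∈ (phi f).range) →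
      ∀ v ∈ l.foldl (fun L p => L ++ [move (L.getD p.1 (rootVec 0)) p.2]) L,
        gen f v ∈ (phi f).range := by
    intro l
    induction l with
    | nil => exact fun L hL => hL
    | cons p l ih =>
      intro L hL
      rw [List.foldl_cons]
      refine ih _ fun v hv => ?_
      rcases List.mem_append.1 hv with h | h
      · exact hL v h
      · rw [List.mem_singleton.1 h, move, ← gen_conj]
        refine mul_mem (mul_mem (hbase p.2) ?_) (hbase p.2)
        rw [List.getD_eq_getElem?_getD]
        cases hk : L[p.1]? with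
        | none => exact hbase 0
        | some w => exact hL w (List.mem_of_getElem? hk)
  exact key steps _ fun v hv => by
    obtain ⟨i, rfl⟩ := List.mem_ofFn.1 hv
    exact hbase i

theorem phi_surjective [Fintype F] : Function.Surjective (phi f) := by
  rw [← MonoidHom.range_eq_top, eq_top_iff]
  intro x _
  obtain ⟨g, rfl⟩ := QuotientGroup.mk'_surjective (center (Matrix.symplecticGroup (Fin 3) F)) x
  have hle : Symp.transvectionSubgroup 3 F ≤
      (phi f).range.comap (QuotientGroup.mk' (center (Matrix.symplecticGroup (Fin 3) F))) := by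
    rw [Symp.transvectionSubgroup, closure_le]
    rintro A ⟨w, c, hA⟩
    rw [show A = Symp.tv w c from Subtype.ext hA]
    obtain ⟨a, rfl⟩ := f.surjective c
    rcases (by decide : ∀ a : ZMod 2, a = 0 ∨ a = 1) a with rfl | rfl
    · rw [map_zero, Symp.tv_zero]; exact one_mem _
    rw [map_one]
    set v : V := fun i => f.symm (w i) with hv
    have hw : w = up f v := funext fun i => (f.apply_symm_apply (w i)).symm
    rw [hw]
    by_cases hv0 : v = 0
    · have h1 : Symp.tv (up f v) (1 : F) = 1 := by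
        refine Symp.group_ext fun x => ?_
        simp [Symp.tv_smul, show up f v = 0 from funext fun i => by simp [up, hv0]]
      rw [h1]; exact one_mem _
    · exact reached_mem_range f v (reached_complete v hv0)
  exact hle (by rw [Symp.transvectionSubgroup_eq_top]; exact mem_top g)

theorem card_psp [Fintype F] (hF : Fintype.card F = 2) : Nat.card (Cfsg.PSp 3 F) = 1451520 := by
  have h := (center (Matrix.symplecticGroup (Fin 3) F)).card_eq_card_quotient_mul_card_subgroup
  rw [Symp.card_symplectic, Symp.card_center (by norm_num), hF] at h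
  simp only [Finset.prod_range_succ, Finset.prod_range_zero] at h
  norm_num at h
  exact h.symm

theorem commutator_psp [Fintype F] : _root_.commutator (Cfsg.PSp 3 F) = ⊤ := by
  have hs := QuotientGroup.mk'_surjective (center (Matrix.symplecticGroup (Fin 3) F))
  rw [_root_.commutator_def, ← MonoidHom.range_eq_top.2 hs, MonoidHom.range_eq_map, ← map_commutator,
    ← _root_.commutator_def, Symp.commutator_eq_top (Or.inl le_rfl)]

theorem card_ker [Fintype F] (hF : Fintype.card F = 2) : Nat.card (phi f).ker = 2 := by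
  obtain ⟨hfin, hcard, -⟩ := CfsgLib.Weyl.E7.card_and_faithful
  have h1 := (phi f).ker.card_eq_card_quotient_mul_card_subgroup
  rw [Nat.card_congr (QuotientGroup.quotientKerEquivOfSurjective _ (phi_surjective f)).toEquiv,
    card_psp hF, hcard] at h1
  omega

theorem phi_inj_on_commutator [Fintype F] (hF : Fintype.card F = 2) :
    ∀ w ∈ _root_.commutator W, phi f w = 1 → w = 1 := by
  refine eq_one_of_mem_commutator_ker (phi f) (card_ker f hF) commutator_psp ?_ (phi_surjective f)
  intro htop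
  have hl : CoxeterMatrix.E₇.IsLiftable fun _ => (-1 : ℤˣ) := fun i j => by simp
  let ε := CoxeterMatrix.E₇.toCoxeterSystem.lift ⟨_, hl⟩
  have h1 : _root_.commutator W ≤ ε.ker := Abelianization.commutator_subset_ker ε
  rw [htop] at h1
  have h2 : ε (CoxeterMatrix.E₇.simple 0) = 1 := h1 (mem_top _)
  rw [show ε (CoxeterMatrix.E₇.simple 0) = -1 from
    CoxeterMatrix.E₇.toCoxeterSystem.lift_apply_simple hl 0] at h2
  exact absurd h2 (by decide)

end sympl

theorem simple_mul_self (i : Fin 7) :
    CoxeterMatrix.E₇.simple i * CoxeterMatrix.E₇.simple i = 1 :=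
  CoxeterMatrix.E₇.toCoxeterSystem.simple_mul_simple_self i

theorem simple_comm {i j : Fin 7} (h : CoxeterMatrix.E₇ i j = 2) :
    CoxeterMatrix.E₇.simple i * CoxeterMatrix.E₇.simple j =
      CoxeterMatrix.E₇.simple j * CoxeterMatrix.E₇.simple i := by
  have h1 : (CoxeterMatrix.E₇.simple i * CoxeterMatrix.E₇.simple j) ^ CoxeterMatrix.E₇ i j = 1 :=
    CoxeterMatrix.E₇.toCoxeterSystem.simple_mul_simple_pow i j
  rw [h, pow_two] at h1
  rw [eq_inv_of_mul_eq_one_left h1, mul_inv_rev, inv_eq_of_mul_eq_one_left (simple_mul_self i),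
    inv_eq_of_mul_eq_one_left (simple_mul_self j)]

theorem simple_braid {i j : Fin 7} (h : CoxeterMatrix.E₇ i j = 3) :
    CoxeterMatrix.E₇.simple i * CoxeterMatrix.E₇.simple j * CoxeterMatrix.E₇.simple i =
      CoxeterMatrix.E₇.simple j * CoxeterMatrix.E₇.simple i * CoxeterMatrix.E₇.simple j := by
  have h1 : (CoxeterMatrix.E₇.simple i * CoxeterMatrix.E₇.simple j) ^ CoxeterMatrix.E₇ i j = 1 :=
    CoxeterMatrix.E₇.toCoxeterSystem.simple_mul_simple_pow i j
  rw [h, pow_succ, pow_two] at h1
  have h2 : (CoxeterMatrix.E₇.simple i * CoxeterMatrix.E₇.simple j * CoxeterMatrix.E₇.simple i) *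
      (CoxeterMatrix.E₇.simple j * CoxeterMatrix.E₇.simple i * CoxeterMatrix.E₇.simple j) = 1 := by
    rw [← h1]; simp only [mul_assoc]
  rw [eq_inv_of_mul_eq_one_left h2, mul_inv_rev, mul_inv_rev,
    inv_eq_of_mul_eq_one_left (simple_mul_self i), inv_eq_of_mul_eq_one_left (simple_mul_self j),
    mul_assoc]

/-! ### Every stem extension has kernel of order at most two -/

section upper

variable {F : Type*} [Field F] [Fintype F] (f : ZMod 2 ≃+* F) (hF : Fintype.card F = 2)
  {Γ : Type*} [Group Γ] (σ : Γ →* Cfsg.PSp 3 F) (hσ : Cfsg.IsStemExtension σ)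

include f hF hσ

theorem stem_kernel : ∃ c : Γ, σ c = 1 ∧ c * c = 1 ∧ σ.ker ≤ zpowers c := by
  obtain ⟨hsurj, hcen, hcomm⟩ := hσ
  have hc' : ∀ x, σ x = 1 → ∀ g : Γ, Commute x g := fun x hx g =>
    ((mem_center_iff.1 (hcen hx) g).symm : x * g = g * x)
  have hbr : ∀ {i j : Fin 7}, CoxeterMatrix.E₇ i j = 3 → gen f (rootVec i) * gen f (rootVec j) *
      gen f (rootVec i) = gen f (rootVec j) * gen f (rootVec i) * gen f (rootVec j) := by
    intro i j h
    simp only [← phi_simple, ← map_mul, simple_braid h]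
  obtain ⟨u3, h3⟩ := hsurj (gen f (rootVec 3))
  have hs3 : σ (u3 * u3) = 1 := by rw [map_mul, h3, gen_sq]
  have step : ∀ (i j : Fin 7) (t : Γ), CoxeterMatrix.E₇ i j = 3 → σ t = gen f (rootVec i) →
      t * t = u3 * u3 → ∃ u : Γ, σ u = gen f (rootVec j) ∧ t * u * t = u * t * u ∧
        u * u = u3 * u3 := by
    intro i j t h ht hsq
    obtain ⟨u, hu1, hu2, hu3⟩ := exists_braid_lift σ hc' (b := gen f (rootVec j)) hsurj
      (by rw [ht]; exact hbr h)
      (by rw [hsq]; exact hs3)
    exact ⟨u, hu1, hu2, hu3.trans hsq⟩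
  obtain ⟨u2, h2, b32, q2⟩ := step 3 2 u3 (by decide) h3 rfl
  obtain ⟨u1, h1, b31, q1⟩ := step 3 1 u3 (by decide) h3 rfl
  obtain ⟨u4, h4, b34, q4⟩ := step 3 4 u3 (by decide) h3 rfl
  obtain ⟨u0, h0, b20, q0⟩ := step 2 0 u2 (by decide) h2 q2
  obtain ⟨u5, h5, b45, q5⟩ := step 4 5 u4 (by decide) h4 q4
  obtain ⟨u6, h6, b56, q6⟩ := step 5 6 u5 (by decide) h5 q5
  set t : Fin 7 → Γ := ![u0, u1, u2, u3, u4, u5, u6] with ht
  have hσt : ∀ i, σ (t i) = gen f (rootVec i) := by
    intro i; fin_cases i <;> assumption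
  have hsq : ∀ i, t i * t i = u3 * u3 := by
    intro i; fin_cases i <;> first | assumption | rfl
  have hz : ∀ g : Γ, Commute (u3 * u3) g := hc' _ hs3
  have hbraid : ∀ i j, CoxeterMatrix.E₇ i j = 3 → t i * t j * t i = t j * t i * t j := by
    intro i j h
    fin_cases i <;> fin_cases j <;>
      first
      | exact absurd h (by decide)
      | assumption
      | (symm; assumption)
  have hcm : ∀ {i j}, CoxeterMatrix.E₇ i j = 2 → σ (t i) * σ (t j) = σ (t j) * σ (t i) := by
    intro i j h
    simp only [hσt, ← phi_simple, ← map_mul, simple_comm h]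
  have hcc : ∀ {i j}, CoxeterMatrix.E₇ i j = 2 → ∀ g : Γ, Commute ⁅t i, t j⁆ g := fun h =>
    hc' _ (map_commutator_eq_one σ (hcm h))
  have hinv : ∀ {i j}, CoxeterMatrix.E₇ i j = 2 → ⁅t i, t j⁆ * ⁅t i, t j⁆ = 1 := by
    intro i j h
    have h1 : t i * t i * t j * (t i * t i)⁻¹ = t j := by
      rw [hsq i, (hz (t j)).eq, mul_inv_cancel_right]
    calc ⁅t i, t j⁆ * ⁅t i, t j⁆ = (t i * ⁅t i, t j⁆ * (t i)⁻¹) * ⁅t i, t j⁆ := by
          rw [← (hcc h (t i)).eq, mul_inv_cancel_right]
      _ = t i * t i * t j * (t i * t i)⁻¹ * (t j)⁻¹ := by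
          simp only [commutatorElement_def]; group
      _ = 1 := by rw [h1, mul_inv_cancel]
  have tr : ∀ {i k j}, CoxeterMatrix.E₇ i k = 3 → CoxeterMatrix.E₇ i j = 2 →
      CoxeterMatrix.E₇ k j = 2 → ⁅t k, t j⁆ = ⁅t i, t j⁆ := fun hik hij hkj =>
    commutator_transfer σ hc' (hbraid _ _ hik) (hcm hij) (hcm hkj)
  have sy : ∀ {i j}, CoxeterMatrix.E₇ i j = 2 → ⁅t j, t i⁆ = ⁅t i, t j⁆ := by
    intro i j h
    rw [← commutatorElement_inv, inv_eq_of_mul_eq_one_left (hinv h)]
  set c := ⁅t 0, t 1⁆ with hc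
  have p21 : ⁅t 2, t 1⁆ = c := tr (by decide) (by decide) (by decide)
  have p10 : ⁅t 1, t 0⁆ = c := sy (by decide)
  have p30 : ⁅t 3, t 0⁆ = c := (tr (i := 1) (by decide) (by decide) (by decide)).trans p10
  have p40 : ⁅t 4, t 0⁆ = c := (tr (i := 3) (by decide) (by decide) (by decide)).trans p30
  have p50 : ⁅t 5, t 0⁆ = c := (tr (i := 4) (by decide) (by decide) (by decide)).trans p40
  have p60 : ⁅t 6, t 0⁆ = c := (tr (i := 5) (by decide) (by decide) (by decide)).trans p50
  have p04 : ⁅t 0, t 4⁆ = c := (sy (by decide)).trans p40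
  have p05 : ⁅t 0, t 5⁆ = c := (sy (by decide)).trans p50
  have p06 : ⁅t 0, t 6⁆ = c := (sy (by decide)).trans p60
  have p03 : ⁅t 0, t 3⁆ = c := (sy (by decide)).trans p30
  have p24 : ⁅t 2, t 4⁆ = c := (tr (i := 0) (by decide) (by decide) (by decide)).trans p04
  have p25 : ⁅t 2, t 5⁆ = c := (tr (i := 0) (by decide) (by decide) (by decide)).trans p05
  have p26 : ⁅t 2, t 6⁆ = c := (tr (i := 0) (by decide) (by decide) (by decide)).trans p06
  have p35 : ⁅t 3, t 5⁆ = c := (tr (i := 2) (by decide) (by decide) (by decide)).trans p25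
  have p15 : ⁅t 1, t 5⁆ = c := (tr (i := 3) (by decide) (by decide) (by decide)).trans p35
  have p36 : ⁅t 3, t 6⁆ = c := (tr (i := 2) (by decide) (by decide) (by decide)).trans p26
  have p46 : ⁅t 4, t 6⁆ = c := (tr (i := 3) (by decide) (by decide) (by decide)).trans p36
  have p16 : ⁅t 1, t 6⁆ = c := (tr (i := 3) (by decide) (by decide) (by decide)).trans p36
  have p51 : ⁅t 5, t 1⁆ = c := (sy (by decide)).trans p15
  have p41 : ⁅t 4, t 1⁆ = c := (tr (i := 5) (by decide) (by decide) (by decide)).trans p51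
  have p14 : ⁅t 1, t 4⁆ = c := (sy (by decide)).trans p41
  have p12 : ⁅t 1, t 2⁆ = c := (sy (by decide)).trans p21
  have hcall : ∀ i j, CoxeterMatrix.E₇ i j = 2 → ⁅t i, t j⁆ = c := by
    intro i j h
    fin_cases i <;> fin_cases j <;>
      first
      | exact absurd h (by decide)
      | assumption
      | rfl
      | ((refine (sy ?_).trans ?_); · decide
         assumption)
  have hcσ : σ c = 1 := map_commutator_eq_one σ (hcm (by decide))
  have hcsq : c * c = 1 := hinv (by decide)
  refine ⟨c, hcσ, hcsq, fun a ha => ?_⟩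
  have hrels : Rels CoxeterMatrix.E₇ t (u3 * u3) c :=
    ⟨laced, hz, hc' _ hcσ, hsq, fun i j h => by
      rw [← hcall i j h, commutatorElement_def]; group, hbraid⟩
  refine mem_zpowers_of_mem_commutator hrels σ (phi f) (fun i => by rw [hσt, phi_simple]) hs3 hcσ
    (phi_inj_on_commutator f hF) ?_ ha
  -- every element is a product of a word in the lifts and a central element
  have hdec : ∀ g : Γ, ∃ h ∈ closure (Set.range t), σ g = σ h := by
    intro g
    have hmem : σ g ∈ (closure (Set.range t)).map σ := by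
      obtain ⟨w, hw⟩ := phi_surjective f (σ g)
      rw [← hw]
      have hle : ⊤ ≤ ((closure (Set.range t)).map σ).comap (phi f) := by
        rw [← CoxeterMatrix.E₇.toCoxeterSystem.subgroup_closure_range_simple, closure_le]
        rintro _ ⟨i, rfl⟩
        exact ⟨t i, subset_closure ⟨i, rfl⟩, (hσt i).trans (phi_simple f i).symm⟩
      exact hle (mem_top w)
    obtain ⟨h, hh, he⟩ := hmem
    exact ⟨h, hh, he.symm⟩
  have hle : commutator Γ ≤ ⁅closure (Set.range t), closure (Set.range t)⁆ := by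
    rw [_root_.commutator_def]
    refine commutator_le.2 fun g _ g' _ => ?_
    obtain ⟨h, hh, he⟩ := hdec g
    obtain ⟨h', hh', he'⟩ := hdec g'
    have e1 := conj_eq_of_map_eq σ hc' he g'
    have e2 := conj_eq_of_map_eq σ hc' he' h⁻¹
    have e3 : ⁅g, g'⁆ = ⁅h, h'⁆ :=
      calc ⁅g, g'⁆ = (g * g' * g⁻¹) * g'⁻¹ := commutatorElement_def _ _
        _ = h * (g' * h⁻¹ * g'⁻¹) := by rw [e1]; group
        _ = ⁅h, h'⁆ := by rw [e2, commutatorElement_def]; group
    rw [e3]
    exact commutator_mem_commutator hh hh'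
  exact hle (hcomm ha)

theorem exists_surjective : ∃ π : Multiplicative (ZMod 2) →* σ.ker, Function.Surjective π := by
  obtain ⟨c, hc1, hc2, hker⟩ := stem_kernel f hF σ hσ
  set x : σ.ker := ⟨c, hc1⟩ with hx
  have hxx : x * x = 1 := Subtype.ext hc2
  have h01 : ∀ a : ZMod 2, a = 0 ∨ a = 1 := by decide
  refine ⟨MonoidHom.mk' (fun a => if Multiplicative.toAdd a = 0 then 1 else x) fun a b => ?_, ?_⟩
  · show (if Multiplicative.toAdd a + Multiplicative.toAdd b = 0 then 1 else x) = _
    rcases h01 (Multiplicative.toAdd a) with ha | ha <;>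
      rcases h01 (Multiplicative.toAdd b) with hb | hb <;>
      simp [ha, hb, hxx, show (1 : ZMod 2) + 1 = 0 from rfl]
  · rintro ⟨y, hy⟩
    obtain ⟨k, rfl⟩ := hker hy
    have hsq : c ^ (2 : ℤ) = 1 := by rw [zpow_two, hc2]
    rcases Int.even_or_odd' k with ⟨m, rfl | rfl⟩
    · exact ⟨Multiplicative.ofAdd 0, Subtype.ext (by
        show (1 : Γ) = c ^ (2 * m)
        rw [zpow_mul, hsq, one_zpow])⟩
    · exact ⟨Multiplicative.ofAdd 1, Subtype.ext (by
        show c = c ^ (2 * m + 1)
        rw [zpow_add, zpow_mul, hsq, one_zpow, one_mul, zpow_one])⟩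

end upper

/-! ### The double cover -/

section lower

/-- The lifts of the simple reflections. -/
def lift (i : Fin 7) : W × (Matrix (Fin 8) (Fin 8) (ZMod 3))ˣ :=
  (CoxeterMatrix.E₇.simple i, spin i)

/-- The central involution of the cover. -/
def flip : W × (Matrix (Fin 8) (Fin 8) (ZMod 3))ˣ := (1, -1)

theorem flip_comm (g : W × (Matrix (Fin 8) (Fin 8) (ZMod 3))ˣ) : Commute flip g :=
  Prod.ext (by simp [flip]) (Units.ext (by simp [flip]))

theorem lift_rels : Rels CoxeterMatrix.E₇ lift flip flip := by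
  refine ⟨laced, flip_comm, flip_comm, fun i => Prod.ext (simple_mul_self i) (Units.ext ?_),
    fun i j h => Prod.ext ?_ (Units.ext ?_), fun i j h => Prod.ext (simple_braid h) (Units.ext ?_)⟩
  · simpa [lift, flip, spin] using spinMat_sq i
  · simpa [lift, flip] using simple_comm h
  · simpa [lift, flip, spin] using (spin_rel i j).1 h
  · simpa [lift, spin] using (spin_rel i j).2 h

/-- The double cover. -/
def cover : Subgroup (W × (Matrix (Fin 8) (Fin 8) (ZMod 3))ˣ) :=
  ⁅closure (Set.range lift), closure (Set.range lift)⁆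

theorem lift_div_mem {i j : Fin 7} (h : CoxeterMatrix.E₇ i j = 3) :
    lift i * (lift j)⁻¹ ∈ cover := by
  have hb := lift_rels.braid i j h
  have h1 : (lift i * lift j) * lift i * (lift i * lift j)⁻¹ = lift j := by
    calc (lift i * lift j) * lift i * (lift i * lift j)⁻¹
        = (lift j * lift i * lift j) * (lift i * lift j)⁻¹ := by rw [← hb]
      _ = lift j := by group
  have h2 : ⁅lift i, lift i * lift j⁆ = lift i * (lift j)⁻¹ := by
    calc ⁅lift i, lift i * lift j⁆
        = lift i * ((lift i * lift j) * lift i * (lift i * lift j)⁻¹)⁻¹ := by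
          rw [commutatorElement_def]; group
      _ = _ := by rw [h1]
  rw [← h2]
  exact commutator_mem_commutator (subset_closure ⟨i, rfl⟩)
    (mul_mem (subset_closure ⟨i, rfl⟩) (subset_closure ⟨j, rfl⟩))

theorem lift_div_trans {i j k : Fin 7} (h : lift i * (lift j)⁻¹ ∈ cover)
    (h' : lift j * (lift k)⁻¹ ∈ cover) : lift i * (lift k)⁻¹ ∈ cover := by
  have h'' := mul_mem h h'
  rwa [mul_assoc, inv_mul_cancel_left] at h''

theorem flip_mem : ∃ a ∈ cover, ∃ b ∈ cover, ⁅a, b⁆ = flip := by
  refine ⟨lift 0 * (lift 1)⁻¹, ?_, lift 1 * (lift 5)⁻¹, ?_, Prod.ext ?_ (Units.ext ?_)⟩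
  · exact lift_div_trans (lift_div_mem (j := 2) (by decide))
      (lift_div_trans (lift_div_mem (j := 3) (by decide)) (lift_div_mem (by decide)))
  · exact lift_div_trans (lift_div_mem (j := 3) (by decide))
      (lift_div_trans (lift_div_mem (j := 4) (by decide)) (lift_div_mem (by decide)))
  · show ⁅CoxeterMatrix.E₇.simple 0 * (CoxeterMatrix.E₇.simple 1)⁻¹,
        CoxeterMatrix.E₇.simple 1 * (CoxeterMatrix.E₇.simple 5)⁻¹⁆ = 1
    rw [commutatorElement_eq_one_iff_commute]
    have h01 : Commute (CoxeterMatrix.E₇.simple 0) (CoxeterMatrix.E₇.simple 1) :=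
      simple_comm (by decide)
    have h05 : Commute (CoxeterMatrix.E₇.simple 0) (CoxeterMatrix.E₇.simple 5) :=
      simple_comm (by decide)
    have h15 : Commute (CoxeterMatrix.E₇.simple 1) (CoxeterMatrix.E₇.simple 5) :=
      simple_comm (by decide)
    exact (h01.mul_right h05.inv_right).mul_left
      ((Commute.refl _).mul_right h15.inv_right).inv_left
  · rw [show (⁅lift 0 * (lift 1)⁻¹, lift 1 * (lift 5)⁻¹⁆).2 =
        ⁅spin 0 * (spin 1)⁻¹, spin 1 * (spin 5)⁻¹⁆ from
      map_commutatorElement (MonoidHom.snd W (Matrix (Fin 8) (Fin 8) (ZMod 3))ˣ) _ _,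
      spin_commutator]
    rfl

variable {F : Type*} [Field F] [Fintype F] (f : ZMod 2 ≃+* F) (hF : Fintype.card F = 2)

/-- The map of the cover onto `PSp₆(2)`. -/
noncomputable def coverMap : cover →* Cfsg.PSp 3 F :=
  ((phi f).comp (MonoidHom.fst W _)).comp cover.subtype

theorem coverMap_surjective : Function.Surjective (coverMap f) := by
  intro y
  have h : cover.map ((phi f).comp (MonoidHom.fst W (Matrix (Fin 8) (Fin 8) (ZMod 3))ˣ)) = ⊤ := by
    rw [cover, map_commutator]
    have h1 : (closure (Set.range lift)).map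
        ((phi f).comp (MonoidHom.fst W (Matrix (Fin 8) (Fin 8) (ZMod 3))ˣ)) = ⊤ := by
      rw [eq_top_iff, ← MonoidHom.range_eq_top.2 (phi_surjective f), MonoidHom.range_eq_map,
        ← CoxeterMatrix.E₇.toCoxeterSystem.subgroup_closure_range_simple, MonoidHom.map_closure,
        closure_le]
      rintro _ ⟨_, ⟨i, rfl⟩, rfl⟩
      exact ⟨lift i, subset_closure ⟨i, rfl⟩, rfl⟩
    rw [h1, ← _root_.commutator_def, commutator_psp]
  obtain ⟨x, hx, rfl⟩ : y ∈ cover.map
      ((phi f).comp (MonoidHom.fst W (Matrix (Fin 8) (Fin 8) (ZMod 3))ˣ)) := h ▸ mem_top y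
  exact ⟨⟨x, hx⟩, rfl⟩

include hF in
theorem coverMap_ker : ∃ z : cover, (z : W × (Matrix (Fin 8) (Fin 8) (ZMod 3))ˣ) = flip ∧
    z ∈ _root_.commutator cover ∧ orderOf z = 2 ∧ (coverMap f).ker = zpowers z := by
  obtain ⟨a, ha, b, hb, hab⟩ := flip_mem
  refine ⟨⁅(⟨a, ha⟩ : cover), ⟨b, hb⟩⁆, hab,
    commutator_mem_commutator (mem_top _) (mem_top _), ?_, ?_⟩
  · rw [← orderOf_coe, show ((⁅(⟨a, ha⟩ : cover), ⟨b, hb⟩⁆ : cover) :
      W × (Matrix (Fin 8) (Fin 8) (ZMod 3))ˣ) = flip from hab]
    refine orderOf_eq_prime (Prod.ext (by simp [flip]) (by simp [flip])) fun h => ?_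
    have h1 := congrArg (fun p => ((p.2 : (Matrix (Fin 8) (Fin 8) (ZMod 3))ˣ) :
      Matrix (Fin 8) (Fin 8) (ZMod 3)) 0 0) h
    simp [flip] at h1
    exact absurd h1 (by decide)
  refine le_antisymm (fun x hx => ?_) ?_
  · obtain ⟨k, hk⟩ := mem_zpowers_of_mem_commutator lift_rels
      ((phi f).comp (MonoidHom.fst W (Matrix (Fin 8) (Fin 8) (ZMod 3))ˣ)) (phi f) (fun _ => rfl)
      (by simp [flip]) (by simp [flip]) (phi_inj_on_commutator f hF) x.2 hx
    exact ⟨k, Subtype.ext (by rw [coe_zpow]; exact (congrArg (· ^ k) hab).trans hk)⟩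
  · rw [zpowers_le]
    show phi f (⁅a, b⁆).1 = 1
    rw [hab]
    exact map_one _

end lower

theorem main.{u} {F : Type u} [Field F] [Fintype F] (hF : Fintype.card F = 2) :
    Cfsg.HasCyclicSchurMultiplier (Cfsg.PSp 3 F) 2 := by
  have : Fact (Nat.Prime 2) := ⟨Nat.prime_two⟩
  set f : ZMod 2 ≃+* F := ZMod.ringEquivOfPrime F Nat.prime_two hF
  refine ⟨?_, fun Γ _ _ σ hσ => exists_surjective f hF σ hσ⟩
  have := CfsgLib.Weyl.E7.card_and_faithful.1
  obtain ⟨z, hz, hzc, hord, hker⟩ := coverMap_ker f hF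
  let e : ULift.{u} cover ≃* cover := MulEquiv.ulift
  refine ⟨ULift.{u} cover, inferInstance, inferInstance, (coverMap f).comp e.toMonoidHom,
    ⟨(coverMap_surjective f).comp e.surjective, fun x hx => ?_, fun x hx => ?_⟩, ?_⟩
  · have hx' : e x ∈ (coverMap f).ker := hx
    rw [hker] at hx'
    obtain ⟨k, hk⟩ := hx'
    refine mem_center_iff.2 fun g => e.injective ?_
    rw [map_mul, map_mul, ← hk]
    refine ((Commute.zpow_left ?_ k).eq).symm
    refine Subtype.ext ?_
    show (z : W × (Matrix (Fin 8) (Fin 8) (ZMod 3))ˣ) * _ = _ * (z : W × _)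
    rw [hz]
    exact (flip_comm _).eq
  · have hx' : e x ∈ (coverMap f).ker := hx
    rw [hker] at hx'
    have hx2 : e x ∈ _root_.commutator cover := zpowers_le.2 hzc hx'
    have hmap : (_root_.commutator cover).map e.symm.toMonoidHom ≤ _root_.commutator (ULift.{u} cover) := by
      rw [_root_.commutator_def, _root_.commutator_def, map_commutator]
      exact commutator_mono le_top le_top
    simpa using hmap ⟨e x, hx2, rfl⟩
  · have hk : ((coverMap f).comp e.toMonoidHom).ker = zpowers (e.symm z) := by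
      have hsym : e.symm z = (⟨z⟩ : ULift.{u} cover) := rfl
      ext x
      rw [MonoidHom.mem_ker]
      show coverMap f (e x) = 1 ↔ _
      rw [← MonoidHom.mem_ker, hker, mem_zpowers_iff, mem_zpowers_iff]
      exact exists_congr fun k => by rw [← map_zpow, MulEquiv.symm_apply_eq]
    refine ⟨mulEquivOfPrimeCardEq (p := 2) ?_ (by simp)⟩
    rw [hk, Nat.card_zpowers, show orderOf (e.symm z) = orderOf z from
      orderOf_injective e.symm.toMonoidHom e.symm.injective z, hord]

end CfsgLib.Schur.PSpSixTwo
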