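import Cfsg.Agent.Lib.Schur.Multiplier
import Cfsg.Agent.Lib.Schur.Bilinear
import Mathlib.LinearAlgebra.TensorProduct.Basic
import Mathlib.RingTheory.Finiteness.Basic
import Mathlib.LinearAlgebra.TensorProduct.RightExactness
import Mathlib.RingTheory.TensorProduct.Finite
import Mathlib.GroupTheory.FiniteAbelian.Basic
import Mathlib.GroupTheory.NoncommCoprod
import Mathlib.Algebra.Group.Subgroup.Finite

/-!
# The Schur multiplier of a direct product
-/

set_option autoImplicit false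

universe u v w

namespace CfsgLib.Schur

open Subgroup
open scoped commutatorElement TensorProduct

variable (Q₁ : Type u) (Q₂ : Type v) [Group Q₁] [Group Q₂]

/-- The tensor product of the commutator quotients, written multiplicatively. -/
abbrev AbTensor : Type (max u v) :=
  Multiplicative (TensorProduct ℤ (Additive (Abelianization Q₁)) (Additive (Abelianization Q₂)))

theorem abTensor_finite [Finite Q₁] [Finite Q₂] : Finite (AbTensor Q₁ Q₂) := by
  have : Finite (Abelianization Q₁) := Finite.of_surjective _ Quotient.mk''_surjective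
  have : Finite (Abelianization Q₂) := Finite.of_surjective _ Quotient.mk''_surjective
  have : Finite (Additive (Abelianization Q₁)) := Finite.of_equiv _ Additive.ofMul
  have : Finite (Additive (Abelianization Q₂)) := Finite.of_equiv _ Additive.ofMul
  let T := TensorProduct ℤ (Additive (Abelianization Q₁)) (Additive (Abelianization Q₂))
  have hfg : AddGroup.FG T := by
    refine ⟨⟨(Set.finite_range fun p : Additive (Abelianization Q₁) ×
      Additive (Abelianization Q₂) => p.1 ⊗ₜ[ℤ] p.2).toFinset, ?_⟩⟩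
    rw [Set.Finite.coe_toFinset, eq_top_iff]
    intro t _
    induction t using TensorProduct.induction_on with
    | zero => exact zero_mem _
    | tmul a b => exact AddSubgroup.subset_closure ⟨(a, b), rfl⟩
    | add x y hx hy => exact add_mem (hx (by trivial)) (hy (by trivial))
  have ht : ∀ t : T, Nat.card (Additive (Abelianization Q₁)) • t = 0 := by
    intro t
    induction t using TensorProduct.induction_on with
    | zero => simp
    | tmul a b => rw [TensorProduct.smul_tmul', card_nsmul_eq_zero', TensorProduct.zero_tmul]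
    | add x y hx hy => rw [smul_add, hx, hy, add_zero]
  have : Finite T := AddCommGroup.finite_of_fg_isAddTorsion T fun t =>
    isOfFinAddOrder_iff_nsmul_eq_zero.mpr ⟨_, Nat.card_pos, ht t⟩
  exact Finite.of_equiv _ Multiplicative.ofAdd

variable {Q₁ Q₂}

/-- Existence of a stem extension of a product with kernel `A × B × T`. -/
theorem exists_stem_prod [Finite Q₁] [Finite Q₂] {A B : Type w} [CommGroup A] [CommGroup B]
    {Γ₁ : Type u} [Group Γ₁] [Finite Γ₁] (σ₁ : Γ₁ →* Q₁) (h₁ : Cfsg.IsStemExtension σ₁)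
    (e₁ : σ₁.ker ≃* A)
    {Γ₂ : Type v} [Group Γ₂] [Finite Γ₂] (σ₂ : Γ₂ →* Q₂) (h₂ : Cfsg.IsStemExtension σ₂)
    (e₂ : σ₂.ker ≃* B) :
    ∃ (E : Type (max u v)) (_ : Group E) (_ : Finite E) (σ : E →* Q₁ × Q₂),
      Cfsg.IsStemExtension σ ∧ Nonempty (σ.ker ≃* A × B × AbTensor Q₁ Q₂) := by
  let a₁ : Γ₁ →* Abelianization Q₁ := Abelianization.of.comp σ₁
  let a₂ : Γ₂ →* Abelianization Q₂ := Abelianization.of.comp σ₂
  let β : Γ₁ × Γ₂ →* Γ₁ × Γ₂ →* AbTensor Q₁ Q₂ :=
    { toFun := fun x =>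
        { toFun := fun y => Multiplicative.ofAdd (Additive.ofMul (a₁ y.1) ⊗ₜ[ℤ] Additive.ofMul (a₂ x.2))
          map_one' := by simp
          map_mul' := fun y y' => by simp [TensorProduct.add_tmul, ofAdd_add] }
      map_one' := by ext y; simp
      map_mul' := fun x x' => by ext y; simp [TensorProduct.tmul_add, ofAdd_add] }
  have hβ : ∀ x y : Γ₁ × Γ₂, x ∈ (σ₁.prodMap σ₂).ker → β x y = 1 ∧ β y x = 1 := by
    intro x y hx
    have hx' := MonoidHom.mem_ker.mp hx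
    have e1 : σ₁ x.1 = 1 := congrArg Prod.fst hx'
    have e2 : σ₂ x.2 = 1 := congrArg Prod.snd hx'
    simp [β, a₁, a₂, e1, e2]
  let σ : BilExt β →* Q₁ × Q₂ := (σ₁.prodMap σ₂).comp (BilExt.toBase β)
  let ι₁ : Γ₁ →* BilExt β :=
    { toFun := fun g => ⟨(g, 1), 1⟩
      map_one' := rfl
      map_mul' := fun g g' => BilExt.ext (by simp [BilExt.mul_fst]) (by simp [BilExt.mul_snd, β]) }
  let ι₂ : Γ₂ →* BilExt β :=
    { toFun := fun g => ⟨(1, g), 1⟩
      map_one' := rfl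
      map_mul' := fun g g' => BilExt.ext (by simp [BilExt.mul_fst]) (by simp [BilExt.mul_snd, β]) }
  have hσs : Function.Surjective σ := fun q =>
    let ⟨g, hg⟩ := h₁.1 q.1
    let ⟨g', hg'⟩ := h₂.1 q.2
    ⟨⟨(g, g'), 1⟩, Prod.ext hg hg'⟩
  have hmem : ∀ x : BilExt β, x ∈ σ.ker → x.fst ∈ (σ₁.prodMap σ₂).ker := fun _ hx => hx
  have : Finite (AbTensor Q₁ Q₂) := abTensor_finite Q₁ Q₂
  refine ⟨BilExt β, inferInstance, inferInstance, σ, ⟨hσs, fun x hx => ?_, fun x hx => ?_⟩, ⟨?_⟩⟩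
  · rw [mem_center_iff]
    intro y
    obtain ⟨e1, e2⟩ := hβ x.fst y.fst (hmem x hx)
    refine BilExt.ext ?_ ?_
    · exact Prod.ext (mem_center_iff.mp (h₁.2.1 (congrArg Prod.fst (MonoidHom.mem_ker.mp hx))) _)
        (mem_center_iff.mp (h₂.2.1 (congrArg Prod.snd (MonoidHom.mem_ker.mp hx))) _)
    · rw [BilExt.mul_snd, BilExt.mul_snd, e1, e2, mul_one, mul_one, mul_comm]
  · have hx₁ : x.fst.1 ∈ commutator Γ₁ :=
      h₁.2.2 (congrArg Prod.fst (MonoidHom.mem_ker.mp hx))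
    have hx₂ : x.fst.2 ∈ commutator Γ₂ :=
      h₂.2.2 (congrArg Prod.snd (MonoidHom.mem_ker.mp hx))
    have hC₁ : ι₁ x.fst.1 ∈ commutator (BilExt β) := by
      have := mem_map_of_mem ι₁ hx₁
      rw [commutator_def, map_commutator] at this
      exact commutator_mono le_top le_top this
    have hC₂ : ι₂ x.fst.2 ∈ commutator (BilExt β) := by
      have := mem_map_of_mem ι₂ hx₂
      rw [commutator_def, map_commutator] at this
      exact commutator_mono le_top le_top this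
    have hT : ∀ t : TensorProduct ℤ (Additive (Abelianization Q₁)) (Additive (Abelianization Q₂)),
        BilExt.incl β (Multiplicative.ofAdd t) ∈ commutator (BilExt β) := by
      intro t
      induction t using TensorProduct.induction_on with
      | zero => simp
      | add x y hx hy => rw [ofAdd_add, map_mul]; exact mul_mem hx hy
      | tmul a b =>
        obtain ⟨qa, hqa⟩ := Quotient.exists_rep (Additive.toMul a)
        obtain ⟨qb, hqb⟩ := Quotient.exists_rep (Additive.toMul b)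
        obtain ⟨g, rfl⟩ := h₁.1 qa
        obtain ⟨g', rfl⟩ := h₂.1 qb
        have := commutator_mem_commutator (mem_top (ι₂ g')) (mem_top (ι₁ g))
        rw [BilExt.commutator_of_commute _ _ (by simp [ι₁, ι₂])] at this
        rw [← _root_.commutator_def] at this
        have ea : a = Additive.ofMul (a₁ g) := by
          apply Additive.toMul.injective; exact hqa.symm
        have eb : b = Additive.ofMul (a₂ g') := by
          apply Additive.toMul.injective; exact hqb.symm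
        have e3 : β (ι₂ g').fst (ι₁ g).fst * (β (ι₁ g).fst (ι₂ g').fst)⁻¹ =
            Multiplicative.ofAdd (a ⊗ₜ[ℤ] b) := by
          simp [β, ι₁, ι₂, ea, eb]
        rwa [e3] at this
    have hx' : x = ι₁ x.fst.1 * ι₂ x.fst.2 * BilExt.incl β x.snd := by
      refine BilExt.ext ?_ ?_
      · simp [BilExt.mul_fst, ι₁, ι₂, BilExt.incl]
      · simp [BilExt.mul_snd, BilExt.mul_fst, ι₁, ι₂, BilExt.incl, β]
    rw [hx']
    exact mul_mem (mul_mem hC₁ hC₂) (hT _)
  · exact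
      { toFun := fun x => (e₁ ⟨x.1.fst.1, congrArg Prod.fst (MonoidHom.mem_ker.mp x.2)⟩,
          e₂ ⟨x.1.fst.2, congrArg Prod.snd (MonoidHom.mem_ker.mp x.2)⟩, x.1.snd)
        invFun := fun y => ⟨⟨((e₁.symm y.1).1, (e₂.symm y.2.1).1), y.2.2⟩,
          MonoidHom.mem_ker.mpr (Prod.ext (e₁.symm y.1).2 (e₂.symm y.2.1).2)⟩
        left_inv := fun x => by
          apply Subtype.ext
          refine BilExt.ext (Prod.ext ?_ ?_) rfl
          · exact congrArg Subtype.val (e₁.symm_apply_apply _)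
          · exact congrArg Subtype.val (e₂.symm_apply_apply _)
        right_inv := fun y => by
          refine Prod.ext ?_ (Prod.ext ?_ rfl)
          · exact e₁.apply_symm_apply _
          · exact e₂.apply_symm_apply _
        map_mul' := fun x y => by
          refine Prod.ext ?_ (Prod.ext ?_ ?_)
          · exact map_mul e₁ ⟨x.1.fst.1, _⟩ ⟨y.1.fst.1, _⟩
          · exact map_mul e₂ ⟨x.1.fst.2, _⟩ ⟨y.1.fst.2, _⟩
          · show x.1.snd * y.1.snd * β x.1.fst y.1.fst = x.1.snd * y.1.snd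
            rw [(hβ x.1.fst y.1.fst (hmem _ x.2)).1, mul_one] }

/-- Every stem kernel of a product is an image of `M Q₁ × M Q₂ × T`. -/
theorem exists_hom_onto_prod {Δ : Type w} [Group Δ] (τ : Δ →* Q₁ × Q₂)
    (hτ : Cfsg.IsStemExtension τ) :
    ∃ π : M Q₁ × M Q₂ × AbTensor Q₁ Q₂ →* τ.ker, Function.Surjective π := by
  classical
  let instZ : CommGroup τ.ker :=
    { (inferInstance : Group τ.ker) with
      mul_comm := fun a b => Subtype.ext (mem_center_iff.mp (hτ.2.1 b.2) a) }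
  obtain ⟨l₁, hl₁⟩ := exists_lift (pres Q₁) τ hτ.1 hτ.2.1 (MonoidHom.inl Q₁ Q₂)
  obtain ⟨l₂, hl₂⟩ := exists_lift (pres Q₂) τ hτ.1 hτ.2.1 (MonoidHom.inr Q₁ Q₂)
  have hl₁' : ∀ w, τ (l₁ w) = (proj (pres Q₁) w, 1) := fun w => DFunLike.congr_fun hl₁ w
  have hl₂' : ∀ w, τ (l₂ w) = (1, proj (pres Q₂) w) := fun w => DFunLike.congr_fun hl₂ w
  let f₁ : M Q₁ →* τ.ker := (l₁.comp (mult (pres Q₁)).subtype).codRestrict _ fun x => by
    rw [MonoidHom.mem_ker, MonoidHom.comp_apply, coe_subtype, hl₁', MonoidHom.mem_ker.mp x.2.1]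
    rfl
  let f₂ : M Q₂ →* τ.ker := (l₂.comp (mult (pres Q₂)).subtype).codRestrict _ fun x => by
    rw [MonoidHom.mem_ker, MonoidHom.comp_apply, coe_subtype, hl₂', MonoidHom.mem_ker.mp x.2.1]
    rfl
  let s₁ : Q₁ → Δ := fun x => Function.surjInv hτ.1 (x, 1)
  let s₂ : Q₂ → Δ := fun y => Function.surjInv hτ.1 (1, y)
  have hs₁ : ∀ x, τ (s₁ x) = (x, 1) := fun x => Function.surjInv_eq hτ.1 _
  have hs₂ : ∀ y, τ (s₂ y) = (1, y) := fun y => Function.surjInv_eq hτ.1 _
  have hcomm : ∀ x y, ⁅s₁ x, s₂ y⁆ ∈ τ.ker := fun x y => by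
    rw [MonoidHom.mem_ker, map_commutatorElement, hs₁, hs₂, commutatorElement_eq_one_iff_mul_comm]
    simp
  let c : Q₁ → Q₂ → τ.ker := fun x y => ⟨⁅s₁ x, s₂ y⁆, hcomm x y⟩
  have hind : ∀ (x : Q₁) (y : Q₂) (a b : Δ), τ a = (x, 1) → τ b = (1, y) →
      ⁅a, b⁆ = ⁅s₁ x, s₂ y⁆ := by
    intro x y a b ha hb
    have hz : (s₁ x)⁻¹ * a ∈ center Δ := hτ.2.1 (by simp [MonoidHom.mem_ker, ha, hs₁])
    have hw : (s₂ y)⁻¹ * b ∈ center Δ := hτ.2.1 (by simp [MonoidHom.mem_ker, hb, hs₂])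
    have := commutatorElement_mul_center (a := s₁ x) (b := s₂ y) hz hw
    rwa [mul_inv_cancel_left, mul_inv_cancel_left] at this
  have hcl : ∀ x x' y, c (x * x') y = c x y * c x' y := by
    intro x x' y
    apply Subtype.ext
    show ⁅s₁ (x * x'), s₂ y⁆ = ⁅s₁ x, s₂ y⁆ * ⁅s₁ x', s₂ y⁆
    rw [← hind (x * x') y (s₁ x * s₁ x') (s₂ y) (by simp [hs₁]) (hs₂ y)]
    have h1 := mem_center_iff.mp (hτ.2.1 (hcomm x' y))
    calc ⁅s₁ x * s₁ x', s₂ y⁆ = s₁ x * ⁅s₁ x', s₂ y⁆ * (s₁ x)⁻¹ * ⁅s₁ x, s₂ y⁆ := by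
          simp [commutatorElement_def, mul_assoc]
      _ = ⁅s₁ x, s₂ y⁆ * ⁅s₁ x', s₂ y⁆ := by rw [h1 (s₁ x), mul_inv_cancel_right, ← h1]
  have hcr : ∀ x y y', c x (y * y') = c x y * c x y' := by
    intro x y y'
    apply Subtype.ext
    show ⁅s₁ x, s₂ (y * y')⁆ = ⁅s₁ x, s₂ y⁆ * ⁅s₁ x, s₂ y'⁆
    rw [← hind x (y * y') (s₁ x) (s₂ y * s₂ y') (hs₁ x) (by simp [hs₂])]
    have h1 := mem_center_iff.mp (hτ.2.1 (hcomm x y'))
    calc ⁅s₁ x, s₂ y * s₂ y'⁆ = ⁅s₁ x, s₂ y⁆ * (s₂ y * ⁅s₁ x, s₂ y'⁆ * (s₂ y)⁻¹) := by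
          simp [commutatorElement_def, mul_assoc]
      _ = ⁅s₁ x, s₂ y⁆ * ⁅s₁ x, s₂ y'⁆ := by rw [h1 (s₂ y), mul_inv_cancel_right]
  let B₀ : Q₁ →* (Abelianization Q₂ →* τ.ker) :=
    MonoidHom.mk' (fun x => Abelianization.lift (MonoidHom.mk' (c x) (hcr x))) fun x x' => by
      ext y
      show ((c (x * x') y : τ.ker) : Δ) = ((c x y * c x' y : τ.ker) : Δ)
      rw [hcl]
  let B := Abelianization.lift B₀
  let F : Additive (Abelianization Q₁) →+ Additive (Abelianization Q₂) →+ Additive τ.ker :=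
    AddMonoidHom.mk' (fun a => MonoidHom.toAdditive (B (Additive.toMul a))) fun a a' => by
      ext b
      simp
  let fT : AbTensor Q₁ Q₂ →* τ.ker :=
    AddMonoidHom.toMultiplicativeLeft (TensorProduct.liftAddHom F fun r m n => by
      rw [map_zsmul, AddMonoidHom.smul_apply, map_zsmul])
  have hfT : ∀ x y, ∃ t, fT t = c x y := fun x y =>
    ⟨Multiplicative.ofAdd (Additive.ofMul (Abelianization.of x) ⊗ₜ[ℤ]
      Additive.ofMul (Abelianization.of y)), by
      show Additive.toMul (TensorProduct.liftAddHom F _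
        (Additive.ofMul (Abelianization.of x) ⊗ₜ[ℤ] Additive.ofMul (Abelianization.of y))) = _
      rw [TensorProduct.liftAddHom_tmul]
      simp [F, B, B₀]⟩
  let P : M Q₁ × M Q₂ × AbTensor Q₁ Q₂ →* τ.ker :=
    f₁.comp (MonoidHom.fst _ _) *
      (f₂.comp ((MonoidHom.fst _ _).comp (MonoidHom.snd _ _)) *
        fT.comp ((MonoidHom.snd _ _).comp (MonoidHom.snd _ _)))
  refine ⟨P, fun z => ?_⟩
  let R : Subgroup Δ := fT.range.map τ.ker.subtype
  have hRle : R ≤ τ.ker := map_subtype_le _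
  have hRn : R.Normal := ⟨fun n hn g => by
    rwa [mem_center_iff.mp (hτ.2.1 (hRle hn)) g, mul_inv_cancel_right]⟩
  let q := QuotientGroup.mk' R
  have hq : ∀ w v, Commute (q (l₁ w)) (q (l₂ v)) := by
    intro w v
    rw [commute_iff_eq, ← commutatorElement_eq_one_iff_mul_comm, ← map_commutatorElement]
    refine (QuotientGroup.eq_one_iff _).mpr ?_
    rw [hind _ _ _ _ (hl₁' w) (hl₂' v)]
    obtain ⟨t, ht⟩ := hfT (proj (pres Q₁) w) (proj (pres Q₂) v)
    exact ⟨_, ⟨t, rfl⟩, congrArg Subtype.val ht⟩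
  let l := MonoidHom.noncommCoprod (q.comp l₁) (q.comp l₂) hq
  have hsup : l.range ⊔ center (Δ ⧸ R) = ⊤ := by
    rw [eq_top_iff]
    intro d _
    obtain ⟨d, rfl⟩ := QuotientGroup.mk'_surjective R d
    obtain ⟨w, hw⟩ := proj_surjective _ (pres_surjective Q₁) (τ d).1
    obtain ⟨v, hv⟩ := proj_surjective _ (pres_surjective Q₂) (τ d).2
    have hk : (l₁ w * l₂ v)⁻¹ * d ∈ center Δ := hτ.2.1 (by
      simp [MonoidHom.mem_ker, hl₁', hl₂', hw, hv, Prod.ext_iff])
    have h1 : q ((l₁ w * l₂ v)⁻¹ * d) ∈ center (Δ ⧸ R) := by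
      rw [mem_center_iff]
      intro y
      obtain ⟨y, rfl⟩ := QuotientGroup.mk'_surjective R y
      rw [← map_mul, ← map_mul, mem_center_iff.mp hk y]
    have h2 : q (l₁ w * l₂ v) ∈ l.range := ⟨(w, v), by simp [l]⟩
    have := Subgroup.mul_mem_sup h2 h1
    rwa [← map_mul, mul_inv_cancel_left] at this
  have hz : q z.1 ∈ commutator (Δ ⧸ R) := by
    rw [← map_commutator_eq_of_center q
      (by rw [MonoidHom.range_eq_top.mpr (QuotientGroup.mk'_surjective _), top_sup_eq])]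
    exact mem_map_of_mem q (hτ.2.2 z.2)
  rw [← map_commutator_eq_of_center l hsup] at hz
  obtain ⟨⟨w, v⟩, hwv, hz⟩ := hz
  have hwv' : w ∈ commutator (Cov (pres Q₁)) ∧ v ∈ commutator (Cov (pres Q₂)) := by
    have hle : commutator (Cov (pres Q₁) × Cov (pres Q₂)) ≤
        (commutator (Cov (pres Q₁))).prod (commutator (Cov (pres Q₂))) := by
      rw [_root_.commutator_def, commutator_le]
      intro a _ b _
      exact ⟨commutator_mem_commutator (mem_top a.1) (mem_top b.1),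
        commutator_mem_commutator (mem_top a.2) (mem_top b.2)⟩
    exact hle hwv
  have hz' : (l₁ w * l₂ v)⁻¹ * z.1 ∈ R := by
    rw [← QuotientGroup.eq_one_iff]
    show q _ = 1
    rw [map_mul, map_inv, ← hz]
    simp [l]
  have hτz : τ (l₁ w * l₂ v) = 1 := by
    have h1 := MonoidHom.mem_ker.mp (hRle hz')
    rw [map_mul, map_inv, MonoidHom.mem_ker.mp z.2, mul_one, inv_eq_one] at h1
    exact h1
  rw [map_mul, hl₁', hl₂', Prod.mk_mul_mk, one_mul, mul_one, Prod.ext_iff] at hτz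
  obtain ⟨_, ⟨t, rfl⟩, ht⟩ := hz'
  refine ⟨(⟨w, hτz.1, hwv'.1⟩, ⟨v, hτz.2, hwv'.2⟩, t), Subtype.ext ?_⟩
  simp [P, f₁, f₂]
  rw [show ((fT t : τ.ker) : Δ) = (l₁ w * l₂ v)⁻¹ * z.1 from ht, ← mul_assoc, mul_inv_cancel_left]

/-- The multiplier of a direct product. -/
theorem hasSchurMultiplier_prod [Finite Q₁] [Finite Q₂] {A B : Type w} [CommGroup A] [CommGroup B]
    (hA : Cfsg.HasSchurMultiplier Q₁ A) (hB : Cfsg.HasSchurMultiplier Q₂ B) :
    Cfsg.HasSchurMultiplier (Q₁ × Q₂) (A × B × AbTensor Q₁ Q₂) := by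
  obtain ⟨a⟩ := hasSchurMultiplier_iff.mp hA
  obtain ⟨b⟩ := hasSchurMultiplier_iff.mp hB
  obtain ⟨Γ₁, _, _, σ₁, h₁, ⟨e₁⟩⟩ := hA.1
  obtain ⟨Γ₂, _, _, σ₂, h₂, ⟨e₂⟩⟩ := hB.1
  refine ⟨exists_stem_prod σ₁ h₁ e₁ σ₂ h₂ e₂, fun Δ _ _ τ hτ => ?_⟩
  obtain ⟨π, hπ⟩ := exists_hom_onto_prod τ hτ
  exact ⟨π.comp (MulEquiv.prodCongr a (MulEquiv.prodCongr b (MulEquiv.refl _))).toMonoidHom,
    hπ.comp (MulEquiv.surjective _)⟩

end CfsgLib.Schur
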