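import Cfsg.Agent.Lib.Schur.Perfect
import Mathlib.Algebra.Category.Grp.Injective
import Mathlib.GroupTheory.Divisible
import Mathlib.FieldTheory.IsAlgClosed.Basic
import Mathlib.Analysis.Complex.Polynomial.Basic
import Mathlib.GroupTheory.FiniteAbelian.Duality
import Mathlib.RingTheory.RootsOfUnity.AlgebraicallyClosed
import Mathlib.LinearAlgebra.Matrix.GeneralLinearGroup.Basic
import Mathlib.LinearAlgebra.Matrix.ToLin
import Mathlib.LinearAlgebra.FiniteDimensional.Lemmas

/-!
# Lifting projective representations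
-/

set_option autoImplicit false

universe u v w x

namespace CfsgLib.Schur

open Subgroup
open scoped commutatorElement

/-- Lifting to a central extension with divisible kernel, along a Schur cover. -/
theorem exists_lift_divisible {Q : Type u} [Group Q] [Finite Q] {Γ : Type v} [Group Γ]
    (σ : Γ →* Q) (hσ : Cfsg.IsStemExtension σ) (hk : Nonempty (σ.ker ≃* M Q)) {E : Type w}
    [Group E] {Q' : Type x} [Group Q'] (ρ : E →* Q') (hρs : Function.Surjective ρ)
    (hρ : ρ.ker ≤ center E)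
    (hdiv : ∀ n : ℕ, 0 < n → ∀ z ∈ ρ.ker, ∃ y ∈ ρ.ker, y ^ n = z) (γ : Q →* Q') :
    ∃ l : Γ →* E, ρ.comp l = γ.comp σ := by
  classical
  obtain ⟨e⟩ := hk
  obtain ⟨h, hh⟩ := exists_lift (pres Q) σ hσ.1 hσ.2.1 (MonoidHom.id Q)
  have hh' : σ.comp h = proj (pres Q) := by simpa using hh
  have hmap : (mult (pres Q)).map h = σ.ker := by
    rw [map_mult (pres Q) (pres_surjective Q) σ hσ.2.1 h hh', inf_eq_left.mpr hσ.2.2]
  have hsurj : Function.Surjective h := by
    intro g
    obtain ⟨w, hw⟩ := proj_surjective _ (pres_surjective Q) (σ g)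
    have h1 : (h w)⁻¹ * g ∈ σ.ker := by
      rw [MonoidHom.mem_ker, map_mul, map_inv, ← MonoidHom.comp_apply σ h, hh', hw,
        inv_mul_cancel]
    rw [← hmap] at h1
    obtain ⟨m, -, hm⟩ := h1
    exact ⟨w * m, by rw [map_mul, hm, mul_inv_cancel_left]⟩
  let m : M Q →* σ.ker := (h.comp (mult (pres Q)).subtype).codRestrict _
    fun x => hmap.le (mem_map_of_mem h x.2)
  have hm : Function.Injective m := by
    have hs : Function.Surjective m := fun y => by
      obtain ⟨x, hx, hxy⟩ := mem_map.mp (hmap.ge y.2)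
      exact ⟨⟨x, hx⟩, Subtype.ext hxy⟩
    exact (hs.bijective_of_nat_card_le (Nat.card_congr e.toEquiv).ge).1
  have hL : ∀ x, h x = 1 → covAb Q x = 1 → x = 1 := by
    intro x hx hx'
    have h1 : x ∈ commutator (Cov (pres Q)) := by
      rw [← covAb_ker]; exact hx'
    have h2 : proj (pres Q) x = 1 := by rw [← hh', MonoidHom.comp_apply, hx, map_one]
    have := hm (a₁ := ⟨x, h2, h1⟩) (a₂ := 1) (by rw [map_one]; exact Subtype.ext hx)
    exact congrArg Subtype.val this
  obtain ⟨l, hl⟩ := exists_lift (pres Q) ρ hρs hρ γ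
  let ι : h.ker →* Abelianization (FreeGroup Q) := (covAb Q).comp h.ker.subtype
  have hι : Function.Injective ι := (injective_iff_map_eq_one ι).mpr fun x hx =>
    Subtype.ext (hL x.1 x.2 hx)
  let instK : CommGroup ρ.ker :=
    { (inferInstance : Group ρ.ker) with
      mul_comm := fun a b => Subtype.ext (mem_center_iff.mp (hρ b.2) a) }
  let χ : h.ker →* ρ.ker := (l.comp h.ker.subtype).codRestrict _ fun x => by
    rw [MonoidHom.mem_ker]
    have := DFunLike.congr_fun hl x.1
    simp only [MonoidHom.comp_apply] at this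
    show ρ (l x.1) = 1
    rw [this, ← hh', MonoidHom.comp_apply, MonoidHom.mem_ker.mp x.2, map_one, map_one]
  let eR := MonoidHom.ofInjective hι
  let i' : Additive ι.range →+ Additive (Abelianization (FreeGroup Q)) :=
    MonoidHom.toAdditive ι.range.subtype
  let χ' : Additive ι.range →+ Additive ρ.ker :=
    MonoidHom.toAdditive (χ.comp eR.symm.toMonoidHom)
  let instD : DivisibleBy (Additive ρ.ker) ℤ := divisibleByOfSMulRightSurj _ _ (by
    intro n hn a
    obtain ⟨y, hy, hy'⟩ := hdiv n.natAbs (Int.natAbs_pos.mpr hn) _ (Additive.toMul a).2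
    have : (⟨y, hy⟩ : ρ.ker) ^ n.natAbs = Additive.toMul a := Subtype.ext (by simpa using hy')
    rcases Int.natAbs_eq n with h' | h'
    · refine ⟨Additive.ofMul ⟨y, hy⟩, ?_⟩
      apply Additive.toMul.injective
      simp only [toMul_zsmul, toMul_ofMul]
      rw [h', zpow_natCast, this]
    · refine ⟨Additive.ofMul (⟨y, hy⟩ : ρ.ker)⁻¹, ?_⟩
      apply Additive.toMul.injective
      simp only [toMul_zsmul, toMul_ofMul]
      rw [h', zpow_neg, inv_zpow, inv_inv, zpow_natCast, this])
  obtain ⟨Ψ, hΨ⟩ := (Module.Baer.of_divisible (Additive ρ.ker)).extension_property_addMonoidHom i'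
    (fun a b hab => Subtype.ext hab) χ'
  let Ψ' : Cov (pres Q) →* ρ.ker :=
    (AddMonoidHom.toMultiplicative Ψ).comp (covAb Q)
  have hΨ' : ∀ x : h.ker, Ψ' x.1 = χ x := by
    intro x
    have h1 := DFunLike.congr_fun hΨ (Additive.ofMul (eR x))
    have h2 : χ (eR.symm (eR x)) = χ x := by rw [MulEquiv.symm_apply_apply]
    simp only [χ', MonoidHom.toAdditive_apply_apply, toMul_ofMul, MonoidHom.coe_comp,
      MulEquiv.coe_toMonoidHom, Function.comp_apply, AddMonoidHom.coe_comp] at h1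
    rw [← h2]
    exact congrArg Additive.toMul h1
  let l' : Cov (pres Q) →* E :=
    { toFun := fun x => l x * ((Ψ' x : E))⁻¹
      map_one' := by simp
      map_mul' := fun x y => by
        have hc : ((Ψ' x : E))⁻¹ ∈ center E := inv_mem (hρ (Ψ' x).2)
        have hc' := mem_center_iff.mp hc
        rw [map_mul, map_mul, Subgroup.coe_mul, mul_inv_rev, hc' ((Ψ' y : E))⁻¹]
        rw [mul_assoc (l x), ← mul_assoc (l y), hc' (l y)]
        simp [mul_assoc] }
  have hl' : h.ker ≤ l'.ker := by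
    intro x hx
    show l x * ((Ψ' x : E))⁻¹ = 1
    rw [hΨ' ⟨x, hx⟩]
    exact mul_inv_cancel _
  refine ⟨h.liftOfSurjective hsurj ⟨l', hl'⟩, ?_⟩
  refine MonoidHom.ext fun g => ?_
  obtain ⟨w, rfl⟩ := hsurj g
  have h1 := MonoidHom.liftOfRightInverse_comp_apply h (Function.surjInv hsurj)
    (Function.rightInverse_surjInv hsurj) ⟨l', hl'⟩ w
  show ρ (h.liftOfSurjective hsurj ⟨l', hl'⟩ (h w)) = γ (σ (h w))
  rw [← MonoidHom.comp_apply σ h, hh']
  refine (congrArg ρ h1).trans ?_
  show ρ (l w * ((Ψ' w : E))⁻¹) = _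
  rw [map_mul, map_inv, MonoidHom.mem_ker.mp (Ψ' w).2, inv_one, mul_one]
  exact DFunLike.congr_fun hl w

/-- Every central element of `GL_n(ℂ)` has roots of every order in the centre. -/
theorem exists_root_center_GL (n : ℕ) (k : ℕ) (hk : 0 < k) :
    ∀ z ∈ center (GL (Fin n) ℂ), ∃ y ∈ center (GL (Fin n) ℂ), y ^ k = z := by
  intro z hz
  rw [Matrix.GeneralLinearGroup.center_eq_range_scalar] at hz ⊢
  obtain ⟨c, rfl⟩ := hz
  obtain ⟨d, hd⟩ := IsAlgClosed.exists_pow_nat_eq (c : ℂ) hk
  have hd0 : d ≠ 0 := fun h0 => c.ne_zero (by rw [← hd, h0, zero_pow hk.ne'])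
  refine ⟨_, ⟨Units.mk0 d hd0, rfl⟩, ?_⟩
  rw [← map_pow]
  exact congrArg _ (Units.ext (by simpa using hd))

section Induced

variable {Δ : Type u} [Group Δ]

/-- The space of functions transforming by `χ` under right translation by `K`. -/
def monomialSpace (K : Subgroup Δ) (χ : K →* ℂˣ) : Submodule ℂ (Δ → ℂ) where
  carrier := {f | ∀ (k : K) (d : Δ), f (d * k) = (χ k : ℂ) * f d}
  add_mem' := fun hf hg k d => by simp [hf k d, hg k d, mul_add]
  zero_mem' := fun k d => by simp
  smul_mem' := fun c f hf k d => by simp [hf k d, mul_left_comm]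

/-- Left translation on the monomial space. -/
def monomialRep (K : Subgroup Δ) (χ : K →* ℂˣ) :
    Δ →* Module.End ℂ (monomialSpace K χ) where
  toFun g :=
    { toFun := fun f => ⟨fun d => f.1 (g⁻¹ * d), fun k d => by
        have := f.2 k (g⁻¹ * d)
        rwa [mul_assoc] at this⟩
      map_add' := fun _ _ => rfl
      map_smul' := fun _ _ => rfl }
  map_one' := LinearMap.ext fun f => Subtype.ext (funext fun d => by simp)
  map_mul' g g' := LinearMap.ext fun f => Subtype.ext (funext fun d => by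
    simp [mul_assoc])

/-- A central character of a central subgroup is afforded by a representation. -/
theorem exists_rep_of_central_char [Finite Δ] (K : Subgroup Δ) (hK : K ≤ center Δ)
    (χ : K →* ℂˣ) : ∃ (n : ℕ) (ρ : Δ →* GL (Fin n) ℂ),
      (∀ k : K, ρ k ∈ center (GL (Fin n) ℂ)) ∧ ∀ k : K, ρ k = 1 → χ k = 1 := by
  classical
  let V := monomialSpace K χ
  let b := Module.finBasis ℂ V
  let r : Δ →* Matrix (Fin (Module.finrank ℂ V)) (Fin (Module.finrank ℂ V)) ℂ :=
    ((LinearMap.toMatrixAlgEquiv b).toMulEquiv.toMonoidHom).comp (monomialRep K χ)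
  have hscal : ∀ k : K, monomialRep K χ k = algebraMap ℂ _ ((χ k⁻¹ : ℂˣ) : ℂ) := by
    intro k
    refine LinearMap.ext fun f => Subtype.ext (funext fun d => ?_)
    show f.1 ((k : Δ)⁻¹ * d) = _
    rw [← mem_center_iff.mp (hK (inv_mem k.2)) d]
    exact f.2 k⁻¹ d
  refine ⟨_, r.toHomUnits, fun k => mem_center_iff.mpr fun g => Units.ext ?_, fun k hk => ?_⟩
  · show (g : Matrix _ _ ℂ) * LinearMap.toMatrixAlgEquiv b (monomialRep K χ k) =
      LinearMap.toMatrixAlgEquiv b (monomialRep K χ k) * (g : Matrix _ _ ℂ)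
    rw [hscal, AlgEquiv.commutes]
    exact (Algebra.commutes _ _).symm
  · have h1 : LinearMap.toMatrixAlgEquiv b (monomialRep K χ k) = 1 := congrArg Units.val hk
    rw [← map_one (LinearMap.toMatrixAlgEquiv b)] at h1
    have h2 := (LinearMap.toMatrixAlgEquiv b).injective h1
    let f₀ : Δ → ℂ := fun d => if hd : d ∈ K then (χ ⟨d, hd⟩ : ℂ) else 0
    have hf₀ : f₀ ∈ V := by
      intro j d
      by_cases hd : d ∈ K
      · have hdj : d * j ∈ K := mul_mem hd j.2
        simp only [f₀, dif_pos hd, dif_pos hdj, ← Units.val_mul]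
        rw [← map_mul]
        exact congrArg (fun x => (χ x : ℂ)) (Subtype.ext
          (mem_center_iff.mp (hK j.2) d))
      · have hdj : d * (j : Δ) ∉ K := fun h => hd ((mul_mem_cancel_right j.2).mp h)
        simp only [f₀, dif_neg hd, dif_neg hdj, mul_zero]
    have h3 := congrArg (fun L => (L ⟨f₀, hf₀⟩ : V).1 1) h2
    rw [hscal] at h3
    have h4 : ((χ k⁻¹ : ℂˣ) : ℂ) * f₀ 1 = f₀ 1 := h3
    have h5 : f₀ 1 = 1 := by
      simp only [f₀, dif_pos (one_mem K)]
      show ((χ 1 : ℂˣ) : ℂ) = 1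
      rw [map_one, Units.val_one]
    rw [h5, mul_one, map_inv] at h4
    exact inv_eq_one.mp (Units.ext h4)

end Induced

/-- A surjection between stem kernels from the fibre product. -/
theorem exists_surjection_of_fibre {Q : Type u} [Group Q] {Γ : Type v} [Group Γ] (σ : Γ →* Q)
    (hσ : Cfsg.IsStemExtension σ) {Δ : Type w} [Group Δ] (τ : Δ →* Q)
    (hτ : Cfsg.IsStemExtension τ)
    (H : ∀ p ∈ commutator (fibre σ τ), p.1.1 = 1 → p.1.2 = 1) :
    ∃ π : σ.ker →* τ.ker, Function.Surjective π := by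
  have h1 : (commutator (fibre σ τ)).map (fibreFst σ τ) = commutator Γ :=
    map_commutator_eq_of_center _
      (by rw [MonoidHom.range_eq_top.mpr (fibreFst_surjective σ hτ.1), top_sup_eq])
  have h2 : (commutator (fibre σ τ)).map (fibreSnd σ τ) = commutator Δ :=
    map_commutator_eq_of_center _
      (by rw [MonoidHom.range_eq_top.mpr (fibreSnd_surjective τ hσ.1), top_sup_eq])
  have hex : ∀ a : σ.ker, ∃ b : τ.ker, ∃ p ∈ commutator (fibre σ τ), p.1 = ((a : Γ), (b : Δ)) := by
    intro a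
    obtain ⟨p, hp, hpa⟩ := mem_map.mp (h1.ge (hσ.2.2 a.2))
    have hb : p.1.2 ∈ τ.ker := by
      rw [MonoidHom.mem_ker, ← mem_fibre.mp p.2, show p.1.1 = a from hpa]
      exact a.2
    exact ⟨⟨p.1.2, hb⟩, p, hp, Prod.ext hpa rfl⟩
  choose f p hp hpf using hex
  have huniq : ∀ (a : σ.ker) (q : fibre σ τ), q ∈ commutator (fibre σ τ) → q.1.1 = a →
      q.1.2 = f a := by
    intro a q hq hqa
    have := H (q * (p a)⁻¹) (mul_mem hq (inv_mem (hp a))) (by simp [hqa, hpf a])
    simpa [hpf a, mul_inv_eq_one] using this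
  refine ⟨⟨⟨f, Subtype.ext (huniq 1 1 (one_mem _) rfl).symm⟩, fun a b => ?_⟩, ?_⟩
  · exact Subtype.ext ((huniq (a * b) (p a * p b) (mul_mem (hp a) (hp b))
      (by simp [hpf a, hpf b])).symm.trans (by simp [hpf a, hpf b]))
  · intro b
    obtain ⟨q, hq, hqb⟩ := mem_map.mp (h2.ge (hτ.2.2 b.2))
    have ha : q.1.1 ∈ σ.ker := by
      rw [MonoidHom.mem_ker, mem_fibre.mp q.2, show q.1.2 = b from hqb]
      exact b.2
    exact ⟨⟨q.1.1, ha⟩, Subtype.ext ((huniq ⟨q.1.1, ha⟩ q hq rfl).symm.trans hqb)⟩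

end CfsgLib.Schur
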