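import Cfsg.Agent.Lib.Schur.CodedCert
import Cfsg.Agent.Lib.Schur.Corestriction

/-!
Cocycles on a listed subgroup given by tables, and separation of cosets by invariants.
-/

set_option autoImplicit false

namespace CfsgLib.SchurTable

open Cfsg CfsgLib.Comp CfsgLib.M24Elt CfsgLib.Golay CfsgLib.SchurCoded Subgroup

/-- Tables: elements, packed multiplication and values, generators and words. -/
structure Table where
  /-- The elements, by increasing code. -/
  els : List ℕ
  /-- The products. -/
  mulRows : List ℕ
  /-- The values. -/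
  valRows : List ℕ
  /-- The generators. -/
  gens : List ℕ
  /-- The elements as words in the generators. -/
  words : List (List ℕ)
  /-- The identity. -/
  one : ℕ

/-- The number of elements. -/
def Table.n (T : Table) : ℕ := T.els.length

/-- The code of an element. -/
def Table.code (T : Table) (i : ℕ) : ℕ := T.els.getD i 0

/-- The product. -/
def Table.m (T : Table) (i j : ℕ) : ℕ := T.mulRows.getD i 0 / T.n ^ j % T.n

/-- The value. -/
def Table.v (T : Table) (N i j : ℕ) : ℕ := T.valRows.getD i 0 / N ^ j % N

variable (τ : Test)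

/-- The check of the tables. -/
noncomputable def Table.check (T : Table) (N : ℕ) : Bool :=
  T.els.all τ.ok &&
  (incr (T.els.map fun a => prodc [a]) &&
  (decide (T.one < T.n) && (eqw τ [T.code T.one] [] &&
  ((T.gens.all fun k => decide (k < T.n)) &&
  ((PermCode.allLt T.n fun i => PermCode.allLt T.n fun j =>
    eqc (PermCode.mul 24 (T.code i) (T.code j)) (T.code (T.m i j))) &&
  ((PermCode.allLt T.n fun i => Nat.beq (T.v N T.one i) 0 && Nat.beq (T.v N i T.one) 0) &&
  ((PermCode.allLt T.n fun g => PermCode.allLt T.n fun h => T.gens.all fun k =>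
    Nat.beq ((T.v N g h + T.v N (T.m g h) k) % N) ((T.v N h k + T.v N g (T.m h k)) % N)) &&
  (PermCode.allLt T.n fun i => (T.words.getD i []).all (fun a => decide (a < T.gens.length)) &&
    Nat.beq ((T.words.getD i []).foldl (fun acc a => T.m acc (T.gens.getD a 0)) T.one) i))))))))

variable {τ}

theorem exists_cocycle {T : Table} {N : ℕ} [NeZero N] (hT : T.check τ N = true) [Finite τ.S] :
    ∃ (U : Subgroup τ.S) (c : SchurCor.Cocycle U (ZMod N)),
      (∀ i, i < T.n → el τ (T.code i) ∈ U) ∧
      (∀ x ∈ U, ∃ i, i < T.n ∧ x = el τ (T.code i)) ∧ Nat.card U = T.n ∧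
      ∀ i j (a b : U), i < T.n → j < T.n → (a : τ.S) = el τ (T.code i) →
        (b : τ.S) = el τ (T.code j) → c.f a b = (T.v N i j : ZMod N) := by
  classical
  simp only [Table.check, Bool.and_eq_true] at hT
  obtain ⟨hok, hincr, hone, hone1, hgens, hmul, hzero, hassoc, hwords⟩ := hT
  have hone' : T.one < T.n := of_decide_eq_true hone
  have hm : ∀ i j, T.m i j < T.n := fun i j => Nat.mod_lt _ (lt_of_le_of_lt (Nat.zero_le _) hone')
  have okc : ∀ i, i < T.n → τ.ok (T.code i) = true := fun i hi => by
    rw [Table.code, List.getD_eq_getElem _ _ hi]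
    exact List.all_eq_true.1 hok _ (List.getElem_mem _)
  have helmul : ∀ i j, i < T.n → j < T.n →
      el τ (T.code i) * el τ (T.code j) = el τ (T.code (T.m i j)) := by
    intro i j hi hj
    have h := PermCode.allLt_spec (PermCode.allLt_spec hmul i hi) j hj
    refine Subtype.ext ?_
    rw [Subgroup.coe_mul, coe_el τ (okc i hi), coe_el τ (okc j hj), coe_el τ (okc _ (hm i j))]
    have oi := (τ.sound _ (okc i hi)).1
    have oj := (τ.sound _ (okc j hj)).1
    rw [← pm_mul oi oj]
    exact pm_eq_of_eqc (ok_pm_mul oi oj) (τ.sound _ (okc _ (hm i j))).1 h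
  have helone : el τ (T.code T.one) = 1 := by simpa [elw] using eqw_spec hone1
  have hinj : ∀ i j, i < T.n → j < T.n → el τ (T.code i) = el τ (T.code j) → i = j := by
    intro i j hi hj e
    have hp := prodc_inj (τ := τ) (l := [T.code i]) (r := [T.code j]) (by simp [okc i hi])
      (by simp [okc j hj]) (by simp [elw, e])
    have hnd : (T.els.map fun a => prodc [a]).Nodup :=
      (incr_pairwise hincr).imp fun h => Nat.ne_of_lt h
    rw [Table.code, Table.code, List.getD_eq_getElem _ _ hi, List.getD_eq_getElem _ _ hj] at hp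
    have hi' : i < (T.els.map fun a => prodc [a]).length := by rw [List.length_map]; exact hi
    have hj' : j < (T.els.map fun a => prodc [a]).length := by rw [List.length_map]; exact hj
    refine (hnd.getElem_inj_iff (hi := hi') (hj := hj')).1 ?_
    rw [List.getElem_map, List.getElem_map]
    exact hp
  let M : Submonoid τ.S :=
    { carrier := {x | ∃ i, i < T.n ∧ x = el τ (T.code i)}
      one_mem' := ⟨T.one, hone', helone.symm⟩
      mul_mem' := by
        rintro _ _ ⟨i, hi, rfl⟩ ⟨j, hj, rfl⟩
        exact ⟨T.m i j, hm i j, helmul i j hi hj⟩ }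
  let U : Subgroup τ.S :=
    { M with
      inv_mem' := fun {y} hy => by
        rw [show y⁻¹ = y ^ (orderOf y - 1) from inv_eq_of_mul_eq_one_left (by
          rw [← pow_succ, Nat.sub_add_cancel (orderOf_pos y), pow_orderOf_eq_one])]
        exact M.pow_mem hy _ }
  have hidx : ∀ x : U, ∃ i, i < T.n ∧ (x : τ.S) = el τ (T.code i) := fun x => x.2
  choose idx hidxlt hidxeq using hidx
  have idx_eq : ∀ (x : U) i, i < T.n → (x : τ.S) = el τ (T.code i) → idx x = i := fun x i hi e =>
    hinj _ _ (hidxlt x) hi ((hidxeq x).symm.trans e)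
  have idx_mul : ∀ x y : U, idx (x * y) = T.m (idx x) (idx y) := fun x y =>
    idx_eq _ _ (hm _ _) (by rw [Subgroup.coe_mul, hidxeq x, hidxeq y, helmul _ _ (hidxlt x) (hidxlt y)])
  have idx_one : idx 1 = T.one := idx_eq _ _ hone' helone.symm
  let f : U → U → ZMod N := fun x y => (T.v N (idx x) (idx y) : ZMod N)
  have h0l : ∀ g, f 1 g = 0 := fun g => by
    have h := PermCode.allLt_spec hzero _ (hidxlt g)
    rw [Bool.and_eq_true] at h
    simp only [f, idx_one, Nat.eq_of_beq_eq_true h.1, Nat.cast_zero]
  have h0r : ∀ g, f g 1 = 0 := fun g => by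
    have h := PermCode.allLt_spec hzero _ (hidxlt g)
    rw [Bool.and_eq_true] at h
    simp only [f, idx_one, Nat.eq_of_beq_eq_true h.2, Nat.cast_zero]
  let good : U → Prop := fun k => ∀ g h, f g h + f (g * h) k = f h k + f g (h * k)
  have good_one : good 1 := fun g h => by simp [h0r]
  have good_mul : ∀ a b, good a → good b → good (a * b) := fun a b ha hb g h => by
    have e1 := hb (g * h) a
    have e2 := ha g h
    have e3 := hb h a
    have e4 := hb g (h * a)
    simp only [mul_assoc] at e1 e2 e3 e4 ⊢
    linear_combination -e1 + e2 + e3 + e4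
  have good_gen : ∀ k, k ∈ T.gens → ∀ x : U, idx x = k → good x := by
    intro k hk x hx g h
    have e := List.all_eq_true.1
      (PermCode.allLt_spec (PermCode.allLt_spec hassoc _ (hidxlt g)) _ (hidxlt h)) k hk
    have e' := congrArg (fun t : ℕ => (t : ZMod N)) (Nat.eq_of_beq_eq_true e)
    simp only [ZMod.natCast_mod, Nat.cast_add] at e'
    simp only [f, idx_mul, hx]
    exact e'
  have hall : ∀ k : U, good k := by
    intro k
    have hw := PermCode.allLt_spec hwords _ (hidxlt k)
    rw [Bool.and_eq_true, List.all_eq_true] at hw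
    obtain ⟨hw1, hw2⟩ := hw
    have key : ∀ (w : List ℕ) (acc : ℕ), (∀ a ∈ w, a < T.gens.length) → acc < T.n →
        (∀ x : U, idx x = acc → good x) → ∀ x : U,
          idx x = w.foldl (fun acc a => T.m acc (T.gens.getD a 0)) acc → good x := by
      intro w
      induction w with
      | nil => intro acc _ _ h x hx; exact h x hx
      | cons a w ih =>
        intro acc hlt hacc h x hx
        rw [List.foldl_cons] at hx
        refine ih _ (fun b hb => hlt b (List.mem_cons_of_mem _ hb)) (hm _ _) (fun y hy => ?_) x hx
        have ha := hlt a (List.mem_cons_self ..)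
        have hg : T.gens.getD a 0 ∈ T.gens := by
          rw [List.getD_eq_getElem _ _ ha]; exact List.getElem_mem _
        have hgl : T.gens.getD a 0 < T.n := of_decide_eq_true (List.all_eq_true.1 hgens _ hg)
        let p : U := ⟨el τ (T.code acc), acc, hacc, rfl⟩
        let q : U := ⟨el τ (T.code (T.gens.getD a 0)), _, hgl, rfl⟩
        have hp : idx p = acc := idx_eq _ _ hacc rfl
        have hq : idx q = T.gens.getD a 0 := idx_eq _ _ hgl rfl
        have hy' : y = p * q := by
          apply Subtype.ext
          rw [hidxeq y, hy, Subgroup.coe_mul, helmul _ _ hacc hgl]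
        rw [hy']
        exact good_mul _ _ (h p hp) (good_gen _ hg q hq)
    refine key _ T.one (fun a ha => of_decide_eq_true (hw1 a ha)) hone' (fun x hx => ?_) k
      (Nat.eq_of_beq_eq_true hw2).symm
    have : x = 1 := Subtype.ext (by rw [hidxeq x, hx, helone]; rfl)
    rw [this]; exact good_one
  refine ⟨U, ⟨f, h0l, h0r, fun g h k => hall k g h⟩, fun i hi => ⟨i, hi, rfl⟩, fun x hx => hx, ?_,
    fun i j a b hi hj ea eb => ?_⟩
  · rw [← Nat.card_fin T.n]
    exact Nat.card_congr
      { toFun := fun x => ⟨idx x, hidxlt x⟩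
        invFun := fun i => ⟨el τ (T.code i), i, i.2, rfl⟩
        left_inv := fun x => Subtype.ext (hidxeq x).symm
        right_inv := fun i => Fin.ext (idx_eq _ _ i.2 rfl) }
  · show (T.v N (idx a) (idx b) : ZMod N) = _
    rw [idx_eq a i hi ea, idx_eq b j hj eb]

/-- A right invariant key separates cosets. -/
theorem length_le_index {G : Type*} [Group G] [Finite G] {H : Subgroup G} (key : G → ℕ)
    (hkey : ∀ g, ∀ h ∈ H, key (g * h) = key g) {L : List G} (hL : (L.map key).Pairwise (· < ·)) :
    L.length ≤ H.index := by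
  have hnd : (L.map key).Nodup := hL.imp fun h => Nat.ne_of_lt h
  have := Nat.card_le_card_of_injective (fun i : Fin L.length => (QuotientGroup.mk L[i] : G ⧸ H))
    fun i j e => Fin.ext (by
      have hh := hkey L[i] _ (QuotientGroup.eq.1 e)
      rw [mul_inv_cancel_left] at hh
      refine (hnd.getElem_inj_iff (hi := by simpa using i.2) (hj := by simpa using j.2)).1 ?_
      rw [List.getElem_map, List.getElem_map]
      exact hh.symm)
  simpa [Subgroup.index] using this

end CfsgLib.SchurTable
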