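import Cfsg.Agent.Lib.Schur.TailCollect

/-!
A certificate that the 2-part of the kernel of a stem extension is generated by one tail of order
dividing 4.
-/

set_option autoImplicit false

namespace CfsgLib.SchurTail

open Subgroup
open scoped commutatorElement

/-- A certificate. -/
structure TailData where
  /-- The number of letters. -/
  n : ℕ
  /-- The letters of the derived subgroup. -/
  derived : List ℕ
  /-- The derived letters as commutators. -/
  defs : List (ℕ × ℕ × ℕ)
  /-- The rules. -/
  rules : Rules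
  /-- The conjugations. -/
  conjs : Conjs
  /-- The sources of equations. -/
  srcs : List Src
  /-- The distinguished tail. -/
  k : ℕ
  /-- Combinations expressing tails as multiples of the distinguished one. -/
  targets : List (ℕ × ℤ × List (ℕ × ℤ))
  /-- The combination killing four times the distinguished tail. -/
  four : List (ℕ × ℤ)
  /-- Normal forms of the Sylow subgroup. -/
  forms : List (List ℕ)
  /-- Normal forms of the derived subgroup. -/
  dforms : List (List ℕ)

/-- The fuel for collection. -/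
def fuel : ℕ := 400

/-- The definition equations. -/
def TailData.defEqs (D : TailData) : List (List ℕ × List ℕ) :=
  D.defs.map fun d => ([d.2.1, d.2.2], [d.1, d.2.2, d.2.1])

/-- The equations. -/
def TailData.eqs (D : TailData) : List (List ℕ × List ℕ) :=
  D.srcs.map fun s => (equation D.rules D.conjs D.defEqs fuel s).getD ([], [])

/-- The number of tails. -/
def TailData.N (D : TailData) : ℕ := D.rules.length + D.conjs.length

/-- The tails known to be multiples of the distinguished one. -/
def TailData.isGood (D : TailData) (j : ℕ) : Bool := D.targets.any fun t => Nat.beq t.1 j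

/-- The check of the linear algebra. -/
def TailData.checkLin (D : TailData) : Bool :=
  (D.srcs.all fun s => (equation D.rules D.conjs D.defEqs fuel s).isSome) &&
  ((D.eqs.all fun e => (e.1 ++ e.2).all fun a => decide (a < D.N)) &&
  ((D.targets.all fun t => combCheck D.N D.eqs t.1 D.k t.2.1 t.2.2) &&
    (decide (D.k < D.N) && (List.range D.N).all fun j => decide (combVec D.eqs D.four j = if j = D.k then 4 else 0))))

/-- The check of the Sylow subgroup. -/
def TailData.checkForms (D : TailData) : Bool :=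
  closedCheck D.rules fuel D.forms (List.range D.n) (fun _ => true) &&
  (closedCheck D.rules fuel D.dforms D.derived D.isGood &&
  (D.dforms.all (fun w => w.all fun a => D.derived.contains a) &&
  ((D.forms.all fun w => w.all fun a => decide (a < D.n)) &&
  ((D.derived.all fun d => (List.range D.n).all fun a => D.derived.contains a || decide (a < d)) &&
  ((List.range D.n).all fun a => (List.range D.n).all fun d =>
    Nat.ble d a || (match findRule D.rules d a 0 with
      | some (x :: y :: W, j) =>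
        D.isGood j && (Nat.beq x a && ((Nat.beq y d && W.all fun z => D.derived.contains z) ||
          (D.derived.contains d && (y :: W).all fun z => D.derived.contains z)))
      | _ => decide (d < a)))))))

variable {Γ G : Type*} [Group Γ] [Group G] {σ : Γ →* G}

/-- The derived subgroup of a lifted Sylow subgroup lies in the letters and the good tails. -/
theorem p_part_core [Finite Γ] {p : ℕ} [Fact p.Prime] (hs : Function.Surjective σ)
    (hc : σ.ker ≤ center Γ)
    (hd : σ.ker ≤ _root_.commutator Γ) (D : TailData) {L : ℕ → Γ} {κ : ℕ → center Γ}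
    (hR : Holds D.rules L κ) (hκ : ∀ j, σ (κ j : Γ) = 1)
    (hforms : D.checkForms = true)
    (hderived : ∀ d ∈ D.derived, d < D.n) (hdnil : [] ∈ D.forms ∧ [] ∈ D.dforms)
    (hinj : (D.forms.map fun w => evW (fun a => σ (L a)) w).Nodup)
    (hsub : ∀ w ∈ D.dforms, w ∈ D.forms)
    {m : ℕ} (hlen : D.forms.length = p ^ m) (hG : (Nat.card G).factorization p = m)
    (Z : Subgroup Γ) (hZc : Z ≤ center Γ) (hgood : ∀ j, D.isGood j = true → (κ j : Γ) ∈ Z)
    (hZker : Z ≤ σ.ker) :
    ∀ z ∈ σ.ker, ∀ j : ℕ, z ^ p ^ j = 1 → z ∈ Z := by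
  have : Finite G := Finite.of_surjective σ hs
  simp only [TailData.checkForms, Bool.and_eq_true] at hforms
  obtain ⟨hclosed, hdclosed, hdlet, hflet, hlast, hcomm⟩ := hforms
  -- the derived part
  set H := closure (L '' {a | a ∈ D.derived}) ⊔ Z with hH
  have hHmem : ∀ d ∈ D.derived, L d ∈ H := fun d hd =>
    le_sup_left (b := Z) (subset_closure ⟨d, hd, rfl⟩)
  have hZH : ∀ z ∈ Z, z ∈ H := fun z hz => le_sup_right (a := closure (L '' {a | a ∈ D.derived})) hz
  have hword : ∀ W : List ℕ, (W.all fun z => D.derived.contains z) = true → evW L W ∈ H := by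
    intro W hW
    refine list_prod_mem fun x hx => ?_
    obtain ⟨z, hz, rfl⟩ := List.mem_map.1 hx
    exact hHmem z (List.contains_iff_mem.1 (List.all_eq_true.1 hW z hz))
  -- rules between distinct letters
  have hswap : ∀ a, a < D.n → ∀ d, d < D.n → a < d →
      ∃ j, D.isGood j = true ∧ ((∃ W : List ℕ, (W.all fun z => D.derived.contains z) = true ∧
        L d * L a = L a * L d * evW L W * (κ j : Γ)) ∨
      (d ∈ D.derived ∧ ∃ W : List ℕ, (W.all fun z => D.derived.contains z) = true ∧
        L d * L a = L a * evW L W * (κ j : Γ))) := by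
    intro a ha d hd had
    have h := List.all_eq_true.1 (List.all_eq_true.1 hcomm a (List.mem_range.2 ha)) d (List.mem_range.2 hd)
    rw [Bool.or_eq_true] at h
    rcases h with h | h
    · exact absurd (Nat.le_of_ble_eq_true h) (by omega)
    split at h
    · next x y W j hf =>
      simp only [Bool.and_eq_true, Bool.or_eq_true] at h
      obtain ⟨hj, hx, h⟩ := h
      obtain rfl := Nat.eq_of_beq_eq_true hx
      obtain ⟨i, hi, hget⟩ := findRule_spec hf
      rw [Nat.zero_add] at hi
      subst hi
      refine ⟨j, hj, ?_⟩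
      rcases h with ⟨hy, hW⟩ | ⟨hdd, hW⟩
      · obtain rfl := Nat.eq_of_beq_eq_true hy
        refine Or.inl ⟨W, hW, ?_⟩
        rw [hR _ _ _ _ hget, evW_cons, evW_cons]
        simp only [mul_assoc]
      · refine Or.inr ⟨List.contains_iff_mem.1 hdd, y :: W, hW, ?_⟩
        rw [hR _ _ _ _ hget, evW_cons]
    · exact absurd (of_decide_eq_true h) (by omega)
  have hκH : ∀ j, D.isGood j = true → (κ j : Γ) ∈ H := fun j hj => hZH _ (hgood j hj)
  -- each letter normalises `H`
  have hnorm : ∀ a, a < D.n → L a ∈ normalizer (H : Set Γ) := by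
    intro a ha
    by_cases had : a ∈ D.derived
    · exact le_normalizer (hHmem a had)
    have hinv : (L a)⁻¹ ∈ normalizer (H : Set Γ) := SchurSplit.mem_normalizer_of_forall fun x hx => by
      have hle : H ≤ H.comap (MulAut.conj (L a)⁻¹).toMonoidHom := by
        rw [hH, sup_le_iff, closure_le]
        refine ⟨?_, fun z hz => ?_⟩
        · rintro _ ⟨d, hd, rfl⟩
          show (L a)⁻¹ * L d * ((L a)⁻¹)⁻¹ ∈ H
          rw [inv_inv]
          have had' : a < d := by
            have h := List.all_eq_true.1 (List.all_eq_true.1 hlast d hd) a (List.mem_range.2 ha)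
            rw [Bool.or_eq_true] at h
            rcases h with h | h
            · exact absurd (List.contains_iff_mem.1 h) had
            · exact of_decide_eq_true h
          obtain ⟨j, hj, ⟨W, hW, e⟩ | ⟨-, W, hW, e⟩⟩ := hswap a ha d (hderived d hd) had'
          · rw [mul_assoc, e, show (L a)⁻¹ * (L a * L d * evW L W * (κ j : Γ)) =
              L d * evW L W * (κ j : Γ) by group]
            exact mul_mem (mul_mem (hHmem d hd) (hword W hW)) (hκH j hj)
          · rw [mul_assoc, e, show (L a)⁻¹ * (L a * evW L W * (κ j : Γ)) =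
              evW L W * (κ j : Γ) by group]
            exact mul_mem (hword W hW) (hκH j hj)
        · show (L a)⁻¹ * z * ((L a)⁻¹)⁻¹ ∈ H
          rw [mem_center_iff.1 (hZc hz) (L a)⁻¹, mul_inv_cancel_right]
          exact hZH z hz
      exact hle hx
    have := inv_mem hinv
    rwa [inv_inv] at this
  set W₀ := closure (L '' {a | a < D.n}) with hW₀
  have hW₀n : W₀ ≤ normalizer (H : Set Γ) := (closure_le _).2 fun x hx => by
    obtain ⟨a, ha, rfl⟩ := hx; exact hnorm a ha
  have hbase : ∀ a d, a < D.n → d < D.n → ⁅L a, L d⁆ ∈ H := by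
    have one : ∀ a d, a < D.n → d < D.n → a < d → ⁅L d, L a⁆ ∈ H := by
      intro a d ha hd had
      obtain ⟨j, hj, h'⟩ := hswap a ha d hd had
      rcases h' with ⟨W, hW, e⟩ | ⟨hdd, -⟩
      · have : ⁅L d, L a⁆ = (L a * L d) * (evW L W * (κ j : Γ)) * (L a * L d)⁻¹ := by
          rw [commutatorElement_def, e]; group
        rw [this]
        exact (mem_normalizer_iff.1 (mul_mem (hnorm a ha) (hnorm d hd)) _).1
          (mul_mem (hword W hW) (hκH j hj))
      · rw [commutatorElement_def, mul_assoc (L d), mul_assoc (L d)]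
        exact mul_mem (hHmem d hdd) ((mem_normalizer_iff.1 (hnorm a ha) _).1 (inv_mem (hHmem d hdd)))
    intro a d ha hd
    rcases lt_trichotomy a d with h | h | h
    · rw [← commutatorElement_inv]; exact inv_mem (one a d ha hd h)
    · subst h; rw [commutatorElement_self]; exact one_mem _
    · exact one d a hd ha h
  have hcommW : ∀ x ∈ W₀, ∀ y ∈ W₀, ⁅x, y⁆ ∈ H := by
    intro x hx y hy
    induction hx, hy using Subgroup.closure_induction₂ with
    | mem p q hp hq =>
      obtain ⟨a, ha, rfl⟩ := hp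
      obtain ⟨d, hd, rfl⟩ := hq
      exact hbase a d ha hd
    | one_left _ _ => simp
    | one_right _ _ => simp
    | mul_left u v w hu hv hw h1 h2 =>
      rw [show ⁅u * v, w⁆ = u * ⁅v, w⁆ * u⁻¹ * ⁅u, w⁆ by simp only [commutatorElement_def]; group]
      exact mul_mem ((mem_normalizer_iff.1 (hW₀n hu) _).1 h2) h1
    | mul_right v w u hv hw hu h1 h2 =>
      rw [show ⁅u, v * w⁆ = ⁅u, v⁆ * (v * ⁅u, w⁆ * v⁻¹) by simp only [commutatorElement_def]; group]
      exact mul_mem h1 ((mem_normalizer_iff.1 (hW₀n hv) _).1 h2)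
    | inv_left u w hu hw h =>
      rw [show ⁅u⁻¹, w⁆ = u⁻¹ * ⁅u, w⁆⁻¹ * u⁻¹⁻¹ by simp only [commutatorElement_def]; group]
      exact (mem_normalizer_iff.1 (hW₀n (inv_mem hu)) _).1 (inv_mem h)
    | inv_right u w hu hw h =>
      rw [show ⁅u, w⁻¹⁆ = w⁻¹ * ⁅u, w⁆⁻¹ * w⁻¹⁻¹ by simp only [commutatorElement_def]; group]
      exact (mem_normalizer_iff.1 (hW₀n (inv_mem hw)) _).1 (inv_mem h)
  -- the Sylow subgroup
  have himg : ∀ w : List ℕ, σ (evW L w) = evW (fun a => σ (L a)) w := fun w => by
    simp [evW, map_list_prod, Function.comp_def]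
  have hgens : {a | a ∈ List.range D.n} = {a | a < D.n} := by ext; simp
  have hallW : ∀ y ∈ W₀, ∃ w ∈ D.forms, σ y = evW (fun a => σ (L a)) w := by
    intro y hy
    have hK : σ.ker ≤ center Γ := hc
    obtain ⟨w, hw, z, hz, rfl⟩ := mem_forms hR hclosed σ.ker (fun j _ => hκ j) hK y
      (le_sup_left (b := σ.ker) (by rw [hgens]; exact hy))
    exact ⟨w, hw, by rw [map_mul, MonoidHom.mem_ker.1 hz, mul_one, himg]⟩
  have hlet : ∀ w ∈ D.forms, (∀ a ∈ w, a < D.n) → evW L w ∈ W₀ := fun w _ h =>
    list_prod_mem fun x hx => by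
      obtain ⟨a, ha, rfl⟩ := List.mem_map.1 hx
      exact subset_closure ⟨a, h a ha, rfl⟩
  have hQle : Nat.card (W₀.map σ) ≤ D.forms.length := by
    have : ∀ q : W₀.map σ, ∃ i : Fin D.forms.length, evW (fun a => σ (L a)) D.forms[i] = q := by
      rintro ⟨_, y, hy, rfl⟩
      obtain ⟨w, hw, e⟩ := hallW y hy
      obtain ⟨i, hi, rfl⟩ := List.mem_iff_getElem.1 hw
      exact ⟨⟨i, hi⟩, e.symm⟩
    choose f hf using this
    have := Nat.card_le_card_of_injective f fun p q h => Subtype.ext (by rw [← hf p, ← hf q, h])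
    simpa using this
  have hQge : D.forms.length ≤ Nat.card (W₀.map σ) := by
    have hmem : ∀ i : Fin D.forms.length, evW (fun a => σ (L a)) D.forms[i] ∈ W₀.map σ := fun i =>
      ⟨evW L D.forms[i], hlet _ (List.getElem_mem _) (fun a ha => of_decide_eq_true
        (List.all_eq_true.1 (List.all_eq_true.1 hflet _ (List.getElem_mem _)) a ha)), himg _⟩
    have := Nat.card_le_card_of_injective (fun i => (⟨_, hmem i⟩ : W₀.map σ)) fun i j e => Fin.ext (by
      have e' := congrArg Subtype.val e
      refine (hinj.getElem_inj_iff (hi := by simpa using i.2) (hj := by simpa using j.2)).1 ?_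
      rw [List.getElem_map, List.getElem_map]
      exact e')
    simpa using this
  let Q : Sylow p G := Sylow.ofCard (W₀.map σ) (by rw [hG, ← hlen]; omega)
  obtain ⟨P, hP⟩ := SchurBound.exists_sylow_map_eq σ hs Q
  have hleP : (P : Subgroup Γ) ≤ W₀ ⊔ σ.ker := by
    rw [← comap_map_eq, ← map_le_iff_le_comap]
    exact hP.le
  intro z hz j hj
  have hzP : z ∈ (P : Subgroup Γ) := SchurSylow.center_pElement_mem_sylow P (hc hz) hj
  obtain ⟨y, hy, hyz⟩ :=
    mem_map.1 (SchurSylow.center_inf_commutator_inf_sylow_le P (hc hz) (hd hz) hzP)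
  have hcomm' : _root_.commutator (P : Subgroup Γ) ≤ H.subgroupOf (P : Subgroup Γ) := by
    rw [_root_.commutator_def, commutator_le]
    intro p _ q _
    rw [mem_subgroupOf, ← Subgroup.coe_subtype, map_commutatorElement]
    simp only [Subgroup.coe_subtype]
    obtain ⟨p', hp', z1, hz1, ep⟩ := mem_sup_of_normal_right.1 (hleP p.2)
    obtain ⟨q', hq', z2, hz2, eq⟩ := mem_sup_of_normal_right.1 (hleP q.2)
    rw [← ep, ← eq, Schur.commutatorElement_mul_center (hc hz1) (hc hz2)]
    exact hcommW p' hp' q' hq'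
  have hzH : z ∈ H := by rw [← hyz]; exact mem_subgroupOf.1 (hcomm' hy)
  obtain ⟨w, hw, v, hv, rfl⟩ := mem_forms hR hdclosed Z hgood hZc z hzH
  have hv1 : σ v = 1 := hZker hv
  have hw1 : evW (fun a => σ (L a)) w = evW (fun a => σ (L a)) [] := by
    rw [← himg, evW_nil]
    have := MonoidHom.mem_ker.1 hz
    rwa [map_mul, hv1, mul_one] at this
  have : w = [] := List.inj_on_of_nodup_map hinj (hsub w hw) hdnil.1 hw1
  subst this
  rwa [evW_nil, one_mul]

/-- The case of the prime two. -/
theorem two_part_core [Finite Γ] (hs : Function.Surjective σ) (hc : σ.ker ≤ center Γ)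
    (hd : σ.ker ≤ _root_.commutator Γ) (D : TailData) {L : ℕ → Γ} {κ : ℕ → center Γ}
    (hR : Holds D.rules L κ) (hκ : ∀ j, σ (κ j : Γ) = 1)
    (hforms : D.checkForms = true)
    (hderived : ∀ d ∈ D.derived, d < D.n) (hdnil : [] ∈ D.forms ∧ [] ∈ D.dforms)
    (hinj : (D.forms.map fun w => evW (fun a => σ (L a)) w).Nodup)
    (hsub : ∀ w ∈ D.dforms, w ∈ D.forms)
    {m : ℕ} (hlen : D.forms.length = 2 ^ m) (hG : (Nat.card G).factorization 2 = m)
    (Z : Subgroup Γ) (hZc : Z ≤ center Γ) (hgood : ∀ j, D.isGood j = true → (κ j : Γ) ∈ Z)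
    (hZker : Z ≤ σ.ker) :
    ∀ z ∈ σ.ker, ∀ j : ℕ, z ^ 2 ^ j = 1 → z ∈ Z :=
  p_part_core hs hc hd D hR hκ hforms hderived hdnil hinj hsub hlen hG Z hZc hgood hZker

/-- The certificate bounds the 2-part. -/
theorem two_part [Finite Γ] (hs : Function.Surjective σ) (hc : σ.ker ≤ center Γ)
    (hd : σ.ker ≤ _root_.commutator Γ) (D : TailData) {L : ℕ → Γ} {κ : ℕ → center Γ}
    (hR : Holds D.rules L κ) (hC : ConjHolds D.rules D.conjs L κ) (hκ : ∀ j, σ (κ j : Γ) = 1)
    (hdef : ∀ d ∈ D.defs, L d.1 = ⁅L d.2.1, L d.2.2⁆)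
    (hlin : D.checkLin = true) (hforms : D.checkForms = true)
    (hderived : ∀ d ∈ D.derived, d < D.n) (hdnil : [] ∈ D.forms ∧ [] ∈ D.dforms)
    (hinj : (D.forms.map fun w => evW (fun a => σ (L a)) w).Nodup)
    (hsub : ∀ w ∈ D.dforms, w ∈ D.forms)
    {m : ℕ} (hlen : D.forms.length = 2 ^ m) (hG : (Nat.card G).factorization 2 = m) :
    ((κ D.k : Γ) ^ 4 = 1) ∧
      ∀ z ∈ σ.ker, ∀ j : ℕ, z ^ 2 ^ j = 1 → z ∈ zpowers (κ D.k : Γ) := by
  have : Finite G := Finite.of_surjective σ hs
  have : Fact (Nat.Prime 2) := ⟨Nat.prime_two⟩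
  simp only [TailData.checkLin, Bool.and_eq_true, List.all_eq_true, decide_eq_true_eq] at hlin
  obtain ⟨hsome, hbound, htar, hkN, hfour⟩ := hlin
  have hDefs : ∀ d ∈ D.defEqs, evW L d.1 = evW L d.2 := by
    intro d hd
    obtain ⟨⟨k, a, b⟩, he, rfl⟩ := List.mem_map.1 hd
    simp only [evW_cons, evW_nil, mul_one]
    rw [hdef _ he, commutatorElement_def]
    group
  have heq : ∀ e ∈ D.eqs, evK κ e.1 = evK κ e.2 := by
    intro e he
    obtain ⟨s, hsm, rfl⟩ := List.mem_map.1 he
    obtain ⟨e', he'⟩ := Option.isSome_iff_exists.1 (hsome s hsm)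
    rw [he', Option.getD_some]
    exact equation_spec hR hC hDefs he'
  have hb : ∀ e ∈ D.eqs, ∀ a ∈ e.1 ++ e.2, a < D.N := fun e he a ha => hbound e he a ha
  set Z := zpowers (κ D.k : Γ) with hZ
  have hZc : Z ≤ center Γ := zpowers_le.2 (κ D.k).2
  have hgood : ∀ j, D.isGood j = true → (κ j : Γ) ∈ Z := by
    intro j hj
    obtain ⟨t, ht, hb'⟩ := List.any_eq_true.1 hj
    obtain rfl := Nat.eq_of_beq_eq_true hb'
    rw [eq_zpow_of_comb hb heq (htar t ht), Subgroup.coe_zpow]
    exact zpow_mem (mem_zpowers _) _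
  have h4 : (κ D.k : Γ) ^ 4 = 1 := by
    have h1 := φ_comb (κ := κ) D.N D.eqs hb heq D.four
    have h2 : φ κ D.N (combVec D.eqs D.four) =
        φ κ D.N (fun j => 4 * if j = D.k then 1 else 0) :=
      Finset.prod_congr rfl fun j hj => by
        rw [hfour j (List.mem_range.2 (Finset.mem_range.1 hj))]
        congr 1
        split <;> simp [*]
    rw [h2, φ_smul, φ_single D.N D.k hkN] at h1
    have := congrArg Subtype.val h1
    rw [Subgroup.coe_zpow, show (4 : ℤ) = (4 : ℕ) from rfl, zpow_natCast] at this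
    exact this
  exact ⟨h4, two_part_core hs hc hd D hR hκ hforms hderived hdnil hinj hsub hlen hG Z hZc hgood
    (zpowers_le.2 (MonoidHom.mem_ker.2 (hκ D.k)))⟩

end CfsgLib.SchurTail
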