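import Cfsg.Agent.Lib.Schur.TailBound
import Cfsg.Agent.Lib.Schur.CodedCert
import Cfsg.Agent.Lib.Schur.Corestriction

/-!
A certificate that the 2-part of the kernel of a stem extension is generated by two tails of order
dividing 4, and its use for a group of coded permutations.
-/

set_option autoImplicit false

namespace CfsgLib.SchurTail

open Subgroup
open scoped commutatorElement

/-- A certificate with two distinguished tails. -/
structure TailDataTwo where
  /-- The number of letters. -/
  n : ℕ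
  /-- The letters of the derived subgroup. -/
  derived : List ℕ
  /-- The derived letters as commutators. -/
  defs : List (ℕ × ℕ × ℕ)
  /-- The rules. -/
  rules : Rules
  /-- The conjugations. -/
  conjs : Conjs
  /-- The sources of equations. -/
  srcs : List Src
  /-- The first tail. -/
  k : ℕ
  /-- The second tail. -/
  k' : ℕ
  /-- Combinations expressing tails through the two. -/
  targets : List (ℕ × (ℤ × ℤ) × List (ℕ × ℤ))
  /-- The combination killing four times the first tail. -/
  four : List (ℕ × ℤ)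
  /-- The combination killing four times the second tail. -/
  four' : List (ℕ × ℤ)
  /-- Normal forms of the Sylow subgroup. -/
  forms : List (List ℕ)
  /-- Normal forms of the derived subgroup. -/
  dforms : List (List ℕ)

/-- The certificate with the distinguished tails forgotten. -/
def TailDataTwo.toOne (D : TailDataTwo) : TailData where
  n := D.n
  derived := D.derived
  defs := D.defs
  rules := D.rules
  conjs := D.conjs
  srcs := D.srcs
  k := D.k
  targets := D.targets.map fun t => (t.1, 0, [])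
  four := D.four
  forms := D.forms
  dforms := D.dforms

/-- The check of a combination. -/
def combCheckTwo (N : ℕ) (eqs : List (List ℕ × List ℕ)) (t k k' : ℕ) (m : ℤ × ℤ)
    (cs : List (ℕ × ℤ)) : Bool :=
  decide (t < N) && (List.range N).all fun j => decide (combVec eqs cs j =
    (if j = t then 1 else 0) + ((-m.1) * (if j = k then 1 else 0) + (-m.2) * (if j = k' then 1 else 0)))

/-- The check of the linear algebra. -/
def TailDataTwo.checkLin (D : TailDataTwo) : Bool :=
  (D.srcs.all fun s => (equation D.rules D.conjs D.toOne.defEqs fuel s).isSome) &&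
  ((D.toOne.eqs.all fun e => (e.1 ++ e.2).all fun a => decide (a < D.toOne.N)) &&
  ((D.targets.all fun t => combCheckTwo D.toOne.N D.toOne.eqs t.1 D.k D.k' t.2.1 t.2.2) &&
  (decide (D.k < D.toOne.N) && (decide (D.k' < D.toOne.N) &&
  (((List.range D.toOne.N).all fun j =>
    decide (combVec D.toOne.eqs D.four j = if j = D.k then 4 else 0)) &&
  ((List.range D.toOne.N).all fun j =>
    decide (combVec D.toOne.eqs D.four' j = if j = D.k' then 4 else 0)))))))

variable {Γ G : Type*} [Group Γ] [Group G] {σ : Γ →* G}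

/-- The certificate bounds the 2-part. -/
theorem two_part_two [Finite Γ] (hs : Function.Surjective σ) (hc : σ.ker ≤ center Γ)
    (hd : σ.ker ≤ _root_.commutator Γ) (D : TailDataTwo) {L : ℕ → Γ} {κ : ℕ → center Γ}
    (hR : Holds D.rules L κ) (hC : ConjHolds D.rules D.conjs L κ) (hκ : ∀ j, σ (κ j : Γ) = 1)
    (hdef : ∀ d ∈ D.defs, L d.1 = ⁅L d.2.1, L d.2.2⁆)
    (hlin : D.checkLin = true) (hforms : D.toOne.checkForms = true)
    (hderived : ∀ d ∈ D.derived, d < D.n) (hdnil : [] ∈ D.forms ∧ [] ∈ D.dforms)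
    (hinj : (D.forms.map fun w => evW (fun a => σ (L a)) w).Nodup)
    (hsub : ∀ w ∈ D.dforms, w ∈ D.forms)
    {m : ℕ} (hlen : D.forms.length = 2 ^ m) (hG : (Nat.card G).factorization 2 = m) :
    ((κ D.k : Γ) ^ 4 = 1) ∧ ((κ D.k' : Γ) ^ 4 = 1) ∧
      ∀ z ∈ σ.ker, ∀ j : ℕ, z ^ 2 ^ j = 1 →
        ∃ a b : ℤ, z = (κ D.k : Γ) ^ a * (κ D.k' : Γ) ^ b := by
  simp only [TailDataTwo.checkLin, Bool.and_eq_true, List.all_eq_true, decide_eq_true_eq] at hlin
  obtain ⟨hsome, hbound, htar, hkN, hkN', hfour, hfour'⟩ := hlin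
  have hDefs : ∀ d ∈ D.toOne.defEqs, evW L d.1 = evW L d.2 := by
    intro d hd
    obtain ⟨⟨k, a, b⟩, he, rfl⟩ := List.mem_map.1 hd
    simp only [evW_cons, evW_nil, mul_one]
    rw [hdef _ he, commutatorElement_def]
    group
  have heq : ∀ e ∈ D.toOne.eqs, evK κ e.1 = evK κ e.2 := by
    intro e he
    obtain ⟨s, hsm, rfl⟩ := List.mem_map.1 he
    obtain ⟨e', he'⟩ := Option.isSome_iff_exists.1 (hsome s hsm)
    show evK κ ((equation D.rules D.conjs D.toOne.defEqs fuel s).getD ([], [])).1 =
      evK κ ((equation D.rules D.conjs D.toOne.defEqs fuel s).getD ([], [])).2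
    rw [he', Option.getD_some]
    exact equation_spec hR hC hDefs he'
  have hb : ∀ e ∈ D.toOne.eqs, ∀ a ∈ e.1 ++ e.2, a < D.toOne.N := fun e he a ha => hbound e he a ha
  have h4 : ∀ (q : ℕ) (cs : List (ℕ × ℤ)), q < D.toOne.N →
      (∀ j ∈ List.range D.toOne.N, combVec D.toOne.eqs cs j = if j = q then 4 else 0) →
      (κ q : Γ) ^ 4 = 1 := by
    intro q cs hq h
    have h1 := φ_comb (κ := κ) D.toOne.N D.toOne.eqs hb heq cs
    have h2 : φ κ D.toOne.N (combVec D.toOne.eqs cs) =
        φ κ D.toOne.N (fun j => 4 * if j = q then 1 else 0) :=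
      Finset.prod_congr rfl fun j hj => by
        rw [h j (List.mem_range.2 (Finset.mem_range.1 hj))]
        congr 1
        split <;> simp [*]
    rw [h2, φ_smul, φ_single D.toOne.N q hq] at h1
    have := congrArg Subtype.val h1
    rw [Subgroup.coe_zpow, show (4 : ℤ) = (4 : ℕ) from rfl, zpow_natCast] at this
    exact this
  refine ⟨h4 _ _ hkN hfour, h4 _ _ hkN' hfour', ?_⟩
  set Z := closure ({(κ D.k : Γ), (κ D.k' : Γ)} : Set Γ) with hZ
  have hZc : Z ≤ center Γ := (closure_le _).2 (by
    rintro x (rfl | rfl)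
    exacts [(κ D.k).2, (κ D.k').2])
  have hZker : Z ≤ σ.ker := (closure_le _).2 (by
    rintro x (rfl | rfl)
    exacts [hκ D.k, hκ D.k'])
  have hgood : ∀ j, D.toOne.isGood j = true → (κ j : Γ) ∈ Z := by
    intro j hj
    obtain ⟨t', ht', hb'⟩ := List.any_eq_true.1 hj
    obtain ⟨t, ht, rfl⟩ := List.mem_map.1 ht'
    obtain rfl := Nat.eq_of_beq_eq_true hb'
    have hcheck := htar t ht
    simp only [combCheckTwo, Bool.and_eq_true, decide_eq_true_eq, List.all_eq_true,
      List.mem_range] at hcheck
    obtain ⟨htN, hv⟩ := hcheck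
    have h1 := φ_comb (κ := κ) D.toOne.N D.toOne.eqs hb heq t.2.2
    have h2 : φ κ D.toOne.N (combVec D.toOne.eqs t.2.2) = φ κ D.toOne.N (fun j =>
        (if j = t.1 then (1 : ℤ) else 0) + ((-t.2.1.1) * (if j = D.k then 1 else 0) +
          (-t.2.1.2) * (if j = D.k' then 1 else 0))) :=
      Finset.prod_congr rfl fun j hj => by rw [hv j (Finset.mem_range.1 hj)]
    rw [h2, φ_add, φ_add, φ_smul, φ_smul, φ_single _ _ htN, φ_single _ _ hkN, φ_single _ _ hkN',
      mul_eq_one_iff_eq_inv] at h1
    show (κ t.1 : Γ) ∈ Z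
    rw [h1, Subgroup.coe_inv, Subgroup.coe_mul, Subgroup.coe_zpow, Subgroup.coe_zpow]
    exact inv_mem (mul_mem (zpow_mem (subset_closure (by simp)) _)
      (zpow_mem (subset_closure (by simp)) _))
  intro z hz j hj
  have hzZ : z ∈ Z := two_part_core hs hc hd D.toOne hR hκ hforms hderived hdnil hinj hsub hlen hG
    Z hZc hgood hZker z hz j hj
  exact SchurCor.exists_zpow_mul_zpow (mem_center_iff.1 (κ D.k).2 _).symm hzZ

/-! ### Coded permutations -/

open CfsgLib.SchurCoded CfsgLib.M24Elt Cfsg

/-- The check of the relations between the coded letters and conjugators. -/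
noncomputable def relCheckTwo (τ : Test) (D : TailDataTwo) (ls gs : List ℕ) : Bool :=
  (D.rules.all fun r =>
    eqw τ [ls.getD r.1 0, ls.getD r.2.1 0] (r.2.2.map fun i => ls.getD i 0)) &&
  ((D.conjs.all fun c => eqw τ (gs.getD c.1 0 :: c.2.1.map fun i => ls.getD i 0)
    ((c.2.2.map fun i => ls.getD i 0) ++ [gs.getD c.1 0])) &&
  ((D.defs.all fun d => eqw τ [ls.getD d.2.1 0, ls.getD d.2.2 0]
    [ls.getD d.1 0, ls.getD d.2.2 0, ls.getD d.2.1 0]) &&
  ((D.forms.all fun w => (w.map fun i => ls.getD i 0).all τ.ok) &&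
  (incr (D.forms.map fun w => prodc (w.map fun i => ls.getD i 0)) &&
  ((D.defs.all fun d => D.defs.all fun d' =>
    (!Nat.beq d.1 d'.1 || decide (d = d')) && (!Nat.beq d.2.1 d'.1 && !Nat.beq d.2.2 d'.1)) &&
  ((D.derived.all fun d => decide (d < D.n)) && (D.forms.contains [] && (D.dforms.contains [] &&
  D.dforms.all fun w => D.forms.contains w))))))))

theorem two_part_coded {τ : Test} {Γ : Type*} [Group Γ] [Finite Γ] (σ : Γ →* τ.S)
    (hs : Function.Surjective σ) (hc : σ.ker ≤ center Γ) (hd : σ.ker ≤ _root_.commutator Γ)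
    (D : TailDataTwo) {ls gs : List ℕ} (hrel : relCheckTwo τ D ls gs = true)
    (hlin : D.checkLin = true) (hforms : D.toOne.checkForms = true)
    {m : ℕ} (hlen : D.forms.length = 2 ^ m) (hG : (Nat.card τ.S).factorization 2 = m) :
    ∃ z₀ z₁ : Γ, z₀ ^ 4 = 1 ∧ z₁ ^ 4 = 1 ∧ z₀ ∈ σ.ker ∧ z₁ ∈ σ.ker ∧
      ∀ z ∈ σ.ker, ∀ j : ℕ, z ^ 2 ^ j = 1 → ∃ a b : ℤ, z = z₀ ^ a * z₁ ^ b := by
  classical
  simp only [relCheckTwo, Bool.and_eq_true, List.all_eq_true, List.contains_iff_mem,
    decide_eq_true_eq] at hrel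
  obtain ⟨hrules, hconj, hdefs, hok, hincr, huniq, hder, hnil, hnil', hsub⟩ := hrel
  choose lift hlift using fun c : ℕ => hs (el τ c)
  let lc : ℕ → ℕ := fun i => ls.getD i 0
  let gc : ℕ → ℕ := fun i => gs.getD i 0
  let L : ℕ → Γ := fun i => match D.defs.find? (fun d => Nat.beq d.1 i) with
    | some d => ⁅lift (lc d.2.1), lift (lc d.2.2)⁆
    | none => lift (lc i)
  have hfind : ∀ d ∈ D.defs, D.defs.find? (fun d' => Nat.beq d'.1 d.1) = some d := by
    intro d hd
    cases h : D.defs.find? (fun d' => Nat.beq d'.1 d.1) with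
    | none => simpa using List.find?_eq_none.1 h d hd
    | some d' =>
      have hm := List.mem_of_find?_eq_some h
      have hb : Nat.beq d'.1 d.1 = true := List.find?_some (p := fun d' : ℕ × ℕ × ℕ => Nat.beq d'.1 d.1) h
      have := (huniq d' hm d hd).1
      simp only [hb, Bool.not_true, Bool.false_or, decide_eq_true_eq] at this
      rw [this]
  have hplain : ∀ i, (∀ d ∈ D.defs, d.1 ≠ i) → L i = lift (lc i) := by
    intro i hi
    simp only [L]
    rw [List.find?_eq_none.2 fun d hd h => hi d hd (Nat.eq_of_beq_eq_true h)]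
  have hdefL : ∀ d ∈ D.defs, L d.1 = ⁅L d.2.1, L d.2.2⁆ := by
    intro d hd
    have hno : ∀ d' ∈ D.defs, d'.1 ≠ d.2.1 ∧ d'.1 ≠ d.2.2 := fun d' hd' => by
      have h := (huniq d hd d' hd').2
      simp only [Bool.not_eq_true'] at h
      exact ⟨fun e => by simp [e] at h, fun e => by simp [e] at h⟩
    rw [hplain d.2.1 fun d' h => (hno d' h).1, hplain d.2.2 fun d' h => (hno d' h).2]
    simp only [L]
    rw [hfind d hd]
  have hσL : ∀ i, σ (L i) = el τ (lc i) := by
    intro i
    simp only [L]
    split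
    · next d hd =>
      have hm := List.mem_of_find?_eq_some hd
      obtain rfl := Nat.eq_of_beq_eq_true (List.find?_some (p := fun d : ℕ × ℕ × ℕ => Nat.beq d.1 i) hd)
      have e := eqw_spec (hdefs d hm)
      simp only [elw, List.map_cons, List.map_nil, List.prod_cons, List.prod_nil, mul_one] at e
      rw [map_commutatorElement, hlift, hlift, commutatorElement_def]
      simp only [lc]
      rw [e]
      group
    · exact hlift _
  have hσW : ∀ w : List ℕ, σ (evW L w) = elw τ (w.map lc) := fun w => by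
    simp [evW, elw, map_list_prod, hσL, Function.comp_def]
  let κf : ℕ → Γ := fun k =>
    if k < D.rules.length then
      (evW L (D.rules.getD k (0, 0, [])).2.2)⁻¹ *
        (L (D.rules.getD k (0, 0, [])).1 * L (D.rules.getD k (0, 0, [])).2.1)
    else if k - D.rules.length < D.conjs.length then
      (evW L (D.conjs.getD (k - D.rules.length) (0, [], [])).2.2)⁻¹ *
        (lift (gc (D.conjs.getD (k - D.rules.length) (0, [], [])).1) *
          evW L (D.conjs.getD (k - D.rules.length) (0, [], [])).2.1 *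
          (lift (gc (D.conjs.getD (k - D.rules.length) (0, [], [])).1))⁻¹)
    else 1
  have hκ : ∀ k, σ (κf k) = 1 := by
    intro k
    simp only [κf]
    split_ifs with h1 h2
    · have hmem : D.rules.getD k (0, 0, []) ∈ D.rules := by
        rw [List.getD_eq_getElem _ _ h1]; exact List.getElem_mem _
      have e : elw τ [lc (D.rules.getD k (0, 0, [])).1, lc (D.rules.getD k (0, 0, [])).2.1] =
          elw τ ((D.rules.getD k (0, 0, [])).2.2.map lc) := eqw_spec (hrules _ hmem)
      simp only [map_mul, map_inv, hσL, hσW]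
      rw [← e]
      simp [elw]
    · set c := D.conjs.getD (k - D.rules.length) (0, [], []) with hcdef
      have hmem : c ∈ D.conjs := by
        rw [hcdef, List.getD_eq_getElem _ _ h2]; exact List.getElem_mem _
      have e : elw τ (gc c.1 :: c.2.1.map lc) = elw τ (c.2.2.map lc ++ [gc c.1]) :=
        eqw_spec (hconj _ hmem)
      simp only [map_mul, map_inv, hσW, hlift]
      have e' : el τ (gc c.1) * elw τ (c.2.1.map lc) = elw τ (c.2.2.map lc) * el τ (gc c.1) := by
        simpa [elw] using e
      rw [e', mul_inv_cancel_right, inv_mul_cancel]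
    · exact map_one σ
  let κ : ℕ → center Γ := fun k => ⟨κf k, hc (hκ k)⟩
  have hR : Holds D.rules L κ := by
    intro k a b W hk
    obtain ⟨hk', e⟩ := List.getElem?_eq_some_iff.1 hk
    show L a * L b = evW L W * κf k
    simp only [κf, hk', if_true, List.getD_eq_getElem _ _ hk', e]
    rw [mul_inv_cancel_left]
  have hC : ConjHolds D.rules D.conjs L κ := by
    refine ⟨fun c => lift (gc c), fun p c U W hp => ?_⟩
    obtain ⟨hp', e⟩ := List.getElem?_eq_some_iff.1 hp
    show lift (gc c) * evW L U * (lift (gc c))⁻¹ = evW L W * κf (D.rules.length + p)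
    have h1 : ¬ D.rules.length + p < D.rules.length := by omega
    simp only [κf, h1, if_false, Nat.add_sub_cancel_left, hp', if_true,
      List.getD_eq_getElem _ _ hp', e]
    rw [mul_inv_cancel_left]
  have hinj : (D.forms.map fun w => evW (fun a => σ (L a)) w).Nodup := by
    have heq : ∀ w : List ℕ, evW (fun a => σ (L a)) w = elw τ (w.map lc) := fun w => by
      simp [evW, elw, hσL, Function.comp_def]
    have hnd : (D.forms.map fun w => prodc (w.map lc)).Nodup :=
      (incr_pairwise hincr).imp fun h => Nat.ne_of_lt h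
    rw [List.Nodup, List.pairwise_map] at hnd ⊢
    refine List.Pairwise.imp_of_mem (fun {v w} hv hw hne e => hne ?_) hnd
    rw [heq, heq] at e
    exact prodc_inj (List.all_eq_true.2 (hok v hv)) (List.all_eq_true.2 (hok w hw)) e
  obtain ⟨h4, h4', h⟩ := two_part_two hs hc hd D hR hC hκ hdefL hlin hforms hder ⟨hnil, hnil'⟩
    hinj hsub hlen hG
  exact ⟨_, _, h4, h4', hκ _, hκ _, h⟩

end CfsgLib.SchurTail
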