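import Cfsg.Agent.Lib.Schur.TailBound

/-!
Faster checks of tail certificates: linear combinations are evaluated on integers packed in a large
base, and membership in the list of normal forms is looked up in a table.
-/

set_option autoImplicit false

namespace CfsgLib.SchurTail

/-! ### Packed vectors -/

/-- The base. -/
def base : ℤ := 2 ^ 80

/-- Vectors with small entries and packed value zero vanish. -/
theorem eq_zero_of_packed : ∀ (N : ℕ) (w : ℕ → ℤ), (∀ j, j < N → |w j| < base) →
    ∑ j ∈ Finset.range N, w j * base ^ j = 0 → ∀ j, j < N → w j = 0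
  | 0, _, _, _ => fun j hj => absurd hj (by omega)
  | N + 1, w, hw, h => by
    rw [Finset.sum_range_succ'] at h
    have hsum : ∑ j ∈ Finset.range N, w (j + 1) * base ^ (j + 1) =
        base * ∑ j ∈ Finset.range N, w (j + 1) * base ^ j := by
      rw [Finset.mul_sum]
      exact Finset.sum_congr rfl fun j _ => by ring
    rw [hsum, pow_zero, mul_one] at h
    have h0 : w 0 = 0 := Int.eq_zero_of_abs_lt_dvd
      ⟨-(∑ j ∈ Finset.range N, w (j + 1) * base ^ j), by linear_combination h⟩ (hw 0 (by omega))
    rw [h0, add_zero] at h
    have hne : base ≠ 0 := by norm_num [base]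
    have ih := eq_zero_of_packed N (fun j => w (j + 1)) (fun j hj => hw (j + 1) (by omega))
      ((mul_eq_zero.1 h).resolve_left hne)
    intro j hj
    rcases j with _ | j
    · exact h0
    · exact ih j (by omega)

/-- The packed value of a list of tails. -/
def packList : List ℕ → ℤ
  | [] => 0
  | a :: l => base ^ a + packList l

theorem packList_eq (N : ℕ) : ∀ l : List ℕ, (∀ a ∈ l, a < N) →
    packList l = ∑ j ∈ Finset.range N, (l.count j : ℤ) * base ^ j
  | [], _ => by simp [packList]
  | a :: l, h => by
    rw [packList, packList_eq N l fun b hb => h b (List.mem_cons_of_mem _ hb)]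
    have ha : a < N := h a (List.mem_cons_self ..)
    have : ∑ j ∈ Finset.range N, (if j = a then base ^ j else 0) = base ^ a := by
      rw [Finset.sum_ite_eq' (Finset.range N) a fun j => base ^ j,
        if_pos (Finset.mem_range.2 ha)]
    rw [← this, ← Finset.sum_add_distrib]
    refine Finset.sum_congr rfl fun j _ => ?_
    by_cases hj : j = a
    · subst hj
      rw [if_pos rfl, List.count_cons_self]; push_cast; ring
    · rw [if_neg hj, List.count_cons_of_ne (fun e => hj e.symm), zero_add]

/-- The packed value of a combination. -/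
def packComb (E : List (List ℕ × List ℕ)) : List (ℕ × ℤ) → ℤ
  | [] => 0
  | c :: cs => c.2 * (packList (E.getD c.1 ([], [])).1 - packList (E.getD c.1 ([], [])).2) + packComb E cs

/-- A bound for the entries of a combination. -/
def weight : List (ℕ × ℤ) → ℕ
  | [] => 0
  | c :: cs => c.2.natAbs + weight cs

theorem combVec_spec (E : List (List ℕ × List ℕ)) (N M : ℕ)
    (hb : ∀ e ∈ E, ∀ a ∈ e.1 ++ e.2, a < N) (hM : ∀ e ∈ E, e.1.length + e.2.length ≤ M) :
    ∀ cs : List (ℕ × ℤ), packComb E cs = ∑ j ∈ Finset.range N, combVec E cs j * base ^ j ∧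
      ∀ j, |combVec E cs j| ≤ (weight cs * M : ℕ)
  | [] => by simp [packComb, combVec, weight]
  | c :: cs => by
    obtain ⟨ih1, ih2⟩ := combVec_spec E N M hb hM cs
    have hmem : E.getD c.1 ([], []) = ([], []) ∨ E.getD c.1 ([], []) ∈ E := by
      by_cases h : c.1 < E.length
      · rw [List.getD_eq_getElem _ _ h]; exact Or.inr (List.getElem_mem _)
      · exact Or.inl (List.getD_eq_default _ _ (Nat.le_of_not_lt h))
    have hlt : ∀ a ∈ (E.getD c.1 ([], [])).1 ++ (E.getD c.1 ([], [])).2, a < N := by
      rcases hmem with h | h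
      · rw [h]; simp
      · exact hb _ h
    have hlen : (E.getD c.1 ([], [])).1.length + (E.getD c.1 ([], [])).2.length ≤ M := by
      rcases hmem with h | h
      · rw [h]; simp
      · exact hM _ h
    refine ⟨?_, fun j => ?_⟩
    · rw [packComb, ih1, packList_eq N _ fun a ha => hlt a (List.mem_append_left _ ha),
        packList_eq N _ fun a ha => hlt a (List.mem_append_right _ ha), ← Finset.sum_sub_distrib,
        Finset.mul_sum, ← Finset.sum_add_distrib]
      exact Finset.sum_congr rfl fun j _ => by rw [combVec]; ring
    · rw [combVec]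
      refine (abs_add_le _ _).trans ?_
      rw [weight, Nat.add_mul, Nat.cast_add, abs_mul]
      refine add_le_add ?_ (ih2 j)
      rw [Nat.cast_mul, Int.natCast_natAbs]
      refine mul_le_mul_of_nonneg_left ?_ (abs_nonneg _)
      have h1 : (E.getD c.1 ([], [])).1.count j ≤ (E.getD c.1 ([], [])).1.length := List.count_le_length
      have h2 : (E.getD c.1 ([], [])).2.count j ≤ (E.getD c.1 ([], [])).2.length := List.count_le_length
      rw [abs_le]
      constructor <;> omega

/-- The check that the equations are the listed ones and that the combinations single out the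
tails, with `M` bounding the length of the equations. -/
def TailData.packedCheck (D : TailData) (E : List (List ℕ × List ℕ)) (M : ℕ) : Bool :=
  decide (D.srcs.map (fun s => equation D.rules D.conjs D.defEqs fuel s) = E.map some) &&
  ((E.all fun e => Nat.ble (e.1.length + e.2.length) M &&
    (e.1 ++ e.2).all fun a => Nat.blt a D.N) &&
  D.targets.all fun t => Nat.blt t.1 D.N && (Nat.blt (weight t.2.2 * M + 1) (2 ^ 79) &&
    decide (packComb E t.2.2 = base ^ t.1)))

variable {Γ : Type*} [Group Γ] {L : ℕ → Γ} {κ : ℕ → Subgroup.center Γ}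

/-- In a checked certificate the good tails are trivial. -/
theorem eq_one_of_packed {D : TailData} {E : List (List ℕ × List ℕ)} {M : ℕ}
    (h : D.packedCheck E M = true) (hR : Holds D.rules L κ) (hC : ConjHolds D.rules D.conjs L κ)
    (hD : ∀ d ∈ D.defEqs, evW L d.1 = evW L d.2) {t : ℕ} (ht : D.isGood t = true) : κ t = 1 := by
  simp only [TailData.packedCheck, Bool.and_eq_true, List.all_eq_true, decide_eq_true_eq,
    Nat.blt_eq, Nat.ble_eq] at h
  obtain ⟨hE, hEb, htar⟩ := h
  have heq : ∀ e ∈ E, evK κ e.1 = evK κ e.2 := by
    intro e he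
    have : some e ∈ D.srcs.map (fun s => equation D.rules D.conjs D.defEqs fuel s) := by
      rw [hE]; exact List.mem_map.2 ⟨e, he, rfl⟩
    obtain ⟨s, -, hs⟩ := List.mem_map.1 this
    exact equation_spec hR hC hD hs
  obtain ⟨tt, htt, e⟩ := List.any_eq_true.1 ht
  obtain ⟨hlt, hw, hpack⟩ := htar tt htt
  obtain rfl := Nat.eq_of_beq_eq_true e
  obtain ⟨hsum, habs⟩ := combVec_spec E D.N M (fun e he a ha => (hEb e he).2 a ha)
    (fun e he => (hEb e he).1) tt.2.2
  have hvec : ∀ j, j < D.N → combVec E tt.2.2 j = if j = tt.1 then 1 else 0 := by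
    intro j hj
    refine sub_eq_zero.1 (eq_zero_of_packed D.N
      (fun j => combVec E tt.2.2 j - if j = tt.1 then 1 else 0) (fun j _ => ?_) ?_ j hj)
    · refine lt_of_le_of_lt ((abs_sub _ _).trans (add_le_add (habs j) (?_ : |(_ : ℤ)| ≤ ((1 : ℕ) : ℤ)))) ?_
      · split <;> simp
      · rw [← Nat.cast_add]
        refine lt_trans (Int.ofNat_lt.2 hw) ?_
        norm_num [base]
    · simp only [sub_mul, Finset.sum_sub_distrib, ← hsum, hpack, ite_mul, one_mul, zero_mul,
        Finset.sum_ite_eq', Finset.mem_range, hlt, if_true, sub_self]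
  have h1 := φ_comb (κ := κ) D.N E (fun e he a ha => (hEb e he).2 a ha) heq tt.2.2
  rwa [φ, Finset.prod_congr rfl (fun j hj => by rw [hvec j (Finset.mem_range.1 hj)]), ← φ,
    φ_single D.N tt.1 hlt] at h1

/-! ### Tables of forms -/

/-- A lookup tree. -/
inductive Table (α : Type) : Type
  | leaf : α → Table α
  | node : ℕ → Table α → Table α → Table α

/-- Lookup. -/
def Table.get {α : Type} : Table α → ℕ → α
  | .leaf a, _ => a
  | .node k l r, i => bif Nat.blt i k then l.get i else r.get i

/-- Equality of lists of numbers. -/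
def eqList : List ℕ → List ℕ → Bool
  | [], [] => true
  | a :: v, b :: w => Nat.beq a b && eqList v w
  | _, _ => false

theorem eqList_eq : ∀ {v w : List ℕ}, eqList v w = true → v = w
  | [], [], _ => rfl
  | [], _ :: _, h => by simp [eqList] at h
  | _ :: _, [], h => by simp [eqList] at h
  | a :: v, b :: w, h => by
    rw [eqList, Bool.and_eq_true] at h
    rw [Nat.eq_of_beq_eq_true h.1, eqList_eq h.2]

/-- The code of a word from the weights of its letters. -/
def wordCode (wt : List ℕ) : List ℕ → ℕ
  | [] => 0
  | a :: w => wt.getD a 0 + wordCode wt w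

/-- Membership by lookup. -/
def memForm (T : Table (List ℕ)) (P : Table ℕ) (wt : List ℕ) (len : ℕ) (w : List ℕ) : Bool :=
  Nat.blt (P.get (wordCode wt w)) len && eqList (T.get (P.get (wordCode wt w))) w

/-- The check of the forms by lookup. -/
def TailData.checkFormsFast (D : TailData) (T : Table (List ℕ)) (P : Table ℕ) (wt : List ℕ) : Bool :=
  decide (D.forms = (List.range D.forms.length).map T.get) &&
  ((D.forms.contains [] && D.forms.all fun w => (List.range D.n).all fun a =>
    memForm T P wt D.forms.length (coll D.rules fuel (w ++ [a])).1) &&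
  (closedCheck D.rules fuel D.dforms D.derived D.isGood &&
  (D.dforms.all (fun w => w.all fun a => D.derived.contains a) &&
  ((D.forms.all fun w => w.all fun a => decide (a < D.n)) &&
  ((D.derived.all fun d => (List.range D.n).all fun a => D.derived.contains a || decide (a < d)) &&
  ((List.range D.n).all fun a => (List.range D.n).all fun d =>
    Nat.ble d a || (match findRule D.rules d a 0 with
      | some (x :: y :: W, j) =>
        D.isGood j && (Nat.beq x a && ((Nat.beq y d && W.all fun z => D.derived.contains z) ||
          (D.derived.contains d && (y :: W).all fun z => D.derived.contains z)))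
      | _ => decide (d < a))))))))

theorem checkForms_of_fast {D : TailData} {T : Table (List ℕ)} {P : Table ℕ} {wt : List ℕ}
    (h : D.checkFormsFast T P wt = true) : D.checkForms = true := by
  simp only [TailData.checkFormsFast, Bool.and_eq_true] at h
  obtain ⟨hT, ⟨hnil, hmem⟩, rest⟩ := h
  simp only [TailData.checkForms, Bool.and_eq_true]
  refine ⟨?_, rest⟩
  simp only [closedCheck, Bool.and_eq_true, List.all_eq_true, List.contains_iff_mem]
  refine ⟨List.contains_iff_mem.1 hnil, fun w hw a ha => ⟨?_, fun _ _ => trivial⟩⟩
  have hm := List.all_eq_true.1 (List.all_eq_true.1 hmem w hw) a ha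
  rw [memForm, Bool.and_eq_true, Nat.blt_eq] at hm
  rw [← eqList_eq hm.2, of_decide_eq_true hT]
  exact List.mem_map.2 ⟨_, List.mem_range.2 (by simpa using hm.1), rfl⟩

end CfsgLib.SchurTail
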