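import Cfsg.Agent.Lib.Schur.Multiplier
import Mathlib.GroupTheory.FreeGroup.NielsenSchreier
import Mathlib.GroupTheory.Transfer
import Mathlib.GroupTheory.Index
import Mathlib.GroupTheory.FiniteAbelian.Duality
import Mathlib.RingTheory.RootsOfUnity.AlgebraicallyClosed
import Mathlib.Analysis.Complex.Polynomial.Basic

/-!
# Restriction and corestriction of Schur multipliers
-/

set_option autoImplicit false

universe u v

namespace CfsgLib.Schur

open Subgroup
open scoped commutatorElement

section Abelian

variable {B : Type u} {C : Type v} [CommGroup B] [CommGroup C] [Finite B]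

/-- A subgroup of an image of a finite abelian group embeds in that group. -/
theorem exists_subgroup_of_surjective (f : B →* C) (hf : Function.Surjective f) (X : Subgroup C) :
    ∃ D : Subgroup B, Nonempty (X ≃* D) := by
  have : Finite C := Finite.of_surjective f hf
  have : NeZero (Monoid.exponent B) := ⟨Monoid.exponent_ne_zero_of_finite⟩
  have : NeZero (Monoid.exponent C) := ⟨Monoid.exponent_ne_zero_of_finite⟩
  obtain ⟨eB⟩ := CommGroup.monoidHom_mulEquiv_of_hasEnoughRootsOfUnity B ℂ
  obtain ⟨eC⟩ := CommGroup.monoidHom_mulEquiv_of_hasEnoughRootsOfUnity C ℂ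
  let g : C →* B :=
    eB.toMonoidHom.comp ((MonoidHom.compHom' f).comp eC.symm.toMonoidHom)
  have hg : Function.Injective g := fun a b h => eC.symm.injective (by
    have := eB.injective h
    exact MonoidHom.ext fun c => by
      obtain ⟨x, rfl⟩ := hf c
      exact DFunLike.congr_fun this x)
  exact ⟨(g.comp X.subtype).range, ⟨MonoidHom.ofInjective (hg.comp Subtype.coe_injective)⟩⟩

end Abelian

variable {G : Type u} [Group G] (U : Subgroup G)

/-- The free presentation of a subgroup induced by the canonical one of the group. -/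
abbrev subPres : ↥(U.comap (pres G)) →* U := (pres G).subgroupComap U

theorem subPres_surjective : Function.Surjective (subPres U) :=
  MonoidHom.subgroupComap_surjective_of_surjective _ _ (pres_surjective G)

/-- The natural map `Cov (subPres U) →* Cov (pres G)`. -/
def covIncl : Cov (subPres U) →* Cov (pres G) :=
  QuotientGroup.map _ _ (U.comap (pres G)).subtype (by
    rw [relComm, commutator_le]
    intro a ha b _
    rw [mem_comap, map_commutatorElement]
    refine commutator_mem_commutator (MonoidHom.mem_ker.mpr ?_) (mem_top _)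
    exact congrArg Subtype.val (MonoidHom.mem_ker.mp ha))

theorem covIncl_covMk (a : U.comap (pres G)) :
    covIncl U (covMk (subPres U) a) = covMk (pres G) a := rfl

theorem proj_covIncl (x : Cov (subPres U)) :
    proj (pres G) (covIncl U x) = (proj (subPres U) x : G) := by
  obtain ⟨a, rfl⟩ := QuotientGroup.mk'_surjective _ x
  rfl

theorem range_covIncl : (covIncl U).range = U.comap (proj (pres G)) := by
  ext x
  constructor
  · rintro ⟨y, rfl⟩
    rw [mem_comap, proj_covIncl]
    exact (proj (subPres U) y).2
  · intro hx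
    obtain ⟨f, rfl⟩ := QuotientGroup.mk'_surjective _ x
    exact ⟨covMk (subPres U) ⟨f, hx⟩, rfl⟩

theorem covIncl_mem_mult {x : Cov (subPres U)} (hx : x ∈ mult (subPres U)) :
    covIncl U x ∈ mult (pres G) := by
  refine ⟨MonoidHom.mem_ker.mpr ?_, ?_⟩
  · rw [proj_covIncl, MonoidHom.mem_ker.mp hx.1]; rfl
  · have := mem_map_of_mem (covIncl U) hx.2
    rw [_root_.commutator_def, map_commutator] at this
    exact commutator_mono le_top le_top this

/-- Restriction to the multiplier. -/
def multIncl : mult (subPres U) →* M G :=
  ((covIncl U).comp (mult (subPres U)).subtype).codRestrict _ fun x => covIncl_mem_mult U x.2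

/-- The induced presentation of a subgroup computes its multiplier. -/
theorem mult_subPres_equiv [Finite G] : Nonempty (mult (subPres U) ≃* M U) := by
  obtain ⟨a, ha⟩ := exists_hom_onto (pres U) (pres_surjective U) (proj (subPres U))
    (proj_surjective _ (subPres_surjective U)) (ker_proj_le_center _)
  obtain ⟨b, hb⟩ := exists_hom_onto (subPres U) (subPres_surjective U) (proj (pres U))
    (proj_surjective _ (pres_surjective U)) (ker_proj_le_center _)
  let a' : M U →* mult (subPres U) := a
  let b' : mult (subPres U) →* M U := b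
  have hb' : Function.Surjective b' := hb
  have : Finite (mult (subPres U)) := mult_finite _
  exact ⟨MulEquiv.ofBijective b' (hb'.bijective_of_nat_card_le
    (Nat.card_le_card_of_surjective a' ha))⟩

/-- An element of the multiplier raised to the index comes from the subgroup. -/
theorem exists_mult_pow [Finite G] (z : M G) :
    ∃ w : mult (subPres U), multIncl U w = z ^ U.index := by
  let H : Subgroup (Cov (pres G)) := U.comap (proj (pres G))
  have hidx : H.index = U.index :=
    index_comap_of_surjective U (proj_surjective _ (pres_surjective G))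
  have : H.FiniteIndex := ⟨by rw [hidx]; exact FiniteIndex.index_ne_zero⟩
  have hz : (z : Cov (pres G)) ∈ center (Cov (pres G)) := mult_le_center _ z.2
  have key : ∀ (k : ℕ) (g₀ : Cov (pres G)), g₀⁻¹ * (z : Cov (pres G)) ^ k * g₀ ∈ H →
      g₀⁻¹ * (z : Cov (pres G)) ^ k * g₀ = (z : Cov (pres G)) ^ k := fun k g₀ _ => by
    rw [mul_assoc, ← mem_center_iff.mp (pow_mem hz k) g₀, inv_mul_cancel_left]
  have h1 : MonoidHom.transfer (Abelianization.of : H →* Abelianization H) (z : Cov (pres G)) = 1 :=
    Abelianization.commutator_subset_ker _ z.2.2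
  rw [MonoidHom.transfer_eq_pow _ _ key, ← MonoidHom.mem_ker, Abelianization.ker_of] at h1
  have h2 := mem_map_of_mem H.subtype h1
  rw [map_subtype_commutator] at h2
  have h3 : (commutator (Cov (subPres U))).map (covIncl U) = ⁅H, H⁆ := by
    rw [_root_.commutator_def, map_commutator, ← MonoidHom.range_eq_map, range_covIncl]
  obtain ⟨w, hw, hwe⟩ := mem_map.mp (h3.ge h2)
  have hwe' : covIncl U w = (z : Cov (pres G)) ^ U.index := by
    rw [hwe]; show (z : Cov (pres G)) ^ H.index = _; rw [hidx]
  refine ⟨⟨w, MonoidHom.mem_ker.mpr (Subtype.ext ?_), hw⟩, Subtype.ext ?_⟩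
  · rw [← proj_covIncl, hwe', map_pow, MonoidHom.mem_ker.mp z.2.1, one_pow]; rfl
  · exact hwe'

section Norm

variable [U.FiniteIndex]

instance comap_pres_finiteIndex : (U.comap (pres G)).FiniteIndex :=
  ⟨by rw [index_comap_of_surjective U (pres_surjective G)]; exact FiniteIndex.index_ne_zero⟩

/-- Conjugating a relator by a representative of a coset. -/
theorem conj_out_mem (r : (pres G).ker) (q : FreeGroup G ⧸ U.comap (pres G)) :
    q.out⁻¹ * (r : FreeGroup G) * q.out ∈ U.comap (pres G) := by
  rw [mem_comap, map_mul, map_mul, MonoidHom.mem_ker.mp r.2, mul_one, ← map_mul, inv_mul_cancel,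
    map_one]
  exact one_mem _

/-- The class of a conjugate of a relator in the covering of the subgroup. -/
def normTerm (r : (pres G).ker) (f : FreeGroup G) : (proj (subPres U)).ker :=
  ⟨covMk (subPres U) ⟨f⁻¹ * r * f, by
      rw [mem_comap, map_mul, map_mul, MonoidHom.mem_ker.mp r.2, mul_one, ← map_mul,
        inv_mul_cancel, map_one]
      exact one_mem _⟩,
    MonoidHom.mem_ker.mpr (Subtype.ext (by
      show pres G (f⁻¹ * r * f) = 1
      rw [map_mul, map_mul, MonoidHom.mem_ker.mp r.2, mul_one, ← map_mul, inv_mul_cancel,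
        map_one]))⟩

theorem normTerm_mul_right (r : (pres G).ker) (f : FreeGroup G) (h : U.comap (pres G)) :
    normTerm U r (f * h) = normTerm U r f := by
  apply Subtype.ext
  have hc := ker_proj_le_center (subPres U) (normTerm U r f).2
  show covMk (subPres U) ⟨(f * h)⁻¹ * r * (f * h), _⟩ = _
  calc _ = covMk (subPres U) h⁻¹ * (normTerm U r f).1 * covMk (subPres U) h := by
        simp only [normTerm, ← map_mul]
        congr 1
        apply Subtype.ext
        simp [mul_assoc]
    _ = (normTerm U r f).1 := by
        rw [mul_assoc, ← mem_center_iff.mp hc, map_inv, inv_mul_cancel_left]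

theorem normTerm_mul (r s : (pres G).ker) (f : FreeGroup G) :
    normTerm U (r * s) f = normTerm U r f * normTerm U s f := by
  apply Subtype.ext
  simp only [normTerm, Subgroup.coe_mul, ← map_mul]
  congr 1
  apply Subtype.ext
  simp [mul_assoc]

/-- The kernel of the covering map of the subgroup is abelian. -/
instance subKerCommGroup : CommGroup (proj (subPres U)).ker :=
  { (inferInstance : Group (proj (subPres U)).ker) with
    mul_comm := fun a b => Subtype.ext (mem_center_iff.mp (ker_proj_le_center _ b.2) a) }

/-- The norm map on relators. -/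
noncomputable def normHom : (pres G).ker →* (proj (subPres U)).ker :=
  letI := (U.comap (pres G)).fintypeQuotientOfFiniteIndex
  MonoidHom.mk' (fun r => ∏ q : FreeGroup G ⧸ U.comap (pres G), normTerm U r q.out)
    fun r s => by simp only [normTerm_mul, Finset.prod_mul_distrib]

theorem normHom_conj (r : (pres G).ker) (f : FreeGroup G) :
    normHom U ⟨f * r * f⁻¹, (inferInstance : (pres G).ker.Normal).conj_mem _ r.2 f⟩ =
      normHom U r := by
  letI := (U.comap (pres G)).fintypeQuotientOfFiniteIndex
  simp only [normHom, MonoidHom.mk'_apply]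
  refine Fintype.prod_equiv (MulAction.toPerm f⁻¹) _ _ fun q => ?_
  show _ = normTerm U r (f⁻¹ • q).out
  obtain ⟨h, hh⟩ := QuotientGroup.mk_out_eq_mul (U.comap (pres G)) (f⁻¹ * q.out)
  have e : f⁻¹ • q = QuotientGroup.mk (f⁻¹ * q.out) := by
    conv_lhs => rw [← QuotientGroup.out_eq' q]
    rfl
  rw [e, hh, normTerm_mul_right]
  apply Subtype.ext
  simp only [normTerm]
  congr 1
  apply Subtype.ext
  simp [mul_assoc]

theorem normHom_mem_commutator (r : (pres G).ker) (hr : (r : FreeGroup G) ∈ commutator (FreeGroup G)) :
    (normHom U r : Cov (subPres U)) ∈ commutator (Cov (subPres U)) := by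
  classical
  letI := (U.comap (pres G)).fintypeQuotientOfFiniteIndex
  let ψ : U.comap (pres G) →* Abelianization (Cov (subPres U)) :=
    Abelianization.of.comp (covMk (subPres U))
  have h1 : MonoidHom.transfer ψ (r : FreeGroup G) = 1 := Abelianization.commutator_subset_ker _ hr
  let T : (U.comap (pres G)).LeftTransversal :=
    ⟨Set.range Quotient.out, isComplement_range_left QuotientGroup.out_eq'⟩
  have hT : ∀ q, (T.2.leftQuotientEquiv q : FreeGroup G) = q.out := fun q =>
    IsComplement.leftQuotientEquiv_apply QuotientGroup.out_eq' q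
  rw [MonoidHom.transfer_def ψ T] at h1
  rw [← Abelianization.ker_of, MonoidHom.mem_ker]
  have h2 : ((normHom U r : (proj (subPres U)).ker) : Cov (subPres U)) =
      (proj (subPres U)).ker.subtype (∏ q : FreeGroup G ⧸ U.comap (pres G), normTerm U r q.out) := rfl
  rw [h2, ← MonoidHom.comp_apply, map_prod]
  refine Eq.trans (Finset.prod_congr rfl fun q _ => ?_) h1
  show Abelianization.of (covMk (subPres U) _) = Abelianization.of (covMk (subPres U) _)
  congr 2
  apply Subtype.ext
  show q.out⁻¹ * (r : FreeGroup G) * q.out = _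
  have hfix : (r : FreeGroup G)⁻¹ • q = q := by
    conv_lhs => rw [← QuotientGroup.out_eq' q]
    conv_rhs => rw [← QuotientGroup.out_eq' q]
    refine QuotientGroup.eq.mpr ?_
    simpa [mul_assoc] using conj_out_mem U r q
  simp [smul_apply_eq_smul_apply_inv_smul, hfix, hT, mul_assoc]

/-- The norm induces a hom of multipliers, a right inverse up to the index of restriction. -/
theorem exists_multNorm [Finite G] :
    ∃ t : M G →* mult (subPres U), ∀ z, multIncl U (t z) = z ^ U.index := by
  classical
  letI := (U.comap (pres G)).fintypeQuotientOfFiniteIndex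
  have hkill : ∀ r : (pres G).ker, (r : FreeGroup G) ∈ relComm (pres G) → normHom U r = 1 := by
    intro r hr
    have hle : relComm (pres G) ≤ ((normHom U).ker).map (pres G).ker.subtype := by
      rw [relComm, commutator_le]
      intro a ha f _
      refine ⟨⟨a, ha⟩ * ⟨f * a⁻¹ * f⁻¹,
        (inferInstance : (pres G).ker.Normal).conj_mem _ (inv_mem ha) f⟩, ?_, ?_⟩
      · have e : normHom U ⟨f * a⁻¹ * f⁻¹, (inferInstance : (pres G).ker.Normal).conj_mem _
            (inv_mem ha) f⟩ = normHom U ⟨a, ha⟩⁻¹ := normHom_conj U ⟨a, ha⟩⁻¹ f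
        rw [SetLike.mem_coe, MonoidHom.mem_ker, map_mul, e, map_inv, mul_inv_cancel]
      · simp [commutatorElement_def, mul_assoc]
    obtain ⟨r', hr', hrr⟩ := hle hr
    rw [← show r' = r from Subtype.ext hrr]
    exact hr'
  have hex : ∀ z : M G, ∃ r : (pres G).ker,
      (r : FreeGroup G) ∈ commutator (FreeGroup G) ∧ covMk (pres G) r = z := by
    intro z
    obtain ⟨f, hf, hfz⟩ := mem_map.mp ((map_commutator_eq_of_center (covMk (pres G))
      (by rw [MonoidHom.range_eq_top.mpr (QuotientGroup.mk'_surjective _), top_sup_eq])).ge z.2.2)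
    refine ⟨⟨f, MonoidHom.mem_ker.mpr ?_⟩, hf, hfz⟩
    rw [← proj_covMk (pres G) f, hfz]
    exact MonoidHom.mem_ker.mp z.2.1
  choose r hr hrz using hex
  have hmul : ∀ z z' : M G, normHom U (r (z * z')) = normHom U (r z) * normHom U (r z') := by
    intro z z'
    rw [← map_mul, ← inv_mul_eq_one, ← map_inv, ← map_mul]
    refine hkill _ ((QuotientGroup.eq_one_iff _).mp ?_)
    show covMk (pres G) ((r (z * z'))⁻¹ * (r z * r z') : (pres G).ker) = 1
    simp only [Subgroup.coe_mul, Subgroup.coe_inv, map_mul, map_inv, hrz]
    exact inv_mul_cancel _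
  refine ⟨MonoidHom.mk' (fun z => ⟨(normHom U (r z)).1, (normHom U (r z)).2,
    normHom_mem_commutator U _ (hr z)⟩) fun z z' => Subtype.ext (by
      show ((normHom U (r (z * z')) : (proj (subPres U)).ker) : Cov (subPres U)) =
        ((normHom U (r z) : (proj (subPres U)).ker) : Cov (subPres U)) *
          ((normHom U (r z') : (proj (subPres U)).ker) : Cov (subPres U))
      rw [hmul]
      rfl),
    fun z => Subtype.ext ?_⟩
  have hzc := mem_center_iff.mp (mult_le_center _ z.2)
  let instC : CommGroup (center (Cov (pres G))) :=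
    { (inferInstance : Group (center (Cov (pres G)))) with
      mul_comm := fun a b => Subtype.ext (mem_center_iff.mp b.2 a) }
  let Φ : (proj (subPres U)).ker →* center (Cov (pres G)) :=
    ((covIncl U).comp (proj (subPres U)).ker.subtype).codRestrict _ fun x => by
      refine ker_proj_le_center (pres G) (MonoidHom.mem_ker.mpr ?_)
      rw [MonoidHom.comp_apply, proj_covIncl, coe_subtype, MonoidHom.mem_ker.mp x.2]
      rfl
  have hq : ∀ q : FreeGroup G ⧸ U.comap (pres G),
      Φ (normTerm U (r z) q.out) = ⟨z, mult_le_center _ z.2⟩ := by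
    intro q
    apply Subtype.ext
    show covMk (pres G) (q.out⁻¹ * (r z : FreeGroup G) * q.out) = (z : Cov (pres G))
    rw [map_mul, map_mul, hrz, map_inv, mul_assoc, ← hzc, inv_mul_cancel_left]
  show ((Φ (∏ q : FreeGroup G ⧸ U.comap (pres G), normTerm U (r z) q.out) :
    center (Cov (pres G))) : Cov (pres G)) = ((z ^ U.index : M G) : Cov (pres G))
  rw [map_prod, Finset.prod_congr rfl fun q _ => hq q, Finset.prod_const, Finset.card_univ,
    ← Nat.card_eq_fintype_card]
  exact congrArg (fun n => (z : Cov (pres G)) ^ n) (index_comap_of_surjective U (pres_surjective G))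

end Norm

end CfsgLib.Schur
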